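import Mathlib
import Cfsg.Agent.S0205
import Cfsg.Agent.S0208
import Cfsg.Agent.S1279
import Cfsg.Agent.QuadMap.Squaring
import Cfsg.Agent.SolvSignalizer.TwoPrime.Odd
import Cfsg.Agent.SmallExp.Embedded
import Cfsg.Agent.PrimeGraph.ThreePrimes
import Cfsg.Agent.SuzukiSolv.Elementary

/-!
A finite group whose involutions form, with the identity, a central subgroup of order `2 ^ e`, `e` prime,
on which an automorphism acts transitively, is solvable.
-/

set_option autoImplicit false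

namespace CfsgLib.Pyramidal12

open Cfsg

/-- A finite group with an odd order normal subgroup with abelian quotient is solvable. -/
theorem isSolvable_of_complement {G : Type*} [Group G] [Finite G] {A : Type*} [CommGroup A]
    (f : G →* A) (hodd : ¬ 2 ∣ Nat.card f.ker) : Group.IsSolvable G := by
  haveI : Group.IsSolvable f.ker :=
    Cfsg.Agent.S0205.result (Nat.not_even_iff_odd.1 fun h => hodd (even_iff_two_dvd.1 h))
  haveI : Group.IsSolvable A := Group.isSolvable_of_comm fun a b => mul_comm a b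
  exact Group.isSolvable_of_ker_le_range f.ker.subtype f (by rw [Subgroup.range_subtype])

/-- A group with an abelian Sylow 2-subgroup with trivial normalizer action is solvable. -/
theorem isSolvable_of_normalizer_le {G : Type*} [Group G] [Finite G] (P : Sylow 2 G)
    (hP : Subgroup.normalizer ((P : Subgroup G) : Set G) ≤ Subgroup.centralizer (P : Set G)) :
    Group.IsSolvable G := by
  haveI : Fact (Nat.Prime 2) := ⟨Nat.prime_two⟩
  haveI : IsMulCommutative (P : Subgroup G) :=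
    ⟨⟨fun a b => Subtype.ext (hP (Subgroup.le_normalizer b.2) a a.2)⟩⟩
  haveI : Group.IsSolvable (MonoidHom.transferSylow P hP).ker :=
    Cfsg.Agent.S0205.result (Nat.not_even_iff_odd.1 fun h =>
      MonoidHom.not_dvd_card_ker_transferSylow P hP (even_iff_two_dvd.1 h))
  haveI : Group.IsSolvable (P : Subgroup G) := Group.isSolvable_of_comm fun a b =>
    Subtype.ext (hP (Subgroup.le_normalizer b.2) a a.2)
  exact Group.isSolvable_of_ker_le_range (MonoidHom.transferSylow P hP).ker.subtype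
    (MonoidHom.transferSylow P hP) (by rw [Subgroup.range_subtype])

/-- An abelian Sylow 2-subgroup and central involutions make the group solvable. -/
theorem isSolvable_of_central_involutions {G : Type*} [Group G] [Finite G] (Q : Sylow 2 G)
    (hQ : ∀ a ∈ (Q : Subgroup G), ∀ b ∈ (Q : Subgroup G), a * b = b * a)
    (hc : ∀ z : G, z * z = 1 → z ∈ Subgroup.center G) : Group.IsSolvable G := by
  haveI : Fact (Nat.Prime 2) := ⟨Nat.prime_two⟩
  haveI : IsMulCommutative (Q : Subgroup G) :=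
    ⟨⟨fun a b => Subtype.ext (hQ a a.2 b b.2)⟩⟩
  letI : CommGroup (Q : Subgroup G) :=
    { (inferInstance : Group (Q : Subgroup G)) with mul_comm := fun a b => Subtype.ext (hQ a a.2 b b.2) }
  set f : G →* (Q : Subgroup G) := MonoidHom.transfer (MonoidHom.id (Q : Subgroup G)) with hf
  refine isSolvable_of_complement f fun h2 => ?_
  obtain ⟨z, hz⟩ := exists_prime_orderOf_dvd_card' (G := f.ker) 2 h2
  rw [← Subgroup.orderOf_coe] at hz
  have hz2 : (z : G) * z = 1 := by have := pow_orderOf_eq_one (z : G); rwa [hz, pow_two] at this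
  have hzc := hc _ hz2
  have key : ∀ (k : ℕ) (g₀ : G), g₀⁻¹ * (z : G) ^ k * g₀ ∈ (Q : Subgroup G) →
      g₀⁻¹ * (z : G) ^ k * g₀ = (z : G) ^ k := fun k g₀ _ => by
    rw [mul_assoc, ← Subgroup.mem_center_iff.1 (pow_mem hzc k) g₀, inv_mul_cancel_left]
  have h1 := MonoidHom.transfer_eq_pow (MonoidHom.id (Q : Subgroup G)) (z : G) key
  rw [← hf, MonoidHom.mem_ker.1 z.2] at h1
  have h3 : (z : G) ^ (Q : Subgroup G).index = 1 := (congrArg Subtype.val h1).symm
  exact Q.not_dvd_index ((dvd_of_eq hz.symm).trans (orderOf_dvd_of_pow_eq_one h3))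

/-- A quadratic map into an elementary abelian group, with a transitive pair of symmetries, on an
elementary abelian Sylow 2-subgroup, constant on the classes of the group. -/
structure Aniso {G : Type*} [Group G] (V : Sylow 2 G) (W : Type*) [CommGroup W] (e : ℕ)
    (q : ↥(V : Subgroup G) → W) (σ : (V : Subgroup G) ≃ (V : Subgroup G)) (τ : W ≃* W) : Prop where
  prime : e.Prime
  card : Nat.card W = 2 ^ e
  prime' : (2 ^ e - 1).Prime
  sqW : ∀ w : W, w * w = 1
  sq : ∀ v ∈ (V : Subgroup G), v * v = 1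
  nontrivial : Nontrivial (V : Subgroup G)
  zero : ∀ v, q v = 1 ↔ v = 1
  bilin : ∀ x y z : (V : Subgroup G),
    (q (x * y * z) * q (x * y) * q z) = (q (x * z) * q x * q z) * (q (y * z) * q y * q z)
  inv : ∀ (g : G) (v v' : (V : Subgroup G)), g * v * g⁻¹ = v' → q v' = q v
  trans : ∀ u v : W, u ≠ 1 → v ≠ 1 → ∃ i : ℕ, (τ ^ i : W ≃* W) u = v
  equiv : ∀ v, q (σ v) = τ (q v)

namespace Aniso

variable {G : Type*} [Group G] [Finite G] {V : Sylow 2 G} {W : Type*} [CommGroup W] [Finite W]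
  {e : ℕ} {q : ↥(V : Subgroup G) → W} {σ : (V : Subgroup G) ≃ (V : Subgroup G)} {τ : W ≃* W}
  (h : Aniso V W e q σ τ)
include h

theorem equiv_pow (i : ℕ) (v : (V : Subgroup G)) :
    q ((σ : ↥(V : Subgroup G) → (V : Subgroup G))^[i] v) = (τ ^ i : W ≃* W) (q v) := by
  induction i with
  | zero => rfl
  | succ i ih => rw [Function.iterate_succ_apply', h.equiv, ih, pow_succ']; rfl

theorem prime_ge : 3 ≤ 2 ^ e - 1 := by
  have := Nat.pow_le_pow_right (show 0 < 2 by norm_num) h.prime.two_le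
  omega

theorem exists_char : ∃ l : W →* ℤˣ, l ≠ 1 := by
  haveI : Nontrivial W := Finite.one_lt_card_iff_nontrivial.1 (by
    rw [h.card]; exact Nat.one_lt_two_pow h.prime.ne_zero)
  obtain ⟨w, hw⟩ := exists_ne (1 : W)
  obtain ⟨H, -, hH, hwH⟩ := QuadMap.exists_index_two_not_mem (K := (⊥ : Subgroup W))
    (fun g => by rw [Subgroup.mem_bot, h.sqW]) (Subgroup.mem_bot.not.2 hw)
  obtain ⟨μ, hμ⟩ := QuadMap.exists_sign_char hH
  exact ⟨μ, fun e => hwH ((hμ w).1 (by rw [e, MonoidHom.one_apply]))⟩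

/-- The sum of a nontrivial character over the orbit of an element other than `1`. -/
theorem sum_orbit {l : W →* ℤˣ} (hl : l ≠ 1) {u : W} (hu : u ≠ 1) :
    ∑ i ∈ Finset.range (2 ^ e - 1), (l ((τ ^ i : W ≃* W) u) : ℤ) = -1 := by
  classical
  letI := Fintype.ofFinite W
  set p := 2 ^ e - 1
  have hne : ∀ i : ℕ, (τ ^ i : W ≃* W) u ≠ 1 := fun i hi =>
    hu ((τ ^ i : W ≃* W).map_eq_one_iff.1 hi)
  -- the orbit map is onto and periodic
  have hcard : (Finset.univ.erase (1 : W)).card = p := by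
    rw [Finset.card_erase_of_mem (Finset.mem_univ _), Finset.card_univ, ← Nat.card_eq_fintype_card,
      h.card]
  have hex : ∃ m, 0 < m ∧ (τ ^ m : W ≃* W) u = u := by
    haveI : Finite (W ≃* W) := Finite.of_injective (fun k : W ≃* W => (k : W → W)) DFunLike.coe_injective
    exact ⟨orderOf τ, orderOf_pos τ, by rw [pow_orderOf_eq_one]; rfl⟩
  set m := Nat.find hex with hm
  obtain ⟨hm0, hmu⟩ := Nat.find_spec hex
  rw [← hm] at hm0 hmu
  have hper : ∀ i, (τ ^ i : W ≃* W) u = (τ ^ (i % m) : W ≃* W) u := by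
    intro i
    conv_lhs => rw [← Nat.mod_add_div i m, pow_add, MulAut.mul_apply]
    congr 1
    induction i / m with
    | zero => simp
    | succ k ih => rw [mul_add, mul_one, pow_add, MulAut.mul_apply, hmu, ih]
  have hinj : Set.InjOn (fun i => (τ ^ i : W ≃* W) u) (Finset.range m : Set ℕ) := by
    have key : ∀ a b : ℕ, a < b → b < m → (τ ^ a : W ≃* W) u ≠ (τ ^ b : W ≃* W) u := by
      intro a b hlt hb hab
      have : (τ ^ (b - a) : W ≃* W) u = u := by
        apply (τ ^ a : W ≃* W).injective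
        rw [← MulAut.mul_apply, ← pow_add, show a + (b - a) = b by omega]
        exact hab.symm
      exact Nat.find_min hex (show b - a < m by omega) ⟨by omega, this⟩
    intro a ha b hb hab
    simp only [Finset.coe_range, Set.mem_Iio] at ha hb
    rcases lt_trichotomy a b with hlt | hlt | hlt
    · exact absurd hab (key a b hlt hb)
    · exact hlt
    · exact absurd hab.symm (key b a hlt ha)
  have himg : (Finset.range m).image (fun i => (τ ^ i : W ≃* W) u) = Finset.univ.erase 1 := by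
    ext v
    simp only [Finset.mem_image, Finset.mem_range, Finset.mem_erase, Finset.mem_univ, and_true]
    refine ⟨fun ⟨i, _, hi⟩ => hi ▸ hne i, fun hv => ?_⟩
    obtain ⟨i, hi⟩ := h.trans u v hu hv
    exact ⟨i % m, Nat.mod_lt _ hm0, by rw [← hper, hi]⟩
  have hmp : m = p := by
    rw [← hcard, ← himg, Finset.card_image_of_injOn hinj, Finset.card_range]
  rw [← hmp]
  rw [← Finset.sum_image (f := fun w => (l w : ℤ)) hinj, himg,
    Finset.sum_erase_eq_sub (Finset.mem_univ _), map_one]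
  have h0 : ((Units.coeHom ℤ).comp l) ≠ 1 := fun e' => hl (MonoidHom.ext fun x =>
    Units.ext (DFunLike.congr_fun e' x))
  have := sum_hom_units_eq_zero ((Units.coeHom ℤ).comp l) h0
  simp only [MonoidHom.comp_apply, Units.coeHom_apply] at this
  rw [this]; simp

/-- The sum of the character sums of a subgroup along the orbit of a character. -/
theorem sum_sums {l : W →* ℤˣ} (hl : l ≠ 1) (U : Subgroup (V : Subgroup G)) [Fintype U] :
    ∑ i ∈ Finset.range (2 ^ e - 1), ∑ x : U, (l ((τ ^ i : W ≃* W) (q x)) : ℤ)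
      = 2 ^ e - (Fintype.card U : ℤ) := by
  classical
  rw [Finset.sum_comm]
  have : ∀ x : U, ∑ i ∈ Finset.range (2 ^ e - 1), (l ((τ ^ i : W ≃* W) (q x)) : ℤ)
      = (if x = 1 then (2 : ℤ) ^ e else 0) - 1 := by
    intro x
    by_cases hx : x = 1
    · subst hx
      simp [(h.zero _).2 rfl]
    · rw [if_neg hx, zero_sub]
      exact h.sum_orbit hl fun hq => hx (Subtype.ext ((h.zero _).1 hq))
  rw [Finset.sum_congr rfl fun x _ => this x, Finset.sum_sub_distrib, Finset.sum_ite_eq',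
    if_pos (Finset.mem_univ _), Finset.sum_const, Finset.card_univ]
  simp

/-- The character sum of the whole subgroup does not depend on the character in its orbit. -/
theorem sum_const [Fintype (V : Subgroup G)] (l : W →* ℤˣ) (i : ℕ) :
    ∑ v : (V : Subgroup G), (l ((τ ^ i : W ≃* W) (q v)) : ℤ) = ∑ v, (l (q v) : ℤ) := by
  refine Fintype.sum_equiv ((σ : Equiv.Perm (V : Subgroup G)) ^ i) _ _ fun v => ?_
  rw [Equiv.Perm.coe_pow, h.equiv_pow]

theorem dvd_sq (U : Subgroup (V : Subgroup G)) [Fintype U] (l : W →* ℤˣ) :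
    (Fintype.card U : ℤ) ∣ (∑ x : U, (l (q x) : ℤ)) ^ 2 := by
  refine QuadMap.card_dvd_sum_sq (fun x : U => l (q x)) fun x y z => ?_
  simp only [QuadMap.polar, Subgroup.coe_mul, ← map_mul]
  rw [h.bilin]

theorem dims : Nat.card (V : Subgroup G) = 2 ^ e ∨ Nat.card (V : Subgroup G) = 2 ^ (2 * e) := by
  classical
  letI := Fintype.ofFinite (V : Subgroup G)
  haveI : Fact (Nat.Prime 2) := ⟨Nat.prime_two⟩
  obtain ⟨n, hn⟩ := V.isPGroup'.exists_card_eq
  obtain ⟨l, hl⟩ := h.exists_char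
  have h3 := h.prime_ge
  have hp : ((2 ^ e - 1 : ℕ) : ℤ) = 2 ^ e - 1 := by
    rw [Nat.cast_sub (Nat.one_le_two_pow)]; push_cast; ring
  set S := ∑ v : (V : Subgroup G), (l (q v) : ℤ) with hS
  have hpS : (2 ^ e - 1 : ℤ) * S = 2 ^ e - 2 ^ n := by
    have h1 := h.sum_sums hl (⊤ : Subgroup (V : Subgroup G))
    rw [Fintype.card_congr Subgroup.topEquiv.toEquiv, ← Nat.card_eq_fintype_card, hn] at h1
    push_cast at h1
    rw [← h1]
    have : ∀ i, ∑ x : (⊤ : Subgroup (V : Subgroup G)), (l ((τ ^ i : W ≃* W) (q x)) : ℤ) = S := fun i => by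
      rw [hS, ← h.sum_const l i]
      exact Fintype.sum_equiv Subgroup.topEquiv.toEquiv _ _ fun x => rfl
    rw [Finset.sum_congr rfl fun i _ => this i, Finset.sum_const, Finset.card_range, nsmul_eq_mul, hp]
  have hn0 : 1 ≤ n := by
    by_contra hn0
    haveI := h.nontrivial
    have := Finite.one_lt_card (α := (V : Subgroup G))
    rw [hn, show n = 0 by omega] at this
    simp at this
  have hdS : (2 ^ n : ℤ) ∣ S ^ 2 := by
    have h1 := h.dvd_sq (⊤ : Subgroup (V : Subgroup G)) l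
    rw [Fintype.card_congr Subgroup.topEquiv.toEquiv, ← Nat.card_eq_fintype_card, hn] at h1
    push_cast at h1
    rwa [show ∑ x : (⊤ : Subgroup (V : Subgroup G)), (l (q x) : ℤ) = S from
      Fintype.sum_equiv Subgroup.topEquiv.toEquiv _ _ fun x => rfl] at h1
  rw [hn]
  have h2 : ∀ a b : ℕ, a < b → (2 : ℤ) ^ a < 2 ^ b := fun a b hab => pow_lt_pow_right₀ (by norm_num) hab
  rcases Nat.lt_or_ge n e with hne | hne
  · exfalso
    have hlo : (0 : ℤ) < 2 ^ e - 2 ^ n := by have := h2 n e hne; omega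
    have hhi : (2 ^ e - 2 ^ n : ℤ) < 2 ^ e - 1 := by
      have := h2 0 n (by omega); simp at this; omega
    rw [← hpS] at hlo hhi
    have hp0 : (0 : ℤ) < 2 ^ e - 1 := by omega
    have hS0 : 0 < S := pos_of_mul_pos_right hlo hp0.le
    nlinarith
  obtain ⟨t, rfl⟩ := Nat.exists_eq_add_of_le hne
  rcases Nat.eq_zero_or_pos t with rfl | ht
  · exact Or.inl rfl
  refine Or.inr (congrArg (2 ^ ·) ?_)
  have e1 : (2 ^ e - 1 : ℤ) * S = -(2 ^ e * (2 ^ t - 1)) := by rw [hpS, pow_add]; ring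
  have hte : e ≤ t := by
    by_contra hte
    have hdvd : (2 ^ e - 1 : ℤ) ∣ 2 ^ t - 1 := by
      have : (2 ^ e - 1 : ℤ) ∣ 2 ^ e * (2 ^ t - 1) := ⟨-S, by rw [mul_neg, e1]; ring⟩
      obtain ⟨k, hk⟩ := this
      exact ⟨k - (2 ^ t - 1), by linarith [hk]⟩
    have h4 := h2 t e (by omega)
    have h5 := h2 0 t ht
    simp at h5
    have := Int.le_of_dvd (by omega) hdvd
    omega
  suffices e + t ≤ 2 * e by omega
  have hd : (2 ^ (e + t) : ℤ) ∣ 2 ^ (2 * e) * (2 ^ t - 1) ^ 2 := by
    have : ((2 : ℤ) ^ e - 1) ^ 2 * S ^ 2 = 2 ^ (2 * e) * (2 ^ t - 1) ^ 2 := by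
      rw [← mul_pow, e1, two_mul, pow_add]; ring
    rw [← this]; exact hdS.mul_left _
  have hcop : IsCoprime ((2 : ℤ) ^ (e + t)) ((2 ^ t - 1) ^ 2) := by
    refine IsCoprime.pow (IsCoprime.symm ?_)
    refine ⟨-1, 2 ^ (t - 1), ?_⟩
    rw [← pow_succ, show t - 1 + 1 = t by omega]; ring
  have hle := Int.le_of_dvd (by positivity) (hcop.dvd_of_dvd_mul_right hd)
  by_contra hlt
  have := h2 (2 * e) (e + t) (by omega)
  omega

theorem surj_val {u : W} (hu : u ≠ 1) : ∃ v, q v = u := by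
  haveI := h.nontrivial
  obtain ⟨v, hv⟩ := exists_ne (1 : (V : Subgroup G))
  obtain ⟨i, hi⟩ := h.trans (q v) u (fun e => hv ((h.zero v).1 e)) hu
  exact ⟨(σ : ↥(V : Subgroup G) → (V : Subgroup G))^[i] v, by rw [h.equiv_pow, hi]⟩

/-- An element of the normalizer of `V` fixing a nontrivial element of `V` centralizes `V`. -/
theorem free {g : G} (hg : g ∈ Subgroup.normalizer ((V : Subgroup G) : Set G))
    {v₀ : (V : Subgroup G)} (hv₀ : v₀ ≠ 1) (hfix : g * v₀ * g⁻¹ = v₀) :
    g ∈ Subgroup.centralizer ((V : Subgroup G) : Set G) := by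
  classical
  haveI : Fact (Nat.Prime 2) := ⟨Nat.prime_two⟩
  have hcomm : ∀ a b : (V : Subgroup G), a * b = b * a := fun a b => by
    have hsq : ∀ x : (V : Subgroup G), x⁻¹ = x := fun x =>
      inv_eq_of_mul_eq_one_right (Subtype.ext (h.sq _ x.2))
    calc a * b = (a * b)⁻¹ := (hsq _).symm
      _ = b * a := by rw [mul_inv_rev, hsq, hsq]
  letI : CommGroup (V : Subgroup G) :=
    { (inferInstance : Group (V : Subgroup G)) with mul_comm := hcomm }
  letI := Fintype.ofFinite (V : Subgroup G)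
  set N := Subgroup.normalizer ((V : Subgroup G) : Set G) with hN
  set φ : N →* MulAut ((V : Subgroup G)) := Subgroup.normalizerMonoidHom _ with hφ
  haveI : Finite (MulAut (V : Subgroup G)) :=
    Finite.of_injective (fun k : MulAut (V : Subgroup G) => ((k : ↥(V : Subgroup G) → (V : Subgroup G))))
      DFunLike.coe_injective
  set α := φ ⟨g, hg⟩ with hα
  have hαv : ∀ v : (V : Subgroup G), ((α v : (V : Subgroup G)) : G) = g * v * g⁻¹ := fun v => rfl
  -- odd order
  have hodd : Odd (orderOf α) := by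
    have h1 : orderOf α ∣ φ.ker.index := by
      rw [Subgroup.index_ker, hα]
      exact (orderOf_injective φ.range.subtype φ.range.subtype_injective ⟨_, ⟨g, hg⟩, rfl⟩) ▸
        orderOf_dvd_natCard _
    have hle : (V : Subgroup G).subgroupOf N ≤ φ.ker := by
      intro x hx
      refine MonoidHom.mem_ker.2 (MulEquiv.ext fun v => Subtype.ext ?_)
      show (x : G) * v * (x : G)⁻¹ = v
      rw [show (x : G) * v = v * x from congrArg Subtype.val (hcomm ⟨x, hx⟩ v), mul_inv_cancel_right]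
    have h2 := (h1.trans (Subgroup.index_dvd_of_le hle)).trans
      (Subgroup.relIndex_dvd_index_of_le (Subgroup.le_normalizer : (V : Subgroup G) ≤ N) :
        ((V : Subgroup G).subgroupOf N).index ∣ (V : Subgroup G).index)
    exact Nat.not_even_iff_odd.1 fun he => V.not_dvd_index ((even_iff_two_dvd.1 he).trans h2)
  have hq : ∀ v, q (α v) = q v := fun v => h.inv g v (α v) (hαv v).symm
  let d : ↥(V : Subgroup G) →* (V : Subgroup G) := MonoidHom.mk' (fun v => α v / v) fun a b => by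
    rw [map_mul]; exact (div_mul_div_comm _ _ _ _).symm
  set U := d.ker with hU
  set M := d.range with hM
  have hUfix : ∀ u, u ∈ U ↔ α u = u := fun u => by rw [hU, MonoidHom.mem_ker]; exact div_eq_one
  by_contra hgc
  have hM1 : M ≠ ⊥ := by
    intro hbot
    refine hgc (Subgroup.mem_centralizer_iff.2 fun x hx => ?_)
    have h1 : d ⟨x, hx⟩ = 1 := Subgroup.mem_bot.1 (hbot ▸ ⟨⟨x, hx⟩, rfl⟩)
    have h2 := congrArg Subtype.val ((hUfix ⟨x, hx⟩).1 (MonoidHom.mem_ker.2 h1))
    rw [hαv] at h2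
    exact (mul_inv_eq_iff_eq_mul.1 h2).symm
  have hU1 : U ≠ ⊥ := fun hbot => hv₀ (Subgroup.mem_bot.1 (hbot ▸ (hUfix v₀).2 (Subtype.ext
    (by rw [hαv]; exact hfix))))
  have hcard : Nat.card U * Nat.card M = Nat.card (V : Subgroup G) := by
    rw [hM, ← Subgroup.index_ker, ← hU, Subgroup.card_mul_index]
  have hdisj : ∀ u ∈ U, u ∈ M → u = 1 := by
    rintro u hu ⟨v, rfl⟩
    have hu' := (hUfix _).1 hu
    have hpow : ∀ i : ℕ, (α ^ i : MulAut (V : Subgroup G)) v = d v ^ i * v := by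
      intro i
      induction i with
      | zero => simp
      | succ i ih =>
        rw [pow_succ', MulAut.mul_apply, ih, map_mul, map_pow, hu', pow_succ, mul_assoc]
        congr 1
        exact (div_mul_cancel _ _).symm
    have := hpow (orderOf α)
    rw [pow_orderOf_eq_one, MulAut.one_apply, eq_comm, mul_eq_right] at this
    have h2 := orderOf_dvd_of_pow_eq_one this
    have h3 := orderOf_dvd_of_pow_eq_one (show d v ^ 2 = 1 by
      rw [pow_two]; exact Subtype.ext (h.sq _ (d v).2))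
    exact orderOf_eq_one_iff.1 (Nat.eq_one_of_dvd_coprimes (Nat.coprime_two_left.2 hodd) h3 h2)
  -- the map is additive on the decomposition
  have hadd : ∀ u ∈ U, ∀ m ∈ M, q (u * m) = q u * q m := by
    rintro u hu _ ⟨v, rfl⟩
    have hu' := (hUfix _).1 hu
    have hdv : d v = α v * v := by
      show α v / v = α v * v
      rw [div_eq_mul_inv, inv_eq_of_mul_eq_one_right (Subtype.ext (h.sq _ v.2) : v * v = 1)]
    have hb := h.bilin (α v) v u
    rw [hdv, mul_comm u]
    have h1 : q (α v * u) = q (v * u) := by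
      conv_lhs => rw [← hu', ← map_mul, hq]
    rw [h1, hq] at hb
    have h4 : q (v * u) * q v * q u * (q (v * u) * q v * q u) = 1 := h.sqW _
    rw [h4] at hb
    calc q (α v * v * u) = q (α v * v * u) * q (α v * v) * q u * (q (α v * v) * q u) := by
          have aux : ∀ X Y Z : W, X = X * Y * Z * (Y * Z) := fun X Y Z => by
            rw [mul_assoc X Y Z, mul_assoc, h.sqW, mul_one]
          exact aux _ _ _
      _ = q u * q (α v * v) := by rw [hb, one_mul, mul_comm]
  -- the sums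
  have hprod : ∀ l : W →* ℤˣ, (∑ x : U, (l (q x) : ℤ)) * ∑ y : M, (l (q y) : ℤ) =
      ∑ v, (l (q v) : ℤ) := by
    intro l
    rw [Finset.sum_mul_sum, ← Finset.sum_product']
    have hbij : Function.Bijective fun x : U × M => ((x.1 : (V : Subgroup G)) * x.2) := by
      rw [Nat.bijective_iff_injective_and_card]
      refine ⟨fun x y hxy => ?_, by rw [Nat.card_prod, hcard]⟩
      have h1 : (y.1 : (V : Subgroup G))⁻¹ * x.1 = y.2 * (x.2 : (V : Subgroup G))⁻¹ := by
        rw [eq_mul_inv_iff_mul_eq, mul_assoc, inv_mul_eq_iff_eq_mul]; exact hxy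
      have h2 := hdisj _ (U.mul_mem (U.inv_mem y.1.2) x.1.2) (h1 ▸ M.mul_mem y.2.2 (M.inv_mem x.2.2))
      rw [h2, eq_comm, mul_inv_eq_one] at h1
      exact Prod.ext (Subtype.ext (inv_mul_eq_one.1 h2).symm) (Subtype.ext h1.symm)
    refine Fintype.sum_equiv (Equiv.ofBijective _ hbij) _ _ fun x => ?_
    show _ = ((l (q ((x.1 : (V : Subgroup G)) * x.2))) : ℤ)
    rw [hadd _ x.1.2 _ x.2.2, map_mul, Units.val_mul]
  obtain ⟨l, hl⟩ := h.exists_char
  have hp3 := h.prime_ge
  have hp : ((2 ^ e - 1 : ℕ) : ℤ) = 2 ^ e - 1 := by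
    rw [Nat.cast_sub (Nat.one_le_two_pow)]; push_cast; ring
  obtain ⟨u, hu⟩ := (V.isPGroup'.to_subgroup U).exists_card_eq
  obtain ⟨m, hm⟩ := (V.isPGroup'.to_subgroup M).exists_card_eq
  have hu0 : 1 ≤ u := Nat.one_le_iff_ne_zero.2 fun e0 => hU1
    (Subgroup.card_eq_one.1 (by rw [hu, e0, pow_zero]))
  have hm0 : 1 ≤ m := Nat.one_le_iff_ne_zero.2 fun e0 => hM1
    (Subgroup.card_eq_one.1 (by rw [hm, e0, pow_zero]))
  rw [hu, hm, ← pow_add] at hcard
  rcases h.dims with hV | hV
  · -- bijective case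
    have hinj : Function.Injective q := by
      refine ((Nat.bijective_iff_surjective_and_card q).2 ⟨fun w => ?_, by rw [hV, h.card]⟩).1
      by_cases hw : w = 1
      · exact ⟨1, hw ▸ (h.zero 1).2 rfl⟩
      · exact h.surj_val hw
    refine hM1 ((Subgroup.eq_bot_iff_forall _).2 ?_)
    rintro _ ⟨v, rfl⟩
    exact div_eq_one.2 (hinj (hq v))
  rw [hV] at hcard
  have hum : u + m = 2 * e := Nat.pow_right_injective le_rfl hcard
  -- each sum over `U` squares to its order
  have hsqU : ∀ i, (∑ x : U, (l ((τ ^ i : W ≃* W) (q x)) : ℤ)) ^ 2 = 2 ^ u := by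
    intro i
    let l' : W →* ℤˣ := l.comp (τ ^ i : W ≃* W).toMonoidHom
    have hUd := h.dvd_sq U l'
    have hMd := h.dvd_sq M l'
    rw [← Nat.card_eq_fintype_card, hu] at hUd
    rw [← Nat.card_eq_fintype_card, hm] at hMd
    push_cast at hUd hMd
    show (∑ x : U, (l' (q x) : ℤ)) ^ 2 = 2 ^ u
    have hS : ∑ v, (l' (q v) : ℤ) = -2 ^ e := by
      have h1 := h.sum_sums hl (⊤ : Subgroup (V : Subgroup G))
      rw [Fintype.card_congr Subgroup.topEquiv.toEquiv, ← Nat.card_eq_fintype_card, hV] at h1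
      have hS0 : ∀ j, ∑ x : (⊤ : Subgroup (V : Subgroup G)), (l ((τ ^ j : W ≃* W) (q x)) : ℤ) =
          ∑ v, (l' (q v) : ℤ) := fun j =>
        (Fintype.sum_equiv Subgroup.topEquiv.toEquiv _ (fun v => (l ((τ ^ j : W ≃* W) (q v)) : ℤ))
          fun x => rfl).trans ((h.sum_const l j).trans (h.sum_const l i).symm)
      rw [Finset.sum_congr rfl fun j _ => hS0 j, Finset.sum_const, Finset.card_range, nsmul_eq_mul,
        hp] at h1
      push_cast at h1
      refine mul_left_cancel₀ (show (2 ^ e - 1 : ℤ) ≠ 0 by omega) ?_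
      rw [h1, two_mul, pow_add]; ring
    rw [← hprod l'] at hS
    obtain ⟨a, ha⟩ := hUd
    obtain ⟨b, hb⟩ := hMd
    have hab : a * b = 1 := by
      have : (2 : ℤ) ^ u * 2 ^ m * (a * b) = 2 ^ u * 2 ^ m := by
        calc (2 : ℤ) ^ u * 2 ^ m * (a * b) = (2 ^ u * a) * (2 ^ m * b) := by ring
          _ = ((∑ x : U, (l' (q x) : ℤ)) * ∑ y : M, (l' (q y) : ℤ)) ^ 2 := by rw [← ha, ← hb]; ring
          _ = _ := by rw [hS, neg_sq, ← pow_mul, ← pow_add, hum, mul_comm e 2]
      exact mul_left_cancel₀ (mul_ne_zero (pow_ne_zero _ two_ne_zero) (pow_ne_zero _ two_ne_zero))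
        (this.trans (mul_one _).symm)
    have ha0 : 0 ≤ a := nonneg_of_mul_nonneg_right (ha ▸ sq_nonneg _ : (0 : ℤ) ≤ 2 ^ u * a)
      (by positivity)
    rw [ha, Int.eq_one_of_mul_eq_one_right ha0 hab, mul_one]
  obtain ⟨r, hr⟩ : ∃ r, u = 2 * r := by
    have h0 := hsqU 0
    set A := ∑ x : U, (l ((τ ^ 0 : W ≃* W) (q x)) : ℤ) with hA
    have hA2 : A.natAbs ^ 2 = 2 ^ u := by
      have := congrArg Int.natAbs h0
      rw [Int.natAbs_pow, Int.natAbs_pow] at this
      simpa using this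
    obtain ⟨k, -, hk⟩ := (Nat.dvd_prime_pow Nat.prime_two).1 (hA2 ▸ dvd_pow_self A.natAbs two_ne_zero)
    rw [hk, ← pow_mul] at hA2
    exact ⟨k, by rw [← Nat.pow_right_injective le_rfl hA2, mul_comm]⟩
  have hA : ∀ i, ∃ ε : ℤ, Odd ε ∧
      ∑ x : U, (l ((τ ^ i : W ≃* W) (q x)) : ℤ) = 2 ^ r * ε := fun i => by
    have h1 : (∑ x : U, (l ((τ ^ i : W ≃* W) (q x)) : ℤ)) ^ 2 = ((2 : ℤ) ^ r) ^ 2 := by
      rw [hsqU, hr, ← pow_mul, mul_comm]
    rcases sq_eq_sq_iff_eq_or_eq_neg.1 h1 with h2 | h2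
    · exact ⟨1, odd_one, by rw [h2, mul_one]⟩
    · exact ⟨-1, odd_one.neg, by rw [h2]; ring⟩
  choose ε hε hA using hA
  have h1 := h.sum_sums hl U
  rw [← Nat.card_eq_fintype_card, hu, Finset.sum_congr rfl fun i _ => hA i, ← Finset.mul_sum] at h1
  push_cast at h1
  have hre : r < e := by omega
  have h2 : ∑ i ∈ Finset.range (2 ^ e - 1), ε i = 2 ^ (e - r) - 2 ^ r := by
    refine mul_left_cancel₀ (pow_ne_zero r (two_ne_zero (α := ℤ))) ?_
    rw [h1, mul_sub, ← pow_add, ← pow_add, hr, two_mul, show r + (e - r) = e by omega]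
  have hev : Even ((2 : ℤ) ^ (e - r) - 2 ^ r) :=
    (Int.even_pow.2 ⟨even_two, by omega⟩).sub (Int.even_pow.2 ⟨even_two, by omega⟩)
  refine Int.not_odd_iff_even.2 hev (h2 ▸ ?_)
  rw [Int.odd_iff, Finset.sum_int_mod, Finset.sum_congr rfl fun i _ => Int.odd_iff.1 (hε i),
    Finset.sum_const, Finset.card_range, nsmul_eq_mul, mul_one]
  have := Nat.odd_iff.1 (h.prime'.odd_of_ne_two (by omega))
  omega

/-- Centralizers of the nontrivial elements of `V` are `2`-nilpotent. -/
theorem centralizer_decomp {a : G} (ha : a ∈ (V : Subgroup G)) (ha1 : a ≠ 1) :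
    Group.IsSolvable (Subgroup.centralizer ({a} : Set G)) ∧
      ∀ g ∈ Subgroup.centralizer ({a} : Set G),
        ∃ k ∈ centralizerPPrimeCore 2 a, ∃ v ∈ (V : Subgroup G), g = k * v := by
  classical
  haveI : Fact (Nat.Prime 2) := ⟨Nat.prime_two⟩
  set C := Subgroup.centralizer ({a} : Set G) with hC
  have hVC : (V : Subgroup G) ≤ C := fun x hx => Subgroup.mem_centralizer_singleton_iff.2 (by
    have hsq : ∀ y ∈ (V : Subgroup G), y⁻¹ = y := fun y hy => inv_eq_of_mul_eq_one_right (h.sq y hy)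
    calc x * a = (x * a)⁻¹ := (hsq _ (mul_mem hx ha)).symm
      _ = a * x := by rw [mul_inv_rev, hsq x hx, hsq a ha])
  set P : Sylow 2 C := V.subtype hVC with hPdef
  have hP : Subgroup.normalizer ((P : Subgroup C) : Set C) ≤ Subgroup.centralizer (P : Set C) := by
    intro g hg
    have hg' : (g : G) ∈ Subgroup.normalizer ((V : Subgroup G) : Set G) := by
      rw [Subgroup.mem_normalizer_iff] at hg ⊢
      intro x
      constructor
      · intro hx
        exact (hg ⟨x, hVC hx⟩).1 hx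
      · intro hx
        have hxC : x ∈ C := by
          rw [show x = (g : G)⁻¹ * ((g : G) * x * (g : G)⁻¹) * g by group]
          exact mul_mem (mul_mem (inv_mem g.2) (hVC hx)) g.2
        exact (hg ⟨x, hxC⟩).2 hx
    have hfix : (g : G) * a * (g : G)⁻¹ = a := by
      rw [Subgroup.mem_centralizer_singleton_iff.1 g.2, mul_inv_cancel_right]
    have := h.free hg' (v₀ := ⟨a, ha⟩) (fun e0 => ha1 (congrArg Subtype.val e0)) hfix
    exact Subgroup.mem_centralizer_iff.2 fun x hx =>
      Subtype.ext (Subgroup.mem_centralizer_iff.1 this x hx)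
  refine ⟨isSolvable_of_normalizer_le P hP, fun g hg => ?_⟩
  have hcomp := MonoidHom.ker_transferSylow_isComplement' P hP
  have htop : (MonoidHom.transferSylow P hP).ker ⊔ (P : Subgroup C) = ⊤ := hcomp.sup_eq_top
  obtain ⟨k, hk, v, hv, hkv⟩ := Subgroup.mem_sup_of_normal_left.1
    (htop ▸ Subgroup.mem_top (⟨g, hg⟩ : C))
  refine ⟨k, ⟨k, ?_, rfl⟩, v, hv, congrArg Subtype.val hkv.symm⟩
  have hm : (MonoidHom.transferSylow P hP).ker ∈
      {N : Subgroup C | N.Normal ∧ (Nat.card N).Coprime 2} := ⟨inferInstance,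
    (Nat.prime_two.coprime_iff_not_dvd.2 (MonoidHom.not_dvd_card_ker_transferSylow P hP)).symm⟩
  exact le_sSup hm hk

theorem isSolvable : Group.IsSolvable G := by
  classical
  haveI : Fact (Nat.Prime 2) := ⟨Nat.prime_two⟩
  rcases h.dims with hV | hV
  · refine isSolvable_of_normalizer_le V fun g hg => Subgroup.mem_centralizer_iff.2 fun x hx => ?_
    have hinj : Function.Injective q := by
      refine ((Nat.bijective_iff_surjective_and_card q).2 ⟨fun w => ?_, by rw [hV, h.card]⟩).1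
      by_cases hw : w = 1
      · exact ⟨1, hw ▸ (h.zero 1).2 rfl⟩
      · exact h.surj_val hw
    have hx' : g * x * g⁻¹ ∈ (V : Subgroup G) := (Subgroup.mem_normalizer_iff.1 hg x).1 hx
    have := congrArg Subtype.val (hinj (h.inv g ⟨x, hx⟩ ⟨_, hx'⟩ rfl))
    exact (mul_inv_eq_iff_eq_mul.1 this).symm
  let A := (V : Subgroup G)
  have hsqA : ∀ y ∈ A, y⁻¹ = y := fun y hy => inv_eq_of_mul_eq_one_right (h.sq y hy)
  have hcommA : ∀ x ∈ A, ∀ y ∈ A, x * y = y * x := fun x hx y hy => by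
    calc x * y = (x * y)⁻¹ := (hsqA _ (mul_mem hx hy)).symm
      _ = y * x := by rw [mul_inv_rev, hsqA x hx, hsqA y hy]
  have hEA : IsElementaryAbelian 2 A :=
    ⟨⟨⟨fun a b => Subtype.ext (hcommA _ a.2 _ b.2)⟩⟩, fun a ha => by rw [pow_two]; exact h.sq a ha⟩
  have hbig : 2 ^ 3 ≤ Nat.card A := by
    show 2 ^ 3 ≤ Nat.card (V : Subgroup G)
    rw [hV]; exact Nat.pow_le_pow_right (by norm_num) (by have := h.prime.two_le; omega)
  have hθ : IsSolvableSignalizerFunctor 2 A (fun a => centralizerPPrimeCore 2 a) :=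
    Cfsg.Agent.S1279.result 2 A hEA (le_trans (by norm_num) hbig)
      fun a ha ha1 => (h.centralizer_decomp ha ha1).1
  obtain ⟨K, hKs, -, -, -, hKcl⟩ := SolvSignalizer.exists_solvable_closure_two hEA hbig hθ
  have hθK : ∀ a ∈ A, a ≠ 1 → centralizerPPrimeCore 2 a ≤ K := fun a ha ha1 =>
    hKcl ▸ le_iSup (fun b : {b : G // b ∈ A ∧ b ≠ 1} => centralizerPPrimeCore 2 (b : G)) ⟨a, ha, ha1⟩
  set N := Subgroup.normalizer (A : Set G) with hN
  have hNK : N ≤ Subgroup.normalizer (K : Set G) := by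
    have hle : ∀ n ∈ N, K.map (MulAut.conj n).toMonoidHom ≤ K := by
      intro n hn
      conv_lhs => rw [← hKcl, signalizerClosure, Subgroup.map_iSup]
      refine iSup_le fun b => (SmallExp.conj_theta_le n (b : G)).trans (hθK _ ?_ ?_)
      · exact (Subgroup.mem_normalizer_iff.1 hn _).1 b.2.1
      · exact fun e0 => b.2.2 (conj_eq_one_iff.1 e0)
    intro n hn
    rw [Subgroup.mem_normalizer_iff]
    refine fun x => ⟨fun hx => hle n hn ⟨x, hx, rfl⟩, fun hx => ?_⟩
    have := hle n⁻¹ (inv_mem hn) ⟨_, hx, rfl⟩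
    simpa [MulAut.conj, mul_assoc] using this
  set M := K ⊔ N with hM
  have hNs : Group.IsSolvable N := by
    haveI hAn : (A.subgroupOf N).Normal := Subgroup.normal_in_normalizer
    haveI : Group.IsSolvable (A.subgroupOf N) := Group.isSolvable_of_comm fun a b =>
      Subtype.ext (Subtype.ext (hcommA _ a.2 _ b.2))
    haveI : Group.IsSolvable (N ⧸ A.subgroupOf N) := Cfsg.Agent.S0205.result (by
      refine Nat.not_even_iff_odd.1 fun he => V.not_dvd_index ?_
      rw [← Subgroup.index_eq_card] at he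
      exact (even_iff_two_dvd.1 he).trans (Subgroup.relIndex_dvd_index_of_le Subgroup.le_normalizer))
    exact (Group.isSolvable_iff_subgroup_quotient (A.subgroupOf N)).2 ⟨inferInstance, inferInstance⟩
  have hMs : Group.IsSolvable M := PrimeGraph.isSolvable_sup_of_le_normalizer hKs hNs hNK
  have hAN : A ≤ N := Subgroup.le_normalizer
  have hCM : ∀ a ∈ A, a ≠ 1 → Subgroup.centralizer ({a} : Set G) ≤ M := by
    intro a ha ha1 g hg
    obtain ⟨k, hk, v, hv, rfl⟩ := (h.centralizer_decomp ha ha1).2 g hg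
    exact mul_mem (Subgroup.mem_sup_left (hθK a ha ha1 hk)) (Subgroup.mem_sup_right (hAN hv))
  have hAM : A ≤ M := hAN.trans le_sup_right
  -- involutions of `M` have centralizers in `M`
  have hzM : ∀ z ∈ M, z * z = 1 → z ≠ 1 → Subgroup.centralizer ({z} : Set G) ≤ M := by
    intro z hzM hz hz1 g hg
    have hp : IsPGroup 2 (Subgroup.zpowers (⟨z, hzM⟩ : M)) := IsPGroup.of_card (n := 1) (by
      rw [Nat.card_zpowers, ← Subgroup.orderOf_coe, pow_one]
      exact orderOf_eq_prime (by rw [pow_two]; exact hz) hz1)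
    obtain ⟨P, hP⟩ := hp.exists_le_sylow
    obtain ⟨m, hm⟩ := MulAction.exists_smul_eq M P (V.subtype hAM)
    have hza : (m : G) * z * (m : G)⁻¹ ∈ A := by
      have : m * ⟨z, hzM⟩ * m⁻¹ ∈ ((V.subtype hAM : Sylow 2 M) : Subgroup M) := by
        rw [← hm, Sylow.coe_subgroup_smul]
        exact ⟨⟨z, hzM⟩, hP (Subgroup.mem_zpowers _), rfl⟩
      exact this
    have hmg : (m : G) * g * (m : G)⁻¹ ∈ M :=
      hCM _ hza (fun e0 => hz1 (conj_eq_one_iff.1 e0)) (Subgroup.mem_centralizer_singleton_iff.2 (by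
        have h2 := Subgroup.mem_centralizer_singleton_iff.1 hg
        calc (m : G) * g * (m : G)⁻¹ * ((m : G) * z * (m : G)⁻¹) = (m : G) * (g * z) * (m : G)⁻¹ := by group
          _ = (m : G) * (z * g) * (m : G)⁻¹ := by rw [h2]
          _ = _ := by group))
    rw [show g = (m : G)⁻¹ * ((m : G) * g * (m : G)⁻¹) * m by group]
    exact mul_mem (mul_mem (inv_mem m.2) hmg) m.2
  by_cases hall : ∀ b : G, b * b = 1 → b ∈ M
  · -- the involutions generate a normal subgroup inside `M`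
    set N₀ := Subgroup.normalClosure (A : Set G) with hN₀
    have hN₀M : N₀ ≤ M := by
      rw [hN₀, Subgroup.normalClosure, Subgroup.closure_le]
      intro x hx
      obtain ⟨y, hy, hyx⟩ := Group.mem_conjugatesOfSet_iff.1 hx
      obtain ⟨c, rfl⟩ := isConj_iff.1 hyx
      exact hall _ (by rw [conj_mul, h.sq y hy, mul_one, mul_inv_cancel])
    have hAN₀ : A ≤ N₀ := Subgroup.subset_normalClosure
    have hF := Sylow.normalizer_sup_eq_top (V.subtype hAN₀)
    have hmap : ((V.subtype hAN₀ : Sylow 2 N₀) : Subgroup N₀).map N₀.subtype = A := by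
      rw [Sylow.coe_subtype, Subgroup.subgroupOf_map_subtype, inf_eq_left.2 hAN₀]
    rw [hmap] at hF
    have htop : M = ⊤ := top_le_iff.1 (hF ▸ sup_le le_sup_right hN₀M)
    haveI := hMs
    exact Group.isSolvable_of_surjective (f := M.subtype) fun g => ⟨⟨g, htop ▸ Subgroup.mem_top g⟩, rfl⟩
  · -- otherwise all involutions of `V` are conjugate
    exfalso
    push Not at hall
    obtain ⟨b, hb, hbM⟩ := hall
    have hb1 : b ≠ 1 := fun e0 => hbM (e0 ▸ one_mem M)
    have hconj : ∀ a ∈ A, a ≠ 1 → ∃ d : G, d * a * d⁻¹ = b := by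
      intro a ha ha1
      have ha2 := h.sq a ha
      rcases Nat.even_or_odd (orderOf (a * b)) with ⟨k, hk⟩ | hodd
      · exfalso
        set z := (a * b) ^ k with hz
        have hk0 : 0 < k := by have := orderOf_pos (a * b); omega
        have hzz : z * z = 1 := by rw [hz, ← pow_add, ← hk, pow_orderOf_eq_one]
        have hz1 : z ≠ 1 := fun e0 => by
          have := Nat.le_of_dvd hk0 (orderOf_dvd_of_pow_eq_one e0); omega
        have hainv : a⁻¹ = a := inv_eq_of_mul_eq_one_right ha2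
        have hbinv : b⁻¹ = b := inv_eq_of_mul_eq_one_right hb
        have hzi : z⁻¹ = z := inv_eq_of_mul_eq_one_right hzz
        have hza : a * z * a⁻¹ = z := by
          conv_rhs => rw [← hzi]
          rw [hz, ← conj_pow, ← inv_pow, mul_inv_rev, hbinv, hainv, ← mul_assoc a a b, ha2, one_mul]
        have hzb : b * z * b⁻¹ = z := by
          conv_rhs => rw [← hzi]
          rw [hz, ← conj_pow, ← inv_pow, mul_inv_rev, hbinv, hainv, mul_assoc b (a * b) b,
            mul_assoc a b b, hb, mul_one]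
        have hzM' : z ∈ M := hCM a ha ha1 (Subgroup.mem_centralizer_singleton_iff.2
          (mul_inv_eq_iff_eq_mul.1 hza).symm)
        exact hbM (hzM z hzM' hzz hz1 (Subgroup.mem_centralizer_singleton_iff.2
          (mul_inv_eq_iff_eq_mul.1 hzb)))
      · obtain ⟨d, -, hd⟩ := Cfsg.Agent.S0208.result a b
          (orderOf_eq_prime (by rw [pow_two]; exact ha2) ha1)
          (orderOf_eq_prime (by rw [pow_two]; exact hb) hb1) hodd
        exact ⟨d, hd⟩
    -- hence `q` is constant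
    haveI : Fintype W := Fintype.ofFinite W
    obtain ⟨w₁, w₂, hw₁, hw₂, hw⟩ : ∃ w₁ w₂ : W, w₁ ≠ 1 ∧ w₂ ≠ 1 ∧ w₁ ≠ w₂ := by
      have hW : 3 ≤ (Finset.univ.erase (1 : W)).card := by
        rw [Finset.card_erase_of_mem (Finset.mem_univ _), Finset.card_univ, ← Nat.card_eq_fintype_card,
          h.card]
        exact h.prime_ge
      obtain ⟨w₁, h1, w₂, h2, hne⟩ := Finset.one_lt_card.1 (by omega : 1 < (Finset.univ.erase (1 : W)).card)
      exact ⟨w₁, w₂, Finset.ne_of_mem_erase h1, Finset.ne_of_mem_erase h2, hne⟩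
    obtain ⟨v₁, rfl⟩ := h.surj_val hw₁
    obtain ⟨v₂, rfl⟩ := h.surj_val hw₂
    have hv : ∀ v : A, q v ≠ 1 → (v : G) ≠ 1 := fun v hv e0 =>
      hv ((h.zero v).2 (Subtype.ext e0))
    obtain ⟨d₁, hd₁⟩ := hconj v₁ v₁.2 (hv _ hw₁)
    obtain ⟨d₂, hd₂⟩ := hconj v₂ v₂.2 (hv _ hw₂)
    exact hw (h.inv (d₁⁻¹ * d₂) v₂ v₁ (by
      calc d₁⁻¹ * d₂ * (v₂ : G) * (d₁⁻¹ * d₂)⁻¹ = d₁⁻¹ * (d₂ * v₂ * d₂⁻¹) * d₁ := by group
        _ = d₁⁻¹ * (d₁ * v₁ * d₁⁻¹) * d₁ := by rw [hd₂, hd₁]
        _ = _ := by group))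

end Aniso

end CfsgLib.Pyramidal12
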