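import Mathlib
import Cfsg.Agent.CIT.BadQSixtyFour

/-!
For a finite field `F` of odd order `q ≥ 4` the group `F² ⋊ SL₂(F)` has exactly `q²` involutions,
all conjugate, and is not solvable.
-/

set_option autoImplicit false

namespace CfsgLib.Pyramidal12

open Matrix

variable {F : Type} [Field F]

theorem sl_two_sq_eq_one (h2 : (2 : F) ≠ 0) {M : SpecialLinearGroup (Fin 2) F} (h : M * M = 1) :
    M = 1 ∨ M = -1 := by
  have e : (M : Matrix (Fin 2) (Fin 2) F) * M = 1 := by
    simpa using congrArg (fun N : SpecialLinearGroup (Fin 2) F => (N : Matrix (Fin 2) (Fin 2) F)) h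
  have d : M.1 0 0 * M.1 1 1 - M.1 0 1 * M.1 1 0 = 1 := by
    rw [← Matrix.det_fin_two]; exact M.2
  have e00 : M.1 0 0 * M.1 0 0 + M.1 0 1 * M.1 1 0 = 1 := by
    simpa [Matrix.mul_apply, Fin.sum_univ_two] using congrFun (congrFun e 0) 0
  have e01 : M.1 0 0 * M.1 0 1 + M.1 0 1 * M.1 1 1 = 0 := by
    simpa [Matrix.mul_apply, Fin.sum_univ_two] using congrFun (congrFun e 0) 1
  have e10 : M.1 1 0 * M.1 0 0 + M.1 1 1 * M.1 1 0 = 0 := by
    simpa [Matrix.mul_apply, Fin.sum_univ_two] using congrFun (congrFun e 1) 0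
  have e11 : M.1 1 0 * M.1 0 1 + M.1 1 1 * M.1 1 1 = 1 := by
    simpa [Matrix.mul_apply, Fin.sum_univ_two] using congrFun (congrFun e 1) 1
  have htr : (M.1 0 0 + M.1 1 1) ≠ 0 := by
    intro h0
    refine h2 ?_
    linear_combination (M.1 0 0) * h0 - d - e00
  have hb : M.1 0 1 = 0 := by
    rcases mul_eq_zero.1 (show M.1 0 1 * (M.1 0 0 + M.1 1 1) = 0 by linear_combination e01) with r | r
    · exact r
    · exact absurd r htr
  have hc : M.1 1 0 = 0 := by
    rcases mul_eq_zero.1 (show M.1 1 0 * (M.1 0 0 + M.1 1 1) = 0 by linear_combination e10) with r | r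
    · exact r
    · exact absurd r htr
  rw [hb, hc] at e00 d
  simp only [mul_zero, add_zero, sub_zero] at e00 d
  rcases mul_self_eq_one_iff.1 e00 with r | r
  · left
    ext i j
    rw [r, one_mul] at d
    fin_cases i <;> fin_cases j <;> simp [r, d, hb, hc]
  · right
    ext i j
    rw [r, neg_one_mul, neg_eq_iff_eq_neg] at d
    fin_cases i <;> fin_cases j <;> simp [r, d, hb, hc]

variable (F) in
/-- The natural action of `SL₂` on the plane. -/
def actV : SpecialLinearGroup (Fin 2) F →* MulAut (Multiplicative (Fin 2 → F)) where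
  toFun M := AddEquiv.toMultiplicative (SpecialLinearGroup.toLin' M).toAddEquiv
  map_one' := by
    ext x
    simp
  map_mul' M N := by
    ext x
    simp

variable (F) in
abbrev AGSL := Multiplicative (Fin 2 → F) ⋊[actV F] SpecialLinearGroup (Fin 2) F

theorem actV_apply (M : SpecialLinearGroup (Fin 2) F) (x : Multiplicative (Fin 2 → F)) :
    (actV F M x).toAdd = (M : Matrix (Fin 2) (Fin 2) F).mulVec x.toAdd := rfl

theorem actV_neg_one (x : Multiplicative (Fin 2 → F)) : actV F (-1) x = x⁻¹ :=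
  Multiplicative.toAdd.injective (by
    rw [actV_apply, toAdd_inv, Matrix.SpecialLinearGroup.coe_neg, Matrix.SpecialLinearGroup.coe_one,
      Matrix.neg_mulVec, Matrix.one_mulVec])

theorem agsl_orderOf_two_iff (h2 : (2 : F) ≠ 0) (x : AGSL F) : orderOf x = 2 ↔ x.right = -1 := by
  rw [orderOf_eq_prime_iff]
  constructor
  · rintro ⟨h, hne⟩
    rw [pow_two] at h
    have hr : x.right * x.right = 1 := by
      simpa using congrArg SemidirectProduct.right h
    refine (sl_two_sq_eq_one h2 hr).resolve_left fun h1 => hne ?_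
    have hl : x.left * x.left = 1 := by
      simpa [h1] using congrArg SemidirectProduct.left h
    refine SemidirectProduct.ext (Multiplicative.toAdd.injective (funext fun i => ?_)) h1
    have hi := congrFun (congrArg Multiplicative.toAdd hl) i
    simp only [toAdd_mul, Pi.add_apply, toAdd_one, Pi.zero_apply] at hi
    rw [← two_mul, mul_eq_zero] at hi
    simpa using hi.resolve_left h2
  · intro h
    refine ⟨?_, fun h1 => ?_⟩
    · rw [pow_two]
      refine SemidirectProduct.ext ?_ ?_
      · simp [h, actV_neg_one]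
      · rw [SemidirectProduct.mul_right, h]; simp
    · have e : ((-1 : SpecialLinearGroup (Fin 2) F) : Matrix (Fin 2) (Fin 2) F) 0 0 = 1 := by
        rw [← h, h1]; simp
      simp only [Matrix.SpecialLinearGroup.coe_neg, Matrix.SpecialLinearGroup.coe_one,
        Matrix.neg_apply, Matrix.one_apply_eq] at e
      exact h2 (by linear_combination -e)

theorem agsl_conj (h2 : (2 : F) ≠ 0) (v : Multiplicative (Fin 2 → F)) :
    ∃ g : AGSL F, g * ⟨1, -1⟩ * g⁻¹ = ⟨v, -1⟩ := by
  refine ⟨⟨Multiplicative.ofAdd ((2 : F)⁻¹ • v.toAdd), 1⟩, ?_⟩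
  refine SemidirectProduct.ext ?_ ?_
  · refine Multiplicative.toAdd.injective ?_
    simp [actV_neg_one, ← two_smul F, smul_smul, mul_inv_cancel₀ h2]
  · simp

theorem not_forall_isSolvable [Fintype F] (h2 : (2 : F) ≠ 0) (h4 : 4 ≤ Fintype.card F) :
    Nat.card {x : AGSL F // orderOf x = 2} = Fintype.card F ^ 2 ∧
      (∀ x y : AGSL F, orderOf x = 2 → orderOf y = 2 → ∃ g : AGSL F, g * x * g⁻¹ = y) ∧
      ¬ Group.IsSolvable (AGSL F) := by
  refine ⟨?_, fun x y hx hy => ?_, fun hs => ?_⟩
  · let e : {x : AGSL F // orderOf x = 2} ≃ (Fin 2 → F) :=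
      { toFun := fun x => x.1.left.toAdd
        invFun := fun v => ⟨⟨Multiplicative.ofAdd v, -1⟩, (agsl_orderOf_two_iff h2 _).2 rfl⟩
        left_inv := fun x => Subtype.ext (SemidirectProduct.ext rfl
          ((agsl_orderOf_two_iff h2 _).1 x.2).symm)
        right_inv := fun v => rfl }
    rw [Nat.card_congr e]
    simp
  · obtain ⟨g, hg⟩ := agsl_conj h2 x.left
    obtain ⟨g', hg'⟩ := agsl_conj h2 y.left
    have ex : x = ⟨x.left, -1⟩ := SemidirectProduct.ext rfl ((agsl_orderOf_two_iff h2 _).1 hx)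
    have ey : y = ⟨y.left, -1⟩ := SemidirectProduct.ext rfl ((agsl_orderOf_two_iff h2 _).1 hy)
    refine ⟨g' * g⁻¹, ?_⟩
    rw [ex, ey, ← hg, ← hg']
    group
  · haveI := hs
    exact CfsgLib.CIT.not_isSolvable_sl_two h4
      (Group.isSolvable_of_surjective (f := (SemidirectProduct.rightHom : AGSL F →* _))
        SemidirectProduct.rightHom_surjective)

end CfsgLib.Pyramidal12
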