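import Mathlib
import Cfsg.Agent.Chars.Apps.Burnside
import Cfsg.Agent.S0205

/-!
If a finite group has a unique involution modulo its odd core and is not solvable, then the
involution class has size a square different from `9`.
-/

set_option autoImplicit false

namespace CfsgLib.Pyramidal12

/-- The squares different from `9`. -/
def Good (n : ℕ) : Prop := IsSquare n ∧ n ≠ 9

theorem Good.mul {m n : ℕ} (hm : Good m) (hn : Good n) : Good (m * n) := by
  refine ⟨hm.1.mul hn.1, fun h => ?_⟩
  have hd : m ∣ 3 ^ 2 := ⟨n, h.symm⟩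
  obtain ⟨i, hi, rfl⟩ := (Nat.dvd_prime_pow Nat.prime_three).1 hd
  interval_cases i
  · exact hn.2 (by simpa using h)
  · exact absurd hm.1 (by simpa using Nat.prime_three.prime.not_isSquare)
  · exact hm.2 rfl

/-- The fixed points of an automorphism. -/
def fixN {O : Type*} [Group O] (τ : MulAut O) : Subgroup O :=
  MonoidHom.eqLocus τ.toMonoidHom (MonoidHom.id O)

theorem mem_fixN {O : Type*} [Group O] {τ : MulAut O} {x : O} : x ∈ fixN τ ↔ τ x = x := Iff.rfl

theorem sqrt_odd {O : Type*} [Group O] [Finite O] (hO : Odd (Nat.card O)) (x : O) :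
    ∃ k : ℕ, x ^ k * x ^ k = x := by
  obtain ⟨j, hj⟩ := hO
  refine ⟨j + 1, ?_⟩
  rw [← pow_add, show j + 1 + (j + 1) = (2 * j + 1) + 1 by ring, pow_succ, ← hj,
    pow_card_eq_one', one_mul]

section Restrict

variable {O : Type*} [Group O] (M : Subgroup O) [hM : M.Characteristic]

/-- An automorphism restricted to a characteristic subgroup. -/
def resAut : MulAut O →* MulAut M where
  toFun α :=
    { toFun := fun x => ⟨α x, by
        have := (Subgroup.characteristic_iff_comap_eq.1 hM α).ge x.2
        simpa using this⟩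
      invFun := fun x => ⟨α.symm x, by
        have := (Subgroup.characteristic_iff_comap_eq.1 hM α.symm).ge x.2
        simpa using this⟩
      left_inv := fun x => Subtype.ext (α.symm_apply_apply _)
      right_inv := fun x => Subtype.ext (α.apply_symm_apply _)
      map_mul' := fun x y => Subtype.ext (map_mul α _ _) }
  map_one' := MulEquiv.ext fun _ => rfl
  map_mul' _ _ := MulEquiv.ext fun _ => rfl

/-- An automorphism on the quotient by a characteristic subgroup. -/
def quoAut : MulAut O →* MulAut (O ⧸ M) where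
  toFun α := QuotientGroup.congr M M α (Subgroup.characteristic_iff_map_eq.1 hM α)
  map_one' := by
    ext x
    induction x using QuotientGroup.induction_on with | _ a => rfl
  map_mul' a b := by
    ext x
    induction x using QuotientGroup.induction_on with | _ c => rfl

theorem index_fixN_mul [Finite O] (hodd : Odd (Nat.card O)) {τ : MulAut O}
    (hτ : ∀ x, τ (τ x) = x) :
    (fixN τ).index = (fixN (resAut M τ)).index * (fixN (quoAut M τ)).index := by
  set f : fixN τ →* O ⧸ M := (QuotientGroup.mk' M).comp (fixN τ).subtype with hf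
  have hr : f.range = fixN (quoAut M τ) := by
    ext q
    constructor
    · rintro ⟨x, rfl⟩
      show QuotientGroup.mk' M (τ x.1) = QuotientGroup.mk' M x.1
      rw [mem_fixN.1 x.2]
    · intro hq
      obtain ⟨x, rfl⟩ := QuotientGroup.mk'_surjective M q
      have hc : x⁻¹ * τ x ∈ M := QuotientGroup.eq.1 (Eq.symm (mem_fixN.1 hq))
      set c := x⁻¹ * τ x with hcdef
      have hci : τ c = c⁻¹ := by simp [hcdef, hτ]
      obtain ⟨k, hk⟩ := sqrt_odd hodd c
      refine ⟨⟨x * c ^ k, mem_fixN.2 ?_⟩, (QuotientGroup.eq.2 ?_).symm⟩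
      · rw [map_mul, map_pow, hci, show τ x = x * c by rw [hcdef]; group]
        calc x * c * c⁻¹ ^ k = x * (c ^ k * c ^ k) * (c ^ k)⁻¹ := by rw [hk, inv_pow]
          _ = x * c ^ k := by group
      · simp [pow_mem hc k]
  have hk : Nat.card f.ker = Nat.card (fixN (resAut M τ)) := by
    refine Nat.card_congr
      { toFun := fun x => ⟨⟨x.1.1, (QuotientGroup.eq_one_iff _).1 x.2⟩, Subtype.ext x.1.2⟩
        invFun := fun y => ⟨⟨y.1.1, congrArg Subtype.val y.2⟩, (QuotientGroup.eq_one_iff _).2 y.1.2⟩
        left_inv := fun _ => rfl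
        right_inv := fun _ => rfl }
  have h1 := (Subgroup.card_eq_card_quotient_mul_card_subgroup f.ker)
  rw [Nat.card_congr (QuotientGroup.quotientKerEquivRange f).toEquiv, hr, hk] at h1
  have h2 := Subgroup.card_mul_index (fixN τ)
  have h3 := Subgroup.card_mul_index (fixN (resAut M τ))
  have h4 := Subgroup.card_mul_index (fixN (quoAut M τ))
  have h5 := Subgroup.card_eq_card_quotient_mul_card_subgroup M
  rw [h1, h5, ← h3, ← h4] at h2
  refine Nat.eq_of_mul_eq_mul_left
    (Nat.mul_pos (Nat.card_pos (α := fixN (quoAut M τ))) (Nat.card_pos (α := fixN (resAut M τ)))) ?_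
  rw [h2]; ring

end Restrict

section Elementary

variable {I : Type*} [CommGroup I] [Finite I] {R : Type*} [Group R]

theorem good_card_of_inv {r : ℕ} (hr : r.Prime) (hr2 : r ≠ 2) (hexp : ∀ x : I, x ^ r = 1)
    (hperf : commutator R = ⊤) (φ : R →* MulAut I) {t : R} (ht : ∀ x, φ t x = x⁻¹) :
    Good (Nat.card I) := by
  haveI := Fact.mk hr
  have hz : ∀ a : Additive I, r • a = 0 := fun a => Additive.toMul.injective (hexp _)
  suffices key : ∀ _ : Module (ZMod r) (Additive I), Good (Nat.card I) from
    key (AddCommGroup.zmodModule hz)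
  intro _
  have hfin : Module.Finite (ZMod r) (Additive I) := Module.Finite.of_finite
  set m := Module.finrank (ZMod r) (Additive I) with hm
  have hfree : Module.Free (ZMod r) (Additive I) := Module.Free.of_divisionRing _ _
  let b : Module.Basis (Fin m) (ZMod r) (Additive I) := @Module.finBasis (ZMod r) (Additive I) _ _ _ hfree _ hfin
  have hcard : Nat.card I = r ^ m := by
    rw [show Nat.card I = Nat.card (Additive I) from Nat.card_congr Additive.ofMul,
      Nat.card_congr b.equivFun.toEquiv, Nat.card_fun, Nat.card_fin, Nat.card_zmod]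
  let lin : MulAut I → (Additive I →ₗ[ZMod r] Additive I) := fun α =>
    AddMonoidHom.toZModLinearMap r (MulEquiv.toAdditive α).toAddMonoidHom
  let ψ : MulAut I →* Matrix (Fin m) (Fin m) (ZMod r) :=
    { toFun := fun α => LinearMap.toMatrix b b (lin α)
      map_one' := by
        rw [show lin 1 = LinearMap.id from LinearMap.ext fun _ => rfl, LinearMap.toMatrix_id]
      map_mul' := fun α β => by
        rw [show lin (α * β) = (lin α).comp (lin β) from LinearMap.ext fun _ => rfl,
          LinearMap.toMatrix_comp b b b] }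
  let Ψ : R →* GL (Fin m) (ZMod r) := MonoidHom.toHomUnits (ψ.comp φ)
  have hΨt : (Ψ t : Matrix (Fin m) (Fin m) (ZMod r)) = -1 := by
    show LinearMap.toMatrix b b (lin (φ t)) = -1
    ext i j
    have e : lin (φ t) (b j) = -(b j) := Additive.toMul.injective (ht _)
    rw [LinearMap.toMatrix_apply, e, map_neg, b.repr_self, Finsupp.neg_apply,
      Finsupp.single_apply, Matrix.neg_apply, Matrix.one_apply]
    simp [eq_comm]
  have hcomm : ∀ {A : Type} [CommGroup A] (f : R →* A) (x : R), f x = 1 := by
    intro A _ f x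
    have hx : x ∈ commutator R := hperf ▸ Subgroup.mem_top x
    exact MonoidHom.mem_ker.1 (Abelianization.commutator_subset_ker f hx)
  have hdet : ((-1 : ZMod r) ^ m) = 1 := by
    have := congrArg Units.val (hcomm (Matrix.GeneralLinearGroup.det.comp Ψ) t)
    simpa [hΨt, Matrix.det_neg] using this
  haveI : Fact (2 < r) := ⟨lt_of_le_of_ne hr.two_le (Ne.symm hr2)⟩
  have heven : Even m := by
    by_contra hodd
    rw [Nat.not_even_iff_odd] at hodd
    rw [hodd.neg_one_pow] at hdet
    exact ZMod.neg_one_ne_one hdet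
  refine ⟨hcard ▸ ?_, fun h9 => ?_⟩
  · obtain ⟨j, hj⟩ := heven
    exact ⟨r ^ j, by rw [hj, pow_add]⟩
  · rw [hcard] at h9
    have hr3 : r = 3 := by
      have : r ∣ 3 ^ 2 := by
        have hm0 : m ≠ 0 := fun h0 => by simp [h0] at h9
        exact (dvd_pow_self r hm0).trans (by rw [h9]; norm_num)
      exact (Nat.prime_dvd_prime_iff_eq hr Nat.prime_three).1 (hr.dvd_of_dvd_pow this)
    subst hr3
    have hm2 : m = 2 := Nat.pow_right_injective (le_refl 2 |>.trans (by norm_num)) (h9.trans (by norm_num : (9 : ℕ) = 3 ^ 2))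
    have hc : Nat.card (GL (Fin m) (ZMod 3)) = 2 ^ 4 * 3 ^ 1 := by
      rw [Matrix.card_GL_field, hm2]
      simp [Fin.prod_univ_two]
    haveI : Finite (GL (Fin m) (ZMod 3)) := Finite.of_fintype _
    haveI hsol : Group.IsSolvable (GL (Fin m) (ZMod 3)) :=
      Chars.Apps.isSolvable_of_card_eq_pow_mul_pow _ Nat.prime_two Nat.prime_three hc
    haveI : Group.IsSolvable Ψ.range := inferInstance
    have hrange : Ψ.range = ⊥ := by
      by_contra hne
      haveI := (Subgroup.nontrivial_iff_ne_bot _).2 hne
      have hlt := Group.IsSolvable.commutator_lt_top_of_nontrivial (G := Ψ.range)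
      refine hlt.ne (top_le_iff.1 ?_)
      have := Subgroup.map_commutator (⊤ : Subgroup R) ⊤ Ψ.rangeRestrict
      rw [Subgroup.map_top_of_surjective _ Ψ.rangeRestrict_surjective, ← commutator_def, hperf,
        Subgroup.map_top_of_surjective _ Ψ.rangeRestrict_surjective, ← commutator_def] at this
      exact this.le
    have h1 : Ψ t = 1 := by
      have : Ψ t ∈ Ψ.range := ⟨t, rfl⟩
      rwa [hrange, Subgroup.mem_bot] at this
    have : ((-1 : Matrix (Fin m) (Fin m) (ZMod 3))) = 1 := by
      rw [← hΨt, h1]; rfl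
    have h00 := congrFun (congrFun this ⟨0, by omega⟩) ⟨0, by omega⟩
    simp only [Matrix.neg_apply, Matrix.one_apply_eq] at h00
    exact ZMod.neg_one_ne_one h00

end Elementary

/-- The index of the fixed points of a central involution of a perfect group acting on a group of
odd order. -/
theorem good_index {R : Type*} [Group R] (hperf : commutator R = ⊤) (n : ℕ) :
    ∀ (O : Type) [Group O] [Finite O], Nat.card O = n → Odd (Nat.card O) →
      ∀ (φ : R →* MulAut O) (t : R), t ∈ Subgroup.center R → t * t = 1 →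
        Good (fixN (φ t)).index := by
  induction n using Nat.strong_induction_on with
  | _ n ih =>
  intro O _ _ hn hodd φ t ht htt
  have hτ : ∀ x, φ t (φ t x) = x := fun x => by
    rw [← MulAut.mul_apply, ← map_mul, htt, map_one, MulAut.one_apply]
  have step : ∀ M : Subgroup O, M.Characteristic → M ≠ ⊥ → M ≠ ⊤ → Good (fixN (φ t)).index := by
    intro M hM h1 h2
    rw [index_fixN_mul M hodd hτ]
    have hlt : Nat.card M < n := hn ▸ lt_of_le_of_ne (Subgroup.card_le_card_group M)
      fun h => h2 (Subgroup.eq_top_of_card_eq M h)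
    have hlt' : Nat.card (O ⧸ M) < n := by
      rw [← hn, Subgroup.card_eq_card_quotient_mul_card_subgroup M]
      exact lt_mul_of_one_lt_right Nat.card_pos ((Subgroup.one_lt_card_iff_ne_bot M).2 h1)
    exact (ih _ hlt M rfl (hodd.of_dvd_nat (Subgroup.card_subgroup_dvd_card M))
        ((resAut M).comp φ) t ht htt).mul
      (ih _ hlt' (O ⧸ M) rfl (hodd.of_dvd_nat (Subgroup.card_quotient_dvd_card M))
        ((quoAut M).comp φ) t ht htt)
  rcases subsingleton_or_nontrivial O with h | h
  · rw [Subsingleton.elim (fixN (φ t)) ⊤, Subgroup.index_top]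
    exact ⟨IsSquare.one, by norm_num⟩
  haveI : Group.IsSolvable O := Cfsg.Agent.S0205.result hodd
  by_cases hab : commutator O = ⊥
  swap
  · exact step _ inferInstance hab (Group.IsSolvable.commutator_lt_top_of_nontrivial (G := O)).ne
  have hmul : IsMulCommutative O := (commutator_eq_bot_iff O).1 hab
  letI : CommGroup O := { ‹Group O› with mul_comm := fun a b => hmul.is_comm.comm a b }
  obtain ⟨r, hr, hrd⟩ := Nat.exists_prime_and_dvd (show Nat.card O ≠ 1 from
    (Finite.one_lt_card (α := O)).ne')
  haveI := Fact.mk hr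
  have hr2 : r ≠ 2 := fun e => Nat.not_even_iff_odd.2 hodd (even_iff_two_dvd.2 (e ▸ hrd))
  set Ω : Subgroup O := (powMonoidHom r : O →* O).ker with hΩ
  have hΩc : Ω.Characteristic := Subgroup.characteristic_iff_comap_eq.2 fun α => by
    ext x; simp [hΩ, ← map_pow]
  have hΩ1 : Ω ≠ ⊥ := by
    obtain ⟨x, hx⟩ := exists_prime_orderOf_dvd_card' r hrd
    intro hb
    have : x ∈ Ω := by simp [hΩ, ← hx, pow_orderOf_eq_one]
    rw [hb, Subgroup.mem_bot] at this
    rw [this, orderOf_one] at hx
    exact hr.one_lt.ne hx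
  by_cases hΩt : Ω = ⊤
  swap
  · exact step Ω hΩc hΩ1 hΩt
  have hexp : ∀ x : O, x ^ r = 1 := fun x => by
    have : x ∈ Ω := hΩt ▸ Subgroup.mem_top x
    simpa [hΩ] using this
  let δ : O →* O :=
    { toFun := fun x => x * (φ t x)⁻¹
      map_one' := by simp
      map_mul' := fun a b => by simp only [map_mul, mul_inv]; exact mul_mul_mul_comm _ _ _ _ }
  have hker : δ.ker = fixN (φ t) := by
    ext x
    rw [MonoidHom.mem_ker, mem_fixN]
    exact ⟨fun h => (mul_inv_eq_one.1 h).symm, fun h => by simp [δ, h]⟩
  have hinv : ∀ x ∈ δ.range, φ t x = x⁻¹ := by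
    rintro x ⟨y, rfl⟩
    simp [δ, hτ, mul_comm]
  have hinvariant : ∀ (g : R) (x : O), x ∈ δ.range → φ g x ∈ δ.range := by
    rintro g x ⟨y, rfl⟩
    refine ⟨φ g y, ?_⟩
    show φ g y * (φ t (φ g y))⁻¹ = φ g (y * (φ t y)⁻¹)
    rw [map_mul, map_inv, ← MulAut.mul_apply, ← map_mul, ← (Subgroup.mem_center_iff.1 ht g),
      map_mul, MulAut.mul_apply]
  let φI : R →* MulAut δ.range :=
    { toFun := fun g =>
        { toFun := fun x => ⟨φ g x, hinvariant g x x.2⟩
          invFun := fun x => ⟨φ g⁻¹ x, hinvariant g⁻¹ x x.2⟩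
          left_inv := fun x => Subtype.ext (by simp)
          right_inv := fun x => Subtype.ext (by simp)
          map_mul' := fun x y => Subtype.ext (map_mul (φ g) _ _) }
      map_one' := MulEquiv.ext fun x => Subtype.ext (by simp)
      map_mul' := fun g g' => MulEquiv.ext fun x => Subtype.ext (by simp) }
  have key := good_card_of_inv (I := δ.range) hr hr2 (fun x => Subtype.ext (by simpa using hexp x))
    hperf φI (t := t) (fun x => Subtype.ext (hinv x x.2))
  rwa [← hker, Subgroup.index_ker]

variable {G : Type} [Group G] [Finite G]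

open scoped Classical in
/-- The involution class of a non-solvable group with a unique involution modulo its odd core. -/
theorem good_index_centralizer {t : G} (ht : orderOf t = 2) (hns : ¬ Group.IsSolvable G)
    {O : Subgroup G} [O.Normal] (hO : Odd (Nat.card O))
    (huniq : ∀ x : G, orderOf x = 2 → t * x ∈ O) :
    Good (Subgroup.centralizer ({t} : Set G)).index := by
  have htt : t * t = 1 := by rw [← pow_two, ← ht, pow_orderOf_eq_one]
  have hti : t⁻¹ = t := inv_eq_of_mul_eq_one_right htt
  set C := Subgroup.centralizer ({t} : Set G) with hC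
  have hfac : ∀ g : G, ∃ o ∈ O, o⁻¹ * g ∈ C := by
    intro g
    have hx : t * (g * t * g⁻¹) ∈ O := huniq _ (by rw [show g * t * g⁻¹ = MulAut.conj g t from rfl,
      MulEquiv.orderOf_eq, ht])
    set x := t * (g * t * g⁻¹) with hxdef
    obtain ⟨k, hk⟩ := sqrt_odd hO (⟨x, hx⟩ : O)
    have hk' : x ^ k * x ^ k = x := by simpa using congrArg Subtype.val hk
    have hinv : MulAut.conj t x = x⁻¹ := by
      rw [hxdef, MulAut.conj_apply, mul_inv_rev t (g * t * g⁻¹), mul_inv_rev, mul_inv_rev, inv_inv,
        hti]
      calc t * (t * (g * t * g⁻¹)) * t = (t * t) * (g * t * g⁻¹) * t := by group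
        _ = _ := by rw [htt, one_mul]; group
    have hd : t * x ^ k = (x ^ k)⁻¹ * t := by
      have := congrArg (· ^ k) hinv
      simp only [← map_pow] at this
      rw [MulAut.conj_apply, hti, inv_pow] at this
      calc t * x ^ k = t * x ^ k * t * t := by rw [mul_assoc _ t t, htt, mul_one]
        _ = _ := by rw [this]
    refine ⟨(x ^ k)⁻¹, inv_mem (pow_mem hx k), Subgroup.mem_centralizer_singleton_iff.2 ?_⟩
    have hu : (x ^ k)⁻¹ * t * x ^ k = g * t * g⁻¹ := by
      calc (x ^ k)⁻¹ * t * x ^ k = t * (x ^ k * x ^ k) := by rw [← hd]; group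
        _ = _ := by rw [hk', hxdef, ← mul_assoc t t, htt, one_mul]
    rw [inv_inv]
    calc x ^ k * g * t = x ^ k * (g * t * g⁻¹) * g := by group
      _ = t * (x ^ k * g) := by rw [← hu]; group
  have hidx : C.index = C.relIndex O := by
    refine (Nat.card_congr (Equiv.ofBijective
      (fun q : ↥O ⧸ C.subgroupOf O => Quotient.liftOn' q (fun o => ((o : G) : G ⧸ C))
        (fun a b h => QuotientGroup.eq.2 ?_)) ⟨?_, ?_⟩)).symm
    · simpa [Subgroup.mem_subgroupOf] using (QuotientGroup.leftRel_apply.1 h)
    · rintro ⟨a⟩ ⟨b⟩ h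
      exact QuotientGroup.eq.2 (by simpa [Subgroup.mem_subgroupOf] using QuotientGroup.eq.1 h)
    · rintro ⟨g⟩
      obtain ⟨o, ho, h⟩ := hfac g
      exact ⟨((⟨o, ho⟩ : O) : ↥O ⧸ C.subgroupOf O), QuotientGroup.eq.2 h⟩
  have hCns : ¬ Group.IsSolvable C := by
    intro hs
    apply hns
    haveI : Group.IsSolvable O := Cfsg.Agent.S0205.result hO
    haveI := hs
    have hsurj : Function.Surjective ((QuotientGroup.mk' O).comp C.subtype) := by
      rintro ⟨g⟩
      obtain ⟨o, ho, h⟩ := hfac g
      refine ⟨⟨_, h⟩, QuotientGroup.eq.2 ?_⟩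
      have : (o⁻¹ * g)⁻¹ * g = g⁻¹ * o * g := by group
      show (o⁻¹ * g)⁻¹ * g ∈ O
      rw [this]
      simpa using Subgroup.Normal.conj_mem ‹O.Normal› o ho g⁻¹
    haveI : Group.IsSolvable (G ⧸ O) := Group.isSolvable_of_surjective hsurj
    exact Group.isSolvable_of_ker_le_range O.subtype (QuotientGroup.mk' O) (by simp)
  obtain ⟨R, hR, hRmin⟩ := Set.Finite.exists_minimal
    (Set.toFinite {R : Subgroup G | R ≤ C ∧ ¬ Group.IsSolvable R}) ⟨C, le_rfl, hCns⟩
  have hperf : commutator R = ⊤ := by
    by_contra hne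
    set D := (commutator R).map R.subtype with hD
    have hDR : D ≤ R := Subgroup.map_subtype_le _
    have hDne : D ≠ R := fun h => hne (Subgroup.map_injective R.subtype_injective
      (by rw [← hD, h, ← MonoidHom.range_eq_map, Subgroup.range_subtype]))
    have hDs : Group.IsSolvable D := by
      by_contra hDn
      exact hDne (le_antisymm hDR (hRmin ⟨hDR.trans hR.1, hDn⟩ hDR))
    haveI : Group.IsSolvable (commutator R) :=
      Group.isSolvable_of_surjective (f := ((commutator R).equivMapOfInjective R.subtype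
        R.subtype_injective).symm.toMonoidHom) (MulEquiv.surjective _)
    exact hR.2 (Group.isSolvable_of_ker_le_range (commutator R).subtype
      (Abelianization.of : R →* Abelianization R) (by simp [Abelianization.ker_of]))
  have htR : t ∈ R := by
    have heven : Even (Nat.card R) := Nat.not_odd_iff_even.1 fun h => hR.2 (Cfsg.Agent.S0205.result h)
    obtain ⟨s, hs⟩ := exists_prime_orderOf_dvd_card' 2 (even_iff_two_dvd.1 heven)
    have hs' : orderOf (s : G) = 2 := by rw [Subgroup.orderOf_coe]; exact hs
    have hsc : (s : G) * t = t * s := Subgroup.mem_centralizer_singleton_iff.1 (hR.1 s.2)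
    have h1 : t * (s : G) = 1 := by
      have h2 : (t * (s : G)) ^ 2 = 1 := by
        rw [(Commute.mul_pow (hsc.symm : Commute t (s : G)))]
        rw [pow_two, htt, ← hs', pow_orderOf_eq_one, one_mul]
      have h3 : Odd (orderOf (t * (s : G))) := hO.of_dvd_nat (by
        have := orderOf_dvd_natCard (⟨_, huniq _ hs'⟩ : O)
        rwa [Subgroup.orderOf_mk] at this)
      rw [← orderOf_eq_one_iff]
      rcases (Nat.dvd_prime Nat.prime_two).1 (orderOf_dvd_of_pow_eq_one h2) with h | h
      · exact h
      · rw [h] at h3; exact absurd h3 (by decide)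
    have : (s : G) = t := by rw [← inv_eq_of_mul_eq_one_right h1, hti]
    exact this ▸ s.2
  have hg := good_index hperf (Nat.card O) O rfl hO
    ((MulAut.conjNormal : G →* MulAut O).comp R.subtype) ⟨t, htR⟩
    (Subgroup.mem_center_iff.2 fun g => Subtype.ext
      (Subgroup.mem_centralizer_singleton_iff.1 (hR.1 g.2)))
    (Subtype.ext htt)
  have hfix : fixN (((MulAut.conjNormal : G →* MulAut O).comp R.subtype) ⟨t, htR⟩) =
      C.subgroupOf O := by
    ext o
    rw [mem_fixN, Subgroup.mem_subgroupOf, Subgroup.mem_centralizer_singleton_iff]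
    constructor
    · intro h
      have := congrArg Subtype.val h
      simp only [MonoidHom.comp_apply, MulAut.conjNormal_apply] at this
      exact (mul_inv_eq_iff_eq_mul.1 this).symm
    · intro h
      refine Subtype.ext ?_
      simp only [MonoidHom.comp_apply, MulAut.conjNormal_apply]
      exact mul_inv_eq_iff_eq_mul.2 h.symm
  rw [hidx]
  rw [hfix] at hg
  exact hg

end CfsgLib.Pyramidal12
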