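import Mathlib

/-!
The automorphism group of the elementary abelian group of order eight: named elements and the
relations between them.
-/

set_option autoImplicit false
set_option synthInstance.maxSize 1024
set_option synthInstance.maxHeartbeats 200000

namespace CfsgLib.Pyramidal12.Model

/-- The elementary abelian group of order eight. -/
abbrev E3 := Multiplicative (ZMod 2 × ZMod 2 × ZMod 2)

/-- An element of `E3`. -/
def el (i j k : ZMod 2) : E3 := Multiplicative.ofAdd (i, j, k)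

abbrev e1 : E3 := el 1 0 0
abbrev e2 : E3 := el 0 1 0
abbrev e3 : E3 := el 0 0 1

/-- The map with given images of the basis. -/
def lin (p q r : E3) (w : E3) : E3 :=
  p ^ w.toAdd.1.val * q ^ w.toAdd.2.1.val * r ^ w.toAdd.2.2.val

set_option maxRecDepth 20000 in
theorem lin_mul : ∀ p q r : E3, ∀ w z : E3, lin p q r (w * z) = lin p q r w * lin p q r z := by
  decide +kernel

/-- An automorphism given by the images of the basis and of the inverse. -/
def mkAut (p q r p' q' r' : E3) (h1 : ∀ w, lin p' q' r' (lin p q r w) = w)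
    (h2 : ∀ w, lin p q r (lin p' q' r' w) = w) : MulAut E3 where
  toFun := lin p q r
  invFun := lin p' q' r'
  left_inv := h1
  right_inv := h2
  map_mul' := lin_mul p q r

/-- Transvection with centre `e1` moving `e3`. -/
def A : MulAut E3 := mkAut e1 e2 (el 1 0 1) e1 e2 (el 1 0 1) (by decide) (by decide)
/-- Transvection with centre `e1` moving `e2`. -/
def B : MulAut E3 := mkAut e1 (el 1 1 0) e3 e1 (el 1 1 0) e3 (by decide) (by decide)
/-- Transvection with centre `e2` moving `e3`. -/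
def C : MulAut E3 := mkAut e1 e2 (el 0 1 1) e1 e2 (el 0 1 1) (by decide) (by decide)
/-- The element of order three fixing `e1`. -/
def G : MulAut E3 := mkAut e1 e3 (el 0 1 1) e1 (el 0 1 1) e2 (by decide) (by decide)
/-- The transposition of `e2` and `e3`. -/
def S : MulAut E3 := mkAut e1 e3 e2 e1 e3 e2 (by decide) (by decide)
/-- An element of order seven. -/
def X : MulAut E3 := mkAut e2 e3 (el 1 1 0) (el 1 0 1) e1 e2 (by decide) (by decide)
/-- The element of order three cycling `e1`, `e2`. -/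
def H : MulAut E3 := mkAut e2 (el 1 1 0) e3 (el 1 1 0) e1 e3 (by decide) (by decide)

def U₁ : MulAut E3 :=
  mkAut (el 0 0 1) (el 0 1 1) (el 1 1 0) (el 1 1 1) (el 1 1 0) (el 1 0 0) (by decide) (by decide)
def U₂ : MulAut E3 :=
  mkAut (el 1 1 1) (el 1 1 0) (el 0 1 1) (el 1 0 1) (el 1 1 1) (el 1 1 0) (by decide) (by decide)
def U₃ : MulAut E3 :=
  mkAut (el 0 0 1) (el 1 0 1) (el 0 1 0) (el 1 1 0) (el 0 0 1) (el 1 0 0) (by decide) (by decide)
def U₄ : MulAut E3 :=
  mkAut (el 1 1 0) (el 0 0 1) (el 1 0 1) (el 0 1 1) (el 1 1 1) (el 0 1 0) (by decide) (by decide)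
def U₅ : MulAut E3 :=
  mkAut (el 1 1 0) (el 0 0 1) (el 1 0 0) (el 0 0 1) (el 1 0 1) (el 0 1 0) (by decide) (by decide)

theorem generated (f f' : MulAut E3) (h1 : f e1 = f' e1) (h2 : f e2 = f' e2) (h3 : f e3 = f' e3) :
    f = f' := by
  have key : ∀ w : E3, w = e1 ^ w.toAdd.1.val * e2 ^ w.toAdd.2.1.val * e3 ^ w.toAdd.2.2.val := by
    decide
  refine MulEquiv.ext fun w => ?_
  rw [key w]
  simp only [map_mul, map_pow, h1, h2, h3]

/-- The words covering the stabilizer of `e1`. -/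
def stabWord (i j k l : Fin 3) : MulAut E3 :=
  A ^ (i : ℕ) * B ^ (j : ℕ) * G ^ (k : ℕ) * S ^ (l : ℕ)

set_option maxRecDepth 20000 in
theorem stab_cover : ∀ p q : E3, p ≠ 1 → p ≠ e1 → q ≠ 1 → q ≠ e1 → q ≠ p → q ≠ e1 * p →
    ∃ i j k l : Fin 3, stabWord i j k l e1 = e1 ∧ stabWord i j k l e2 = p ∧
      stabWord i j k l e3 = q := by
  decide +kernel

theorem mem_stab {f : MulAut E3} (hf : f e1 = e1) : ∃ i j k l : Fin 3, f = stabWord i j k l := by
  have n1 : f e2 ≠ 1 := fun e => absurd (f.injective (e.trans (map_one f).symm)) (by decide)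
  have n2 : f e2 ≠ e1 := fun e => absurd (f.injective (e.trans hf.symm)) (by decide)
  have n3 : f e3 ≠ 1 := fun e => absurd (f.injective (e.trans (map_one f).symm)) (by decide)
  have n4 : f e3 ≠ e1 := fun e => absurd (f.injective (e.trans hf.symm)) (by decide)
  have n5 : f e3 ≠ f e2 := fun e => absurd (f.injective e) (by decide)
  have n6 : f e3 ≠ e1 * f e2 := fun e => by
    rw [show e1 * f e2 = f (e1 * e2) by rw [map_mul, hf]] at e
    exact absurd (f.injective e) (by decide)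
  obtain ⟨i, j, k, l, h1, h2, h3⟩ := stab_cover _ _ n1 n2 n3 n4 n5 n6
  exact ⟨i, j, k, l, generated _ _ (hf.trans h1.symm) h2.symm h3.symm⟩

set_option maxRecDepth 20000 in
theorem pair_cover : ∀ u u' : E3, u ≠ 1 → u' ≠ 1 → u ≠ u' →
    ∃ n : Fin 7, ∃ i j k : Fin 3,
      (X ^ (n : ℕ) * (A ^ (i : ℕ) * B ^ (j : ℕ) * G ^ (k : ℕ))) e1 = u ∧
        (X ^ (n : ℕ) * (A ^ (i : ℕ) * B ^ (j : ℕ) * G ^ (k : ℕ))) e2 = u' := by
  decide +kernel

set_option maxRecDepth 20000 in
theorem X_trans : ∀ u : E3, u ≠ 1 → ∃ i : Fin 7, (X ^ (i : ℕ)) e1 = u := by decide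

theorem X_fixed : ∀ u : E3, X u = u → u = 1 := by decide

theorem G_fixed : ∀ u : E3, G u = u → u = 1 ∨ u = e1 := by decide

theorem AB_fixed : ∀ u : E3, A u = u → B u = u → u = 1 ∨ u = e1 := by decide

theorem AC_fixed : ∀ u : E3, A u = u → C u = u → u.toAdd.2.2 = 0 := by decide

theorem ACH_fixed : ∀ u : E3, A u = u → C u = u → H u = u → u = 1 := by decide

theorem mul_self : ∀ u : E3, u * u = 1 := by decide

theorem dec_spanned : ∀ w : E3, ∃ u t : E3, w = (u * A u) * (t * G t) := by decide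

theorem rel_A : A * A = 1 := MulEquiv.ext (by decide)
theorem rel_B : B * B = 1 := MulEquiv.ext (by decide)
theorem rel_C : C * C = 1 := MulEquiv.ext (by decide)
theorem rel_S : S * S = 1 := MulEquiv.ext (by decide)
theorem rel_BA : B * A = A * B := MulEquiv.ext (by decide)
theorem rel_AC : A * C = C * A := MulEquiv.ext (by decide)
theorem rel_GA : G * A = B * G := MulEquiv.ext (by decide)
theorem rel_GB : G * B = A * B * G := MulEquiv.ext (by decide)
theorem rel_G : G * G * G = 1 := MulEquiv.ext (by decide)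
theorem rel_X : X ^ 7 = 1 := MulEquiv.ext (by decide)
theorem rel_GX : G * X = X ^ 2 * G := MulEquiv.ext (by decide)
theorem rel_SA : S * A = B * S := MulEquiv.ext (by decide)
theorem rel_SB : S * B = A * S := MulEquiv.ext (by decide)
theorem rel_SG : S * G = G * G * S := MulEquiv.ext (by decide)
theorem rel_U12 : U₁ * U₂ = A := MulEquiv.ext (by decide)
theorem rel_U34 : U₃ * U₄ = C := MulEquiv.ext (by decide)
theorem rel_U15 : U₁ * U₅ = H := MulEquiv.ext (by decide)

theorem rel_U : U₁ ^ 7 = 1 ∧ U₂ ^ 7 = 1 ∧ U₃ ^ 7 = 1 ∧ U₄ ^ 7 = 1 ∧ U₅ ^ 7 = 1 :=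
  ⟨MulEquiv.ext (by decide), MulEquiv.ext (by decide), MulEquiv.ext (by decide),
    MulEquiv.ext (by decide), MulEquiv.ext (by decide)⟩

theorem X_conj : ∀ i : Fin 7, ∃ j : Fin 7, ∀ w : E3,
    (G * X ^ (i : ℕ)) w = (X ^ (j : ℕ) * G * X ^ (7 - (j : ℕ))) w := by decide

theorem GX_sq : ∀ i : Fin 7, ∀ w : E3,
    ((G * X ^ (i : ℕ)) * (G * X ^ (i : ℕ))) w = (G * G * X ^ (((5 * i : Fin 7) : ℕ))) w := by decide

set_option maxRecDepth 20000 in
theorem commutant_unip : ∀ p q r : E3, (∀ w, lin p q r (A w) = A (lin p q r w)) →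
    (∀ w, lin p q r (B w) = B (lin p q r w)) → (∀ w, lin p q r (C w) = C (lin p q r w)) →
    (p = 1 ∧ q = 1 ∧ r = 1) ∨ (p = e1 ∧ q = e2 ∧ r = e3) ∨ (p = 1 ∧ q = 1 ∧ r = e1) ∨
      (p = e1 ∧ q = e2 ∧ r = e3 * e1) := by
  decide +kernel

set_option maxRecDepth 20000 in
theorem commutant_three : ∀ n : Fin 7, ∀ p q r : E3,
    (p = 1 ∧ q = 1 ∧ r = e1) ∨ (p = e1 ∧ q = e2 ∧ r = e3 * e1) →
    ¬ ∀ w, lin p q r ((X ^ (n : ℕ) * G * X ^ (7 - (n : ℕ))) w) =
      (X ^ (n : ℕ) * G * X ^ (7 - (n : ℕ))) (lin p q r w) := by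
  decide +kernel

end CfsgLib.Pyramidal12.Model
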