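import Mathlib
import Cfsg.Agent.SuzukiTwo.OrderBound

/-!
Elementary facts about actions on finite two-groups used for groups with a prime power number of
involutions forming one class.
-/

set_option autoImplicit false

namespace CfsgLib.Pyramidal12

/-- A homomorphism of odd period on a subgroup of an abelian two-group which fixes its involutions
fixes the subgroup. -/
theorem fixed_of_odd_period {T : Type*} [CommGroup T] (hT : IsPGroup 2 T) (P : Subgroup T)
    (f : T →* T) (hP : ∀ x ∈ P, f x ∈ P) {m : ℕ} (hm : Odd m) (hper : ∀ x ∈ P, f^[m] x = x)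
    (hinv : ∀ x ∈ P, x * x = 1 → f x = x) : ∀ x ∈ P, f x = x := by
  suffices h : ∀ k : ℕ, ∀ x ∈ P, x ^ 2 ^ k = 1 → f x = x from fun x hx => by
    obtain ⟨k, hk⟩ := hT x
    exact h k x hx hk
  intro k
  induction k with
  | zero => intro x hx h; rw [pow_zero, pow_one] at h; rw [h, map_one]
  | succ k ih =>
    intro x hx h
    rw [pow_succ', pow_mul] at h
    have h2 := ih _ (pow_mem hx 2) h
    set e := f x * x⁻¹ with he
    have heP : e ∈ P := mul_mem (hP x hx) (inv_mem hx)
    have he2 : e * e = 1 := by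
      rw [← pow_two, he, mul_pow, ← map_pow, h2, inv_pow, mul_inv_cancel]
    have hfe : f e = e := hinv e heP he2
    have hfx : f x = x * e := by rw [he, mul_comm x, mul_assoc, inv_mul_cancel, mul_one]
    have hit : ∀ n : ℕ, f^[n] x = x * e ^ n := by
      intro n
      induction n with
      | zero => simp
      | succ n ihn =>
        rw [Function.iterate_succ_apply', ihn, map_mul, map_pow, hfe, hfx, pow_succ]
        rw [mul_assoc, mul_comm e (e ^ n)]
    obtain ⟨j, rfl⟩ := hm
    have h1 : e ^ (2 * j + 1) = 1 := mul_left_cancel (((hit _).symm.trans (hper x hx)).trans (mul_one x).symm)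
    rw [pow_succ, pow_mul, pow_two, he2, one_pow, one_mul] at h1
    rw [hfx, h1, mul_one]

/-- An involutory homomorphism fixes a non-trivial element of a non-trivial invariant subgroup of an
abelian two-group. -/
theorem exists_fixed_involutory {V : Type*} [CommGroup V] [Finite V] (hV : IsPGroup 2 V)
    (P : Subgroup V) (f : V →* V) (hP : ∀ x ∈ P, f x ∈ P) (hf : ∀ x ∈ P, f (f x) = x)
    (hne : P ≠ ⊥) : ∃ x ∈ P, x ≠ 1 ∧ f x = x := by
  obtain ⟨n, hn⟩ := (hV.to_subgroup P).exists_card_eq
  have hn0 : n ≠ 0 := fun h0 => hne (Subgroup.eq_bot_of_card_eq P (by rw [hn, h0, pow_zero]))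
  obtain ⟨z, hz⟩ := exists_prime_orderOf_dvd_card' (G := P) 2 (hn ▸ dvd_pow_self 2 hn0)
  have hz1 : (z : V) ≠ 1 := fun e => by
    rw [show z = 1 from Subtype.ext e, orderOf_one] at hz; norm_num at hz
  have hz2 : (z : V) * z = 1 := by
    rw [← pow_two, ← hz, ← Subgroup.coe_pow, pow_orderOf_eq_one]; rfl
  by_cases hfz : f z = z
  · exact ⟨z, z.2, hz1, hfz⟩
  refine ⟨z * f z, mul_mem z.2 (hP z z.2), fun e => hfz ?_, ?_⟩
  · rw [← inv_eq_of_mul_eq_one_right e, inv_eq_of_mul_eq_one_right hz2]
  · rw [map_mul, hf z z.2, mul_comm]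

/-- An anisotropic quadratic map on an elementary abelian two-group at most squares the order. -/
theorem card_le_sq {V E : Type*} [CommGroup V] [Finite V] [CommGroup E] [Finite E]
    (hV : ∀ x : V, x * x = 1) (hE : ∀ x : E, x * x = 1) (q : V → E) (B : V → V → E)
    (hq : ∀ x y, q (x * y) = q x * q y * B x y) (hB : ∀ x y z, B (x * y) z = B x z * B y z)
    (hne : ∀ x, q x = 1 → x = 1) (h1 : q 1 = 1) : Nat.card V ≤ Nat.card E ^ 2 := by
  have hv : ∀ x : Additive V, 2 • x = 0 := fun x => by
    rw [two_nsmul]; exact congrArg Additive.ofMul (hV x.toMul)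
  have he : ∀ x : Additive E, 2 • x = 0 := fun x => by
    rw [two_nsmul]; exact congrArg Additive.ofMul (hE x.toMul)
  suffices key : ∀ (_ : Module (ZMod 2) (Additive V)) (_ : Module (ZMod 2) (Additive E)),
      Nat.card V ≤ Nat.card E ^ 2 from key (AddCommGroup.zmodModule hv) (AddCommGroup.zmodModule he)
  intro _ _
  have hle := CfsgLib.SuzukiTwo.finrank_le_two_mul
    (fun x : Additive V => Additive.ofMul (q x.toMul))
    (fun x y : Additive V => Additive.ofMul (B x.toMul y.toMul))
    (fun x y => congrArg Additive.ofMul (hq x.toMul y.toMul))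
    (fun x y z => congrArg Additive.ofMul (hB x.toMul y.toMul z.toMul))
    (fun x hx => congrArg Additive.ofMul (hne x.toMul hx)) (congrArg Additive.ofMul h1)
  have cV : Nat.card V = 2 ^ Module.finrank (ZMod 2) (Additive V) := by
    rw [Nat.card_congr (Additive.ofMul : V ≃ Additive V), Module.natCard_eq_pow_finrank (K := ZMod 2),
      Nat.card_zmod]
  have cE : Nat.card E = 2 ^ Module.finrank (ZMod 2) (Additive E) := by
    rw [Nat.card_congr (Additive.ofMul : E ≃ Additive E), Module.natCard_eq_pow_finrank (K := ZMod 2),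
      Nat.card_zmod]
  rw [cV, cE, ← pow_mul]
  exact Nat.pow_le_pow_right (by norm_num) (by omega)

end CfsgLib.Pyramidal12
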