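import Mathlib
import Cfsg.Agent.Pyramidal12.Model
import Cfsg.Agent.Pyramidal12.Tools

/-!
A group whose involutions form an elementary abelian normal subgroup of order eight inducing all its
automorphisms has a non-abelian Sylow two-subgroup in the kernel of the action.
-/

set_option autoImplicit false
set_option synthInstance.maxSize 1024

namespace CfsgLib.Pyramidal12

open Model IsMulCommutative

/-- The setting: `T` is a normal Sylow two-subgroup of the kernel. -/
structure L32Ctx (H : Type) [Group H] (T : Subgroup H) where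
  fin : Finite H
  ι : E3 →* H
  inj : Function.Injective ι
  mem_iff : ∀ x : H, x * x = 1 ↔ x ∈ ι.range
  ψ : H →* MulAut E3
  surj : Function.Surjective ψ
  compat : ∀ (h : H) (w : E3), ι (ψ h w) = h * ι w * h⁻¹
  normal : T.Normal
  pgroup : IsPGroup 2 T
  le_ker : T ≤ ψ.ker
  mem_of_ker : ∀ h : H, ψ h = 1 → (∃ k, h ^ 2 ^ k = 1) → h ∈ T

namespace L32Ctx

variable {H : Type} [Group H] {T : Subgroup H}

theorem ι_mem (c : L32Ctx H T) (w : E3) : c.ι w ∈ T := by
  refine c.mem_of_ker _ (MulEquiv.ext fun z => c.inj ?_) ⟨1, ?_⟩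
  · rw [c.compat, MulAut.one_apply]
    rw [← map_mul, ← map_inv, ← map_mul, mul_comm w z, mul_inv_cancel_right]
  · rw [pow_one, pow_two, ← map_mul, Model.mul_self, map_one]

/-- Lifts of two commuting involutory automorphisms whose squares and product square lie in `T`. -/
theorem exists_lifts (c : L32Ctx H T) (a b : MulAut E3) (ha : a * a = 1) (hb : b * b = 1)
    (hab : b * a = a * b) :
    ∃ P : Subgroup H, IsPGroup 2 P ∧ ∃ y ∈ P, ∃ z ∈ P, c.ψ y = a ∧ c.ψ z = b := by
  haveI := c.fin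
  set K : Subgroup (MulAut E3) := Subgroup.closure {a, b}
  have hK : IsPGroup 2 K := by
    have hcomm : ∀ x ∈ ({a, b} : Set (MulAut E3)), ∀ y ∈ ({a, b} : Set (MulAut E3)), x * y = y * x := by
      rintro x (rfl | rfl) y (rfl | rfl) <;> first | rfl | exact hab | exact hab.symm
    letI := Subgroup.closureCommGroupOfComm hcomm
    rintro ⟨x, hx⟩
    refine ⟨1, Subtype.ext ?_⟩
    rw [pow_one, SubgroupClass.coe_pow, pow_two, OneMemClass.coe_one]
    induction hx using Subgroup.closure_induction with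
    | mem x hx => rcases hx with rfl | rfl <;> assumption
    | one => exact mul_one 1
    | mul x y hx hy ix iy =>
      have : x * y = y * x :=
        congrArg Subtype.val (mul_comm (⟨x, hx⟩ : K) (⟨y, hy⟩ : K))
      calc x * y * (x * y) = x * (y * x) * y := by group
        _ = (x * x) * (y * y) := by rw [← this]; group
        _ = 1 := by rw [ix, iy, one_mul]
    | inv x _ ix => rw [← mul_inv_rev, ix, inv_one]
  set M := K.comap c.ψ with hM
  obtain ⟨P⟩ := Sylow.nonempty (p := 2) (G := M)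
  let φ : M →* K := (c.ψ.comp M.subtype).codRestrict K fun m => m.2
  have hφ : Function.Surjective φ := fun k => by
    obtain ⟨h, hh⟩ := c.surj k.1
    exact ⟨⟨h, show c.ψ h ∈ K by rw [hh]; exact k.2⟩, Subtype.ext hh⟩
  have htop : ((P.mapSurjective hφ : Sylow 2 K) : Subgroup K) = ⊤ := by
    obtain ⟨Q, hQ⟩ := IsPGroup.exists_le_sylow (P := (⊤ : Subgroup K)) (hK.of_equiv Subgroup.topEquiv.symm)
    have hQt : (Q : Subgroup K) = ⊤ := top_le_iff.1 hQ
    obtain ⟨k, hk⟩ := MulAction.exists_smul_eq K Q (P.mapSurjective hφ)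
    rw [← hk, Sylow.coe_subgroup_smul, hQt]
    exact Subgroup.map_top_of_surjective _ (MulEquiv.surjective _)
  refine ⟨(P : Subgroup M).map M.subtype, P.isPGroup'.map _, ?_⟩
  have key : ∀ k : K, ∃ y ∈ (P : Subgroup M).map M.subtype, c.ψ y = k := fun k => by
    have : k ∈ ((P.mapSurjective hφ : Sylow 2 K) : Subgroup K) := htop ▸ Subgroup.mem_top k
    obtain ⟨m, hm, rfl⟩ := this
    exact ⟨m, ⟨m, hm, rfl⟩, rfl⟩
  obtain ⟨y, hy, hya⟩ := key ⟨a, Subgroup.subset_closure (Or.inl rfl)⟩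
  obtain ⟨z, hz, hzb⟩ := key ⟨b, Subgroup.subset_closure (Or.inr rfl)⟩
  exact ⟨y, hy, z, hz, hya, hzb⟩

theorem pow_of_mem (c : L32Ctx H T) {h : H} (hh : h ∈ T) : ∃ k, h ^ 2 ^ k = 1 :=
  (c.pgroup ⟨h, hh⟩).imp fun _ e => congrArg Subtype.val e

theorem trans_apply (c : L32Ctx H T) (u u' : E3) (hu : u ≠ 1) (hu' : u' ≠ 1) :
    ∃ h : H, c.ψ h u = u' := by
  obtain ⟨i, hi⟩ := X_trans u hu
  obtain ⟨j, hj⟩ := X_trans u' hu'
  obtain ⟨h, hh⟩ := c.surj (X ^ (j : ℕ) * (X ^ (i : ℕ))⁻¹)
  exact ⟨h, by rw [hh, MulAut.mul_apply, ← hi, MulAut.inv_apply_self, hj]⟩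

set_option maxHeartbeats 800000 in
/-- The abelian case is impossible. -/
theorem false_of_comm (c : L32Ctx H T) (hcomm : ∀ x ∈ T, ∀ y ∈ T, x * y = y * x) : False := by
  haveI := c.fin
  haveI := c.normal
  haveI : IsMulCommutative T := ⟨⟨fun x y => Subtype.ext (hcomm x x.2 y y.2)⟩⟩
  let γ : H →* MulAut T := MulAut.conjNormal
  have hγ : ∀ h (t : T), (γ h t : H) = h * t * h⁻¹ := fun h t => MulAut.conjNormal_apply h t
  let jW : E3 → T := fun w => ⟨c.ι w, c.ι_mem w⟩
  have hjW : ∀ x : T, x * x = 1 → ∃ w, jW w = x := fun x hx => by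
    obtain ⟨w, hw⟩ := (c.mem_iff x).1 (congrArg Subtype.val hx)
    exact ⟨w, Subtype.ext hw⟩
  have hγW : ∀ h w, γ h (jW w) = jW (c.ψ h w) := fun h w =>
    Subtype.ext ((hγ h _).trans (c.compat h w).symm)
  -- the kernel of `ψ` centralizes `T`
  have hker : c.ψ.ker ≤ γ.ker := by
    intro h hh
    rw [MonoidHom.mem_ker] at hh ⊢
    obtain ⟨a, m, hm, he⟩ :=
      Nat.exists_eq_pow_mul_and_not_dvd (orderOf_pos h).ne' 2 (by norm_num)
    have h2 : γ (h ^ m) = 1 := by
      have hmem : h ^ m ∈ T := c.mem_of_ker _ (by rw [map_pow, hh, one_pow])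
        ⟨a, by rw [← pow_mul, mul_comm, ← he, pow_orderOf_eq_one]⟩
      refine MulEquiv.ext fun t => Subtype.ext ?_
      rw [hγ, hcomm _ hmem t t.2, mul_inv_cancel_right]
      rfl
    have hmo : Odd m := Nat.not_even_iff_odd.1 fun he2 => hm (even_iff_two_dvd.1 he2)
    have hfix := fixed_of_odd_period c.pgroup ⊤ (γ h).toMonoidHom (fun _ _ => trivial) hmo
      (fun x _ => by
        have hit : ∀ n : ℕ, (⇑(γ h).toMonoidHom)^[n] x = γ (h ^ n) x := by
          intro n
          induction n with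
          | zero => simp
          | succ n ih =>
            rw [Function.iterate_succ_apply', ih, pow_succ', map_mul, MulAut.mul_apply]; rfl
        rw [hit, h2]; rfl)
      (fun x _ hx => by
        obtain ⟨w, rfl⟩ := hjW x hx
        exact (hγW h w).trans (by rw [hh]; rfl))
    exact MulEquiv.ext fun x => hfix x trivial
  obtain ⟨ρ, hρ⟩ : ∃ ρ : MulAut E3 →* MulAut T, ∀ h, γ h = ρ (c.ψ h) :=
    ⟨c.ψ.liftOfSurjective c.surj ⟨γ, hker⟩, fun h =>
    (DFunLike.congr_fun (c.ψ.liftOfRightInverse_comp (Function.surjInv c.surj)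
      (Function.rightInverse_surjInv c.surj) ⟨γ, hker⟩) h).symm⟩
  have hρW : ∀ f w, ρ f (jW w) = jW (f w) := fun f w => by
    obtain ⟨h, rfl⟩ := c.surj f
    rw [← hρ, hγW]
  -- the map onto the involutions
  obtain ⟨k, hk1, hk⟩ : ∃ k : ℕ, (∀ x : T, x ^ 2 ^ (k + 1) = 1) ∧ ∃ x : T, x ^ 2 ^ k ≠ 1 := by
    classical
    have hex : ∃ n : ℕ, ∀ x : T, x ^ 2 ^ n = 1 := by
      obtain ⟨n, hn⟩ := c.pgroup.exists_card_eq
      exact ⟨n, fun x => hn ▸ pow_card_eq_one'⟩
    have hspec := Nat.find_spec hex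
    have hne : Nat.find hex ≠ 0 := fun e => by
      rw [e] at hspec
      have := hspec (jW e1)
      rw [pow_zero, pow_one] at this
      have h1 : c.ι e1 = c.ι 1 := (congrArg Subtype.val this).trans (map_one c.ι).symm
      exact absurd (c.inj h1) (by decide)
    obtain ⟨k, hk⟩ := Nat.exists_eq_succ_of_ne_zero hne
    refine ⟨k, fun x => (show Nat.find hex = k + 1 from hk) ▸ hspec x, ?_⟩
    have := Nat.find_min hex (show k < Nat.find hex by omega)
    push_neg at this
    exact this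
  let π : T →* T := powMonoidHom (2 ^ k)
  have hπsq : ∀ x, π x * π x = 1 := fun x => by
    show x ^ 2 ^ k * x ^ 2 ^ k = 1
    rw [← pow_add, ← two_mul, ← pow_succ', hk1]
  have hπρ : ∀ f x, π (ρ f x) = ρ f (π x) := fun f x => (map_pow _ _ _).symm
  have hπsurj : ∀ w, jW w ∈ π.range := by
    obtain ⟨x, hx⟩ := hk
    obtain ⟨u, hu⟩ := hjW _ (hπsq x)
    intro w
    rcases eq_or_ne w 1 with rfl | hw
    · exact ⟨1, by rw [map_one]; exact Subtype.ext (map_one c.ι).symm⟩
    have hu1 : u ≠ 1 := fun e => hx (by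
      show π x = 1
      rw [← hu, e]; exact Subtype.ext (map_one c.ι))
    obtain ⟨h, hh⟩ := c.trans_apply u w hu1 hw
    exact ⟨ρ (c.ψ h) x, by rw [hπρ, ← hu, hρW, hh]⟩
  -- the kernel of `π` consists of the squares
  let sq : T →* T := powMonoidHom 2
  have hsqker : sq.ker.carrier = Set.range jW := by
    ext x
    show x ^ 2 = 1 ↔ _
    rw [pow_two]
    refine ⟨fun hx => hjW x hx, ?_⟩
    rintro ⟨w, rfl⟩
    refine Subtype.ext ?_
    show c.ι w * c.ι w = 1
    rw [← map_mul, Model.mul_self, map_one]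
  have hπker : π.ker = sq.range := by
    have hle : sq.range ≤ π.ker := by
      rintro _ ⟨y, rfl⟩
      show (y ^ 2) ^ 2 ^ k = 1
      rw [← pow_mul, ← pow_succ', hk1]
    refine (Subgroup.eq_of_le_of_card_ge hle ?_).symm
    have e1 : π.range.carrier = sq.ker.carrier := by
      rw [hsqker]
      refine Set.Subset.antisymm ?_ ?_
      · rintro _ ⟨y, rfl⟩; exact hjW _ (hπsq y)
      · rintro _ ⟨w, rfl⟩; exact hπsurj w
    have e2 : π.range = sq.ker := Subgroup.ext fun x => Set.ext_iff.1 e1 x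
    have h1 := Subgroup.card_mul_index π.ker
    have h2 := Subgroup.card_mul_index sq.ker
    rw [Subgroup.index_ker] at h1 h2
    rw [e2] at h1
    rw [mul_comm (Nat.card sq.ker)] at h2
    exact le_of_eq (Nat.eq_of_mul_eq_mul_right Nat.card_pos (h1.trans h2.symm))
  -- a subgroup covering the involutions is everything
  have hgen : ∀ S : Subgroup T, (∀ w, ∃ s ∈ S, π s = jW w) → S = ⊤ := by
    intro S hS
    have step : ∀ x : T, ∃ s ∈ S, ∃ y : T, x = s * y ^ 2 := by
      intro x
      obtain ⟨w, hw⟩ := hjW _ (hπsq x)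
      obtain ⟨s, hs, hsw⟩ := hS w
      have : s⁻¹ * x ∈ π.ker := by rw [MonoidHom.mem_ker, map_mul, map_inv, hsw, hw, inv_mul_cancel]
      rw [hπker] at this
      obtain ⟨y, hy⟩ := this
      exact ⟨s, hs, y, by rw [show y ^ 2 = s⁻¹ * x from hy, mul_inv_cancel_left]⟩
    have : ∀ j : ℕ, ∀ x : T, ∃ s ∈ S, ∃ y : T, x = s * y ^ 2 ^ j := by
      intro j
      induction j with
      | zero => exact fun x => ⟨1, one_mem S, x, by simp⟩
      | succ j ih =>
        intro x
        obtain ⟨s, hs, y, rfl⟩ := ih x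
        obtain ⟨s', hs', z, rfl⟩ := step y
        exact ⟨s * s' ^ 2 ^ j, mul_mem hs (pow_mem hs' _), z, by
          rw [mul_pow, ← pow_mul, pow_succ' 2 j, mul_assoc]⟩
    refine (Subgroup.eq_top_iff' S).2 fun x => ?_
    obtain ⟨s, hs, y, rfl⟩ := this (k + 1) x
    rwa [hk1, mul_one]
  -- the norm of the four-group is trivial
  have ρρ : ∀ f f' x, ρ f (ρ f' x) = ρ (f * f') x := fun f f' x => by rw [map_mul]; rfl
  let N : T →* T :=
    { toFun := fun x => x * ρ A x * ρ B x * ρ (A * B) x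
      map_one' := by simp
      map_mul' := fun x y => by
        simp only [map_mul]
        rw [mul_mul_mul_comm x y, mul_mul_mul_comm (x * _) (y * _),
          mul_mul_mul_comm (x * _ * _) (y * _ * _)] }
  have hNA : ∀ x, ρ A (N x) = N x := fun x => by
    show ρ A (x * ρ A x * ρ B x * ρ (A * B) x) = x * ρ A x * ρ B x * ρ (A * B) x
    rw [map_mul (ρ A) (x * _ * _), map_mul (ρ A) (x * _), map_mul (ρ A) x, ρρ, ρρ, ρρ,
      rel_A, ← mul_assoc A A B, rel_A, one_mul, map_one, MulAut.one_apply]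
    (refine Additive.ofMul.injective ?_; simp only [ofMul_mul]; abel)
  have hBAB : B * (A * B) = A := by
    rw [← mul_assoc, rel_BA, mul_assoc, rel_B, mul_one]
  have hNB : ∀ x, ρ B (N x) = N x := fun x => by
    show ρ B (x * ρ A x * ρ B x * ρ (A * B) x) = x * ρ A x * ρ B x * ρ (A * B) x
    rw [map_mul (ρ B) (x * _ * _), map_mul (ρ B) (x * _), map_mul (ρ B) x, ρρ, ρρ, ρρ,
      rel_B, hBAB, rel_BA, map_one, MulAut.one_apply]
    (refine Additive.ofMul.injective ?_; simp only [ofMul_mul]; abel)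
  let F : Subgroup T :=
    MonoidHom.eqLocus (ρ A).toMonoidHom (MonoidHom.id T) ⊓
      MonoidHom.eqLocus (ρ B).toMonoidHom (MonoidHom.id T)
  have hFG : ∀ x ∈ F, ρ G x = x := by
    refine fixed_of_odd_period c.pgroup F (ρ G).toMonoidHom ?_ (show Odd 3 by decide) ?_ ?_
    · rintro x ⟨hxA, hxB⟩
      change ρ A x = x at hxA
      change ρ B x = x at hxB
      have hGB' : A * G = G * (A * B) := MulEquiv.ext (by decide)
      refine ⟨?_, ?_⟩
      · show ρ A (ρ G x) = ρ G x
        rw [ρρ, hGB', ← ρρ, ← ρρ, hxB, hxA]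
      · show ρ B (ρ G x) = ρ G x
        rw [ρρ, ← rel_GA, ← ρρ, hxA]
    · intro x _
      show ρ G (ρ G (ρ G x)) = x
      rw [ρρ, ρρ, rel_G, map_one]; rfl
    · rintro x ⟨hxA, hxB⟩ hx2
      obtain ⟨w, rfl⟩ := hjW x hx2
      have hA' : A w = w := c.inj (congrArg Subtype.val ((hρW A w).symm.trans hxA))
      have hB' : B w = w := c.inj (congrArg Subtype.val ((hρW B w).symm.trans hxB))
      show ρ G (jW w) = jW w
      rw [hρW]
      rcases AB_fixed w hA' hB' with rfl | rfl
      · rw [map_one]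
      · exact congrArg jW (show G e1 = e1 by decide)
  have hN1 : ∀ x, N x = 1 := by
    have : N.ker = ⊤ := by
      refine hgen _ fun w => ?_
      obtain ⟨u, t, rfl⟩ := dec_spanned w
      obtain ⟨x, hx⟩ := hπsurj u
      obtain ⟨y, hy⟩ := hπsurj t
      have hsub : ∀ f, (∀ z, N (ρ f z) = N z) → ∀ z, z⁻¹ * ρ f z ∈ N.ker := fun f hf z => by
        rw [MonoidHom.mem_ker, map_mul, map_inv, hf, inv_mul_cancel]
      refine ⟨(x⁻¹ * ρ A x) * (y⁻¹ * ρ G y), mul_mem (hsub A ?_ x) (hsub G ?_ y), ?_⟩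
      · intro z
        show ρ A z * ρ A (ρ A z) * ρ B (ρ A z) * ρ (A * B) (ρ A z) =
          z * ρ A z * ρ B z * ρ (A * B) z
        rw [ρρ, ρρ, ρρ, rel_A, rel_BA, mul_assoc A B A, rel_BA, ← mul_assoc A A B, rel_A, one_mul,
          map_one, MulAut.one_apply]
        (refine Additive.ofMul.injective ?_; simp only [ofMul_mul]; abel)
      · intro z
        have e : N (ρ G z) = ρ G (N z) := by
          show ρ G z * ρ A (ρ G z) * ρ B (ρ G z) * ρ (A * B) (ρ G z) =
            ρ G (z * ρ A z * ρ B z * ρ (A * B) z)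
          simp only [map_mul (ρ G), ρρ]
          rw [rel_GA, show G * (A * B) = A * G from MulEquiv.ext (by decide), rel_GB]
          (refine Additive.ofMul.injective ?_; simp only [ofMul_mul]; abel)
        rw [e]
        exact hFG _ ⟨hNA z, hNB z⟩
      · rw [map_mul, map_mul, map_mul, map_inv, map_inv, hπρ, hπρ, hx, hy, hρW, hρW]
        refine Subtype.ext ?_
        show (c.ι u)⁻¹ * c.ι (A u) * ((c.ι t)⁻¹ * c.ι (G t)) = c.ι (u * A u * (t * G t))
        rw [← map_inv, ← map_inv, inv_eq_of_mul_eq_one_right (Model.mul_self u),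
          inv_eq_of_mul_eq_one_right (Model.mul_self t)]
        simp only [map_mul]
    intro x
    exact MonoidHom.mem_ker.1 (this ▸ Subgroup.mem_top x)
  -- the fixed points of an involution of the four-group
  have hindex : ∀ f f' : MulAut E3, f * f = 1 → f' * f = f * f' →
      (∀ u, ∃ w, ∀ z, f z = z → w ≠ z * u ∨ f u ≠ u) →
      (∀ x, x * ρ f x * ρ f' (x * ρ f x) = 1) →
      (∃ w, f w = w ∧ w * f' w ≠ 1) →
      ∀ x, ρ f x = x → x * ρ f' x = 1 → ∃ t, t * ρ f t = x := by
    intro f f' hf _ hplane hnorm ⟨w₀, hw₀, hw₀'⟩ x hx hxψ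
    let δ : T →* T := MonoidHom.id T * (ρ f).toMonoidHom
    let S₁ : Subgroup T := MonoidHom.eqLocus (ρ f).toMonoidHom (MonoidHom.id T)
    let ψ' : T →* T := MonoidHom.id T * (ρ f').toMonoidHom
    have hδS : δ.range ≤ S₁ := by
      rintro _ ⟨t, rfl⟩
      show ρ f (t * ρ f t) = t * ρ f t
      rw [map_mul, ρρ, hf, map_one, MulAut.one_apply, mul_comm]
    have hδψ : δ.range ≤ ψ'.ker := by
      rintro _ ⟨t, rfl⟩
      exact hnorm t
    have hinfle : ∀ z : T, ρ f z = z → z * ρ f z = 1 → z * z = 1 := fun z h1 h2 => by rwa [h1] at h2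
    have hinf : Nat.card ↥(S₁ ⊓ δ.ker) ≤ 4 := by
      classical
      have hP : (Finset.univ.filter fun z : E3 => f z = z).card ≤ 4 := by
        obtain ⟨u, hu⟩ : ∃ u, f u ≠ u := by
          by_contra hc
          push_neg at hc
          obtain ⟨z, hz⟩ := hplane 1
          rcases hz z (hc z) with r | r
          · exact r (mul_one z).symm
          · exact r (map_one f)
        set P := Finset.univ.filter fun z : E3 => f z = z with hPdef
        have hdisj : Disjoint P (P.image (· * u)) := by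
          rw [Finset.disjoint_left]
          intro z hz hz'
          obtain ⟨z', hz'P, rfl⟩ := Finset.mem_image.1 hz'
          simp only [hPdef, Finset.mem_filter, Finset.mem_univ, true_and, map_mul] at hz hz'P
          rw [hz'P] at hz
          exact hu (mul_left_cancel hz)
        have h1 := Finset.card_le_univ (P ∪ P.image (· * u))
        rw [Finset.card_union_of_disjoint hdisj, Finset.card_image_of_injective _
          (mul_left_injective u)] at h1
        have : Fintype.card E3 = 8 := rfl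
        omega
      have hmem : ∀ z : ↥(S₁ ⊓ δ.ker), ∃ w, jW w = z.1 ∧ f w = w := by
        intro z
        obtain ⟨w, hw⟩ := hjW _ (hinfle z.1 z.2.1 z.2.2)
        refine ⟨w, hw, c.inj (congrArg Subtype.val (?_ : jW (f w) = jW w))⟩
        rw [← hρW, hw]
        exact z.2.1
      let emb : ↥(S₁ ⊓ δ.ker) → {z : E3 // f z = z} := fun z =>
        ⟨(hmem z).choose, (hmem z).choose_spec.2⟩
      refine (Nat.card_le_card_of_injective emb fun a b e => Subtype.ext ?_).trans ?_
      · rw [← (hmem a).choose_spec.1, ← (hmem b).choose_spec.1]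
        exact congrArg jW (congrArg Subtype.val e)
      · rwa [Nat.card_eq_fintype_card, Fintype.card_subtype]
    have hproper : S₁ ⊔ δ.ker ≠ ⊤ := by
      intro htop
      obtain ⟨u, hu⟩ := hplane 1
      obtain ⟨y, hy⟩ := hπsurj u
      have hy' : y ∈ S₁ ⊔ δ.ker := htop ▸ Subgroup.mem_top y
      obtain ⟨p, hp, r, hr, rfl⟩ := Subgroup.mem_sup.1 hy'
      have hfix : ∀ z, (ρ f z = z ∨ z * ρ f z = 1) → ρ f (π z) = π z := by
        intro z hz
        rw [← hπρ]
        rcases hz with e | e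
        · rw [e]
        · rw [← inv_eq_of_mul_eq_one_right e, map_inv, inv_eq_of_mul_eq_one_right (hπsq z)]
      have : ρ f (jW u) = jW u := by
        rw [← hy, map_mul, map_mul, hfix p (Or.inl hp), hfix r (Or.inr hr)]
      rw [hρW] at this
      rcases hu u (c.inj (congrArg Subtype.val this)) with r | r
      · exact r (mul_one u).symm
      · exact r (map_one f)
    have hsup : 2 * Nat.card ↥(S₁ ⊔ δ.ker) ≤ Nat.card T := by
      rw [← Subgroup.card_mul_index (S₁ ⊔ δ.ker), mul_comm 2]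
      exact Nat.mul_le_mul_left _ (Subgroup.one_lt_index_of_ne_top hproper)
    have hprod : Nat.card S₁ * Nat.card δ.ker =
        Nat.card ↥(S₁ ⊔ δ.ker) * Nat.card ↥(S₁ ⊓ δ.ker) := by
      have e1 := Subgroup.relIndex_mul_relIndex ⊥ (S₁ ⊓ δ.ker) S₁ bot_le inf_le_left
      have e2 := Subgroup.relIndex_mul_relIndex ⊥ δ.ker (S₁ ⊔ δ.ker) bot_le le_sup_right
      simp only [Subgroup.relIndex_bot_left] at e1 e2
      rw [Subgroup.inf_relIndex_left] at e1
      rw [Subgroup.relIndex_sup_right] at e2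
      rw [← e1, ← e2]; ring
    have hδcard := Subgroup.card_mul_index δ.ker
    rw [Subgroup.index_ker] at hδcard
    have h2 : Nat.card S₁ ≤ 2 * Nat.card δ.range := by
      refine Nat.le_of_mul_le_mul_right ?_ (Nat.card_pos (α := δ.ker))
      rw [hprod]
      calc Nat.card ↥(S₁ ⊔ δ.ker) * Nat.card ↥(S₁ ⊓ δ.ker)
          ≤ Nat.card ↥(S₁ ⊔ δ.ker) * 4 := Nat.mul_le_mul_left _ hinf
        _ ≤ _ := by nlinarith
    -- `δ.range` is the kernel of `ψ'` on `S₁`
    have hw0S : jW w₀ ∈ S₁ := show ρ f (jW w₀) = jW w₀ by rw [hρW, hw₀]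
    have hw0ψ : jW w₀ ∉ ψ'.ker := fun e => hw₀' (c.inj (by
      have e' : jW w₀ * ρ f' (jW w₀) = 1 := e
      rw [hρW] at e'
      rw [map_mul, map_one]
      exact congrArg Subtype.val e'))
    have hle : δ.range ≤ S₁ ⊓ ψ'.ker := le_inf hδS hδψ
    have hlt : 2 * Nat.card ↥(S₁ ⊓ ψ'.ker) ≤ Nat.card S₁ := by
      rw [← Subgroup.relIndex_bot_left S₁,
        ← Subgroup.relIndex_mul_relIndex ⊥ (S₁ ⊓ ψ'.ker) S₁ bot_le inf_le_left,
        Subgroup.relIndex_bot_left, mul_comm 2]
      refine Nat.mul_le_mul_left _ ?_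
      have h1 : (S₁ ⊓ ψ'.ker).relIndex S₁ ≠ 1 := fun e =>
        hw0ψ (Subgroup.relIndex_eq_one.1 e hw0S).2
      have h0 : (S₁ ⊓ ψ'.ker).relIndex S₁ ≠ 0 := Subgroup.index_ne_zero_of_finite
      omega
    have heq : δ.range = S₁ ⊓ ψ'.ker := Subgroup.eq_of_le_of_card_ge hle (by omega)
    obtain ⟨t, ht⟩ : x ∈ δ.range := heq ▸ ⟨hx, hxψ⟩
    exact ⟨t, ht⟩
  -- lifts of the four-group
  obtain ⟨P, hP, y, hy, z, hz, hyA, hzB⟩ := c.exists_lifts A B rel_A rel_B rel_BA
  have hPT : ∀ h ∈ P, c.ψ h = 1 → h ∈ T := fun h hh h1 =>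
    c.mem_of_ker h h1 ((hP ⟨h, hh⟩).imp fun _ e => congrArg Subtype.val e)
  let α : T := ⟨y * y, hPT _ (mul_mem hy hy) (by rw [map_mul, hyA, rel_A])⟩
  let β : T := ⟨z * z, hPT _ (mul_mem hz hz) (by rw [map_mul, hzB, rel_B])⟩
  let δ : T := ⟨y⁻¹ * z * y * z⁻¹, hPT _ (mul_mem (mul_mem (mul_mem (inv_mem hy) hz) hy) (inv_mem hz)) (by
    rw [map_mul, map_mul, map_mul, map_inv, map_inv, hyA, hzB]
    exact MulEquiv.ext (by decide))⟩
  let η : T := ⟨y * z * (y * z), hPT _ (mul_mem (mul_mem hy hz) (mul_mem hy hz)) (by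
    rw [map_mul, map_mul, hyA, hzB]
    exact MulEquiv.ext (by decide))⟩
  have hconj : ∀ (h : H) (f : MulAut E3), c.ψ h = f → ∀ t : T, (ρ f t : H) = h * t * h⁻¹ := by
    rintro h f rfl t
    rw [← hρ, hγ]
  have hAα : ρ A α = α := Subtype.ext (by rw [hconj y A hyA]; show y * (y * y) * y⁻¹ = y * y; group)
  have hBβ : ρ B β = β := Subtype.ext (by rw [hconj z B hzB]; show z * (z * z) * z⁻¹ = z * z; group)
  have hABη : ρ (A * B) η = η := Subtype.ext (by
    rw [hconj (y * z) (A * B) (by rw [map_mul, hyA, hzB])]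
    show y * z * (y * z * (y * z)) * (y * z)⁻¹ = y * z * (y * z); group)
  have hηeq : η = α * δ * β := Subtype.ext (by
    show y * z * (y * z) = y * y * (y⁻¹ * z * y * z⁻¹) * (z * z); group)
  have hδA : δ * ρ A δ = ρ (A * B) α * α⁻¹ := Subtype.ext (by
    rw [Subgroup.coe_mul, Subgroup.coe_mul, Subgroup.coe_inv, hconj y A hyA,
      hconj (y⁻¹ * z) (A * B) (by rw [map_mul, map_inv, hyA, hzB]; exact MulEquiv.ext (by decide))]
    show y⁻¹ * z * y * z⁻¹ * (y * (y⁻¹ * z * y * z⁻¹) * y⁻¹) =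
      y⁻¹ * z * (y * y) * (y⁻¹ * z)⁻¹ * (y * y)⁻¹
    group)
  have hφc : η * ρ A η = (α * ρ B α) * (β * ρ A β) := by
    have hAB : ρ (A * B) α = ρ B α := by
      rw [← rel_BA, ← ρρ, hAα]
    have e : α * ρ B α * (β * ρ A β) = α * α * (ρ B α * α⁻¹) * (β * ρ A β) := by
      rw [mul_assoc α α, mul_comm (ρ B α) α⁻¹, mul_inv_cancel_left]
    rw [e, ← hAB, ← hδA, hηeq, map_mul, map_mul, hAα]
    (refine Additive.ofMul.injective ?_; simp only [ofMul_mul]; abel)
  have hval : ∀ (f f' : MulAut E3), ({f, f'} : Set (MulAut E3)) ⊆ {A, B, A * B} → f ≠ f' →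
      ∀ t : T, ρ f t = t → t * ρ f' t = 1 ∨ t * ρ f' t = jW e1 := by
    intro f f' hff hne t ht
    set u := t * ρ f' t with hu
    have hab : f * f' = f' * f ∧ f * f = 1 ∧ f' * f' = 1 := by
      have h1 := hff (Or.inl rfl)
      have h2 := hff (Or.inr rfl)
      rcases h1 with rfl | rfl | rfl <;> rcases h2 with rfl | rfl | rfl <;>
        exact ⟨MulEquiv.ext (by decide), MulEquiv.ext (by decide), MulEquiv.ext (by decide)⟩
    have hu2 : u * u = N t := by
      have hthird : N t = t * ρ f t * ρ f' t * ρ f' (ρ f t) := by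
        have h1 := hff (Or.inl rfl)
        have h2 := hff (Or.inr rfl)
        show t * ρ A t * ρ B t * ρ (A * B) t = _
        rcases h1 with rfl | rfl | rfl <;> rcases h2 with rfl | rfl | rfl <;>
          first
            | exact absurd rfl hne
            | (rw [ρρ]
               try simp only [rel_BA, show A * B * A = B from MulEquiv.ext (by decide),
                 show A * (A * B) = B from MulEquiv.ext (by decide),
                 show A * B * B = A from MulEquiv.ext (by decide),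
                 show B * (A * B) = A from MulEquiv.ext (by decide)]
               all_goals (refine Additive.ofMul.injective ?_; simp only [ofMul_mul]; abel))
      rw [hthird, ht, hu]
      (refine Additive.ofMul.injective ?_; simp only [ofMul_mul]; abel)
    rw [hN1] at hu2
    obtain ⟨w, hw⟩ := hjW u hu2
    have hfu : ρ f u = u := by rw [hu, map_mul, ρρ, hab.1, ← ρρ, ht]
    have hf'u : ρ f' u = u := by rw [hu, map_mul, ρρ, hab.2.2, map_one, MulAut.one_apply, mul_comm]
    rw [← hw, hρW] at hfu hf'u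
    have e1' : f w = w := c.inj (congrArg Subtype.val hfu)
    have e2' : f' w = w := c.inj (congrArg Subtype.val hf'u)
    have : w = 1 ∨ w = e1 := by
      have h1 := hff (Or.inl rfl)
      have h2 := hff (Or.inr rfl)
      rcases h1 with rfl | rfl | rfl <;> rcases h2 with rfl | rfl | rfl <;>
        first
          | exact absurd rfl hne
          | exact AB_fixed w e1' e2'
          | exact AB_fixed w e2' e1'
          | exact (show ∀ w, A w = w → (A * B) w = w → w = 1 ∨ w = e1 by decide) w e1' e2'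
          | exact (show ∀ w, A w = w → (A * B) w = w → w = 1 ∨ w = e1 by decide) w e2' e1'
          | exact (show ∀ w, B w = w → (A * B) w = w → w = 1 ∨ w = e1 by decide) w e1' e2'
          | exact (show ∀ w, B w = w → (A * B) w = w → w = 1 ∨ w = e1 by decide) w e2' e1'
    rcases this with r | r <;> rw [← hw, r]
    · exact Or.inl (Subtype.ext (map_one c.ι))
    · exact Or.inr rfl
  -- the involution
  have hfin : ∀ (h : H) (f f' : MulAut E3), c.ψ h = f → f ≠ 1 → f * f = 1 → f' * f = f * f' →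
      (∀ u, ∃ w, ∀ z, f z = z → w ≠ z * u ∨ f u ≠ u) →
      (∃ w, f w = w ∧ w * f' w ≠ 1) →
      (∀ x, x * ρ f x * ρ f' (x * ρ f x) = 1) →
      ∀ s : T, (s : H) = h * h → s * ρ f' s = 1 → False := by
    intro h f f' hhf hf1 hff hcom hplane hw hnorm s hs hs1
    have hsfix : ρ f s = s := Subtype.ext (by rw [hconj h f hhf, hs]; group)
    obtain ⟨t, ht⟩ := hindex f f' hff hcom hplane hnorm hw s hsfix hs1
    have hinv : (h * (t : H)⁻¹) * (h * (t : H)⁻¹) = 1 := by
      have e : (ρ f t⁻¹ * s * t⁻¹ : T) = 1 := by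
        rw [← ht, map_inv]
        rw [show (ρ f t)⁻¹ * (t * ρ f t) * t⁻¹ = ((ρ f t)⁻¹ * ρ f t) * (t * t⁻¹) by (refine Additive.ofMul.injective ?_; simp only [ofMul_mul]; abel),
          inv_mul_cancel, mul_inv_cancel, one_mul]
      have e' := congrArg Subtype.val e
      simp only [Subgroup.coe_mul, Subgroup.coe_inv, OneMemClass.coe_one, hconj h f hhf, hs] at e'
      calc (h * (t : H)⁻¹) * (h * (t : H)⁻¹) = h * (t : H)⁻¹ * h⁻¹ * (h * h) * (t : H)⁻¹ := by group
        _ = 1 := e'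
    obtain ⟨w, hw'⟩ := (c.mem_iff _).1 hinv
    have h1 : c.ψ (h * (t : H)⁻¹) = 1 := by
      rw [← hw']
      exact MonoidHom.mem_ker.1 (c.le_ker (c.ι_mem w))
    rw [map_mul, hhf, map_inv, MonoidHom.mem_ker.1 (c.le_ker t.2), inv_one, mul_one] at h1
    exact hf1 h1
  have hnorm : ∀ f f' : MulAut E3, (∀ x, ρ f' (ρ f x) * (ρ f' x * (ρ f x * x)) = N x) →
      ∀ x, x * ρ f x * ρ f' (x * ρ f x) = 1 := by
    intro f f' e x
    rw [← hN1 x, ← e x, map_mul]
    (refine Additive.ofMul.injective ?_; simp only [ofMul_mul]; abel)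
  have nA : ∀ x, x * ρ A x * ρ B (x * ρ A x) = 1 := hnorm _ _ fun x => by
    show _ = x * ρ A x * ρ B x * ρ (A * B) x
    rw [ρρ, rel_BA]; (refine Additive.ofMul.injective ?_; simp only [ofMul_mul]; abel)
  have nB : ∀ x, x * ρ B x * ρ A (x * ρ B x) = 1 := hnorm _ _ fun x => by
    show _ = x * ρ A x * ρ B x * ρ (A * B) x
    rw [ρρ]; (refine Additive.ofMul.injective ?_; simp only [ofMul_mul]; abel)
  have nC : ∀ x, x * ρ (A * B) x * ρ A (x * ρ (A * B) x) = 1 := hnorm _ _ fun x => by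
    show _ = x * ρ A x * ρ B x * ρ (A * B) x
    rw [ρρ, ← mul_assoc A A B, rel_A, one_mul]; (refine Additive.ofMul.injective ?_; simp only [ofMul_mul]; abel)
  rcases hval A B (by rintro _ (rfl | rfl) <;> simp) (fun e => absurd (DFunLike.congr_fun e e2) (by decide))
      α hAα with h1 | h1
  · exact hfin y A B hyA (fun e => absurd (DFunLike.congr_fun e e3) (by decide)) rel_A rel_BA
      (by decide) (by decide) nA α rfl h1
  rcases hval B A (by rintro _ (rfl | rfl) <;> simp) (fun e => absurd (DFunLike.congr_fun e e2) (by decide))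
      β hBβ with h2 | h2
  · exact hfin z B A hzB (fun e => absurd (DFunLike.congr_fun e e2) (by decide)) rel_B rel_BA.symm
      (by decide) (by decide) nB β rfl h2
  refine hfin (y * z) (A * B) A (by rw [map_mul, hyA, hzB])
    (fun e => absurd (DFunLike.congr_fun e e2) (by decide)) (MulEquiv.ext (by decide))
    (MulEquiv.ext (by decide)) (by decide) (by decide) nC η rfl ?_
  rw [hφc, h1, h2]
  exact Subtype.ext (by show c.ι e1 * c.ι e1 = 1; rw [← map_mul, Model.mul_self, map_one])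

end L32Ctx

end CfsgLib.Pyramidal12
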