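import Mathlib
import Cfsg.Agent.Pyramidal12.Model
import Cfsg.Agent.Pyramidal12.Tools
import Cfsg.Agent.MinNormal.Basic
import Cfsg.Agent.S0205

/-!
No group inducing all automorphisms of an elementary abelian group of order eight acts on a
non-additive anisotropic quadratic map onto it.
-/

set_option autoImplicit false
set_option synthInstance.maxSize 1024

namespace CfsgLib.Pyramidal12

open Model

/-- An equivariant anisotropic quadratic map onto `E3`. -/
structure QForm {H : Type} [Group H] (ψ : H →* MulAut E3) (V : Type) [CommGroup V] where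
  finH : Finite H
  finV : Finite V
  surj : Function.Surjective ψ
  sq : ∀ v : V, v * v = 1
  q : V → E3
  B : V → V → E3
  hq : ∀ x y, q (x * y) = q x * q y * B x y
  hB : ∀ x y z, B (x * y) z = B x z * B y z
  one : q 1 = 1
  ne : ∀ x, q x = 1 → x = 1
  act : H →* MulAut V
  hact : ∀ h v, q (act h v) = ψ h (q v)
  odd : ∀ h, ψ h = 1 → Odd (orderOf (act h))
  nonadd : ∃ x y, B x y ≠ 1

namespace QForm

variable {H : Type} [Group H] {ψ : H →* MulAut E3} {V : Type} [CommGroup V]

theorem finite_aut (Q : QForm ψ V) : Finite (MulAut V) := by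
  haveI := Q.finV
  exact Finite.of_injective (fun k : MulAut V => (k : V → V)) DFunLike.coe_injective

theorem isPGroup (Q : QForm ψ V) : IsPGroup 2 V := fun v => ⟨1, by rw [pow_one, pow_two, Q.sq]⟩

/-- A non-empty invariant set without the identity meets every fibre in the same number of points. -/
theorem fibre_eq (Q : QForm ψ V) (P : Subgroup V) (hP : ∀ h, ∀ v ∈ P, Q.act h v ∈ P) {u : E3}
    (hu : u ≠ 1) :
    Nat.card {v : V // v ∈ P ∧ Q.q v = u} = Nat.card {v : V // v ∈ P ∧ Q.q v = e1} := by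
  obtain ⟨i, hi⟩ := X_trans u hu
  obtain ⟨h, hh⟩ := Q.surj (X ^ (i : ℕ))
  symm
  refine Nat.card_congr
    { toFun := fun v => ⟨Q.act h v.1, hP h _ v.2.1, by rw [Q.hact, v.2.2, hh, hi]⟩
      invFun := fun v => ⟨Q.act h⁻¹ v.1, hP _ _ v.2.1, by
        rw [Q.hact, v.2.2, map_inv, hh, ← hi, MulAut.inv_apply_self]⟩
      left_inv := fun v => Subtype.ext (by simp)
      right_inv := fun v => Subtype.ext (by simp) }

theorem card_eq (Q : QForm ψ V) (P : Subgroup V) (hP : ∀ h, ∀ v ∈ P, Q.act h v ∈ P) :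
    Nat.card P = 1 + 7 * Nat.card {v : V // v ∈ P ∧ Q.q v = e1} := by
  haveI := Q.finV
  classical
  letI := Fintype.ofFinite V
  have h1 := Finset.card_eq_sum_card_fiberwise (s := Finset.univ.filter (fun v => v ∈ P))
    (t := (Finset.univ : Finset E3)) (f := Q.q) (fun _ _ => Finset.mem_univ _)
  rw [← Finset.add_sum_erase _ _ (Finset.mem_univ (1 : E3))] at h1
  have e0 : ((Finset.univ.filter (fun v => v ∈ P)).filter (fun v => Q.q v = 1)) = {1} := by
    ext v
    simp only [Finset.mem_filter, Finset.mem_univ, true_and, Finset.mem_singleton]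
    exact ⟨fun h => Q.ne v h.2, fun h => h ▸ ⟨one_mem P, Q.one⟩⟩
  rw [e0, Finset.card_singleton] at h1
  have e2 : ∀ u : E3, ((Finset.univ.filter (fun v => v ∈ P)).filter (fun v => Q.q v = u)).card =
      Nat.card {v : V // v ∈ P ∧ Q.q v = u} := by
    intro u
    rw [Nat.card_eq_fintype_card, Fintype.card_subtype, Finset.filter_filter]
  rw [Nat.card_eq_fintype_card, Fintype.card_subtype, h1]
  congr 1
  rw [Finset.sum_congr rfl fun u hu => (e2 u).trans (Q.fibre_eq P hP (Finset.mem_erase.1 hu).1),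
    Finset.sum_const, show ((Finset.univ : Finset E3).erase 1).card = 7 by decide, smul_eq_mul]

theorem eight_le (Q : QForm ψ V) (P : Subgroup V) (hP : ∀ h, ∀ v ∈ P, Q.act h v ∈ P) (hne : P ≠ ⊥) :
    8 ≤ Nat.card P := by
  haveI := Q.finV
  have h1 := Q.card_eq P hP
  have := (Subgroup.one_lt_card_iff_ne_bot P).2 hne
  omega

theorem card_cases (Q : QForm ψ V) : Nat.card V = 8 ∨ Nat.card V = 64 := by
  haveI := Q.finV
  obtain ⟨n, hn⟩ := Q.isPGroup.exists_card_eq
  have hle : Nat.card V ≤ 64 := by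
    have := card_le_sq Q.sq Model.mul_self Q.q Q.B Q.hq Q.hB Q.ne Q.one
    rwa [show Nat.card E3 = 8 by rw [Nat.card_eq_fintype_card]; rfl] at this
  have h1 := Q.card_eq ⊤ (fun _ _ _ => trivial)
  rw [Subgroup.card_top] at h1
  have h8 : 8 ≤ Nat.card V := by
    have := Q.eight_le ⊤ (fun _ _ _ => trivial) fun e => by
      obtain ⟨x, y, hxy⟩ := Q.nonadd
      have hx : x = 1 := (Subgroup.eq_bot_iff_forall _).1 e x trivial
      have := Q.hB 1 1 y
      rw [one_mul, hx.symm] at this
      exact hxy (mul_left_cancel (this.symm.trans (mul_one _).symm))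
    rwa [Subgroup.card_top] at this
  rw [hn] at h1 hle h8 ⊢
  have : n ≤ 6 := (Nat.pow_le_pow_iff_right (by norm_num : 1 < 2)).1 (hle.trans (by norm_num))
  generalize Nat.card {v : V // v ∈ (⊤ : Subgroup V) ∧ Q.q v = e1} = m at h1
  interval_cases n <;> omega

theorem B_act (Q : QForm ψ V) (h : H) (x y : V) : Q.B (Q.act h x) (Q.act h y) = ψ h (Q.B x y) := by
  have h1 := Q.hact h (x * y)
  rw [map_mul, Q.hq, Q.hq, Q.hact, Q.hact, map_mul, map_mul] at h1
  exact mul_left_cancel h1

theorem B_comm (Q : QForm ψ V) (x y : V) : Q.B x y = Q.B y x := by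
  have h1 := Q.hq x y
  rw [mul_comm x y, Q.hq, mul_comm (Q.q y)] at h1
  exact (mul_left_cancel h1).symm

theorem exists_commutes (Q : QForm ψ V) {R : Subgroup (MulAut V)}
    (hR : ∀ h, ∀ r ∈ R, Q.act h * r * (Q.act h)⁻¹ ∈ R) {k : ℕ} (hcard : Nat.card R = 3 ^ k)
    (hk : k ≤ 4) (u : MulAut E3) (hu : u ^ 7 = 1) :
    ∃ h, ψ h = u ∧ ∀ r ∈ R, Q.act h * r = r * Q.act h := by
  haveI := Q.finH
  haveI := Q.finite_aut
  haveI : Fact (Nat.Prime 7) := ⟨by norm_num⟩
  obtain ⟨h, hh⟩ := Q.surj u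
  obtain ⟨a, m, hm, he⟩ := Nat.exists_eq_pow_mul_and_not_dvd (orderOf_pos h).ne' 7 (by norm_num)
  obtain ⟨j, hj⟩ := Nat.exists_mul_mod_eq_one_of_coprime
    ((Nat.Prime.coprime_iff_not_dvd (by norm_num : Nat.Prime 7)).2 hm).symm (by norm_num)
  set y := h ^ (m * j) with hy
  refine ⟨y, ?_, ?_⟩
  · rw [hy, map_pow, hh, ← Nat.mod_add_div (m * j) 7, hj.2, pow_add, pow_mul, hu, one_pow,
      mul_one, pow_one]
  have hS : IsPGroup 7 (Subgroup.zpowers y) := by
    have hd : orderOf y ∣ 7 ^ a := orderOf_dvd_of_pow_eq_one (by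
      rw [hy, ← pow_mul, mul_comm (m * j), ← mul_assoc, ← he, pow_mul, pow_orderOf_eq_one, one_pow])
    obtain ⟨i, -, hi⟩ := (Nat.dvd_prime_pow (by norm_num)).1 hd
    exact IsPGroup.of_card (n := i) (by rw [Nat.card_zpowers, hi])
  let conjR : H →* MulAut R :=
    { toFun := fun g =>
        { toFun := fun r => ⟨Q.act g * r * (Q.act g)⁻¹, hR g r r.2⟩
          invFun := fun r => ⟨Q.act g⁻¹ * r * (Q.act g⁻¹)⁻¹, hR _ r r.2⟩
          left_inv := fun r => Subtype.ext (by simp [mul_assoc])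
          right_inv := fun r => Subtype.ext (by simp [mul_assoc])
          map_mul' := fun r s => Subtype.ext (by simp [mul_assoc]) }
      map_one' := MulEquiv.ext fun r => Subtype.ext (by simp)
      map_mul' := fun g g' => MulEquiv.ext fun r => Subtype.ext (by simp [mul_assoc]) }
  let F : Subgroup R := MonoidHom.eqLocus (conjR y).toMonoidHom (MonoidHom.id R)
  letI : MulAction (Subgroup.zpowers y) R :=
    MulAction.compHom R (conjR.comp (Subgroup.zpowers y).subtype)
  have hmod := hS.card_modEq_card_fixedPoints R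
  have hfix : Nat.card (MulAction.fixedPoints (Subgroup.zpowers y) R) = Nat.card F := by
    refine Nat.card_congr (Equiv.subtypeEquivRight fun r => ⟨fun hr => hr ⟨y, Subgroup.mem_zpowers y⟩,
      fun hr => ?_⟩)
    rintro ⟨s, hs⟩
    have hle : Subgroup.zpowers y ≤ (MulAction.stabilizer (MulAut R) r).comap conjR :=
      Subgroup.zpowers_le.2 hr
    exact hle hs
  rw [hfix, hcard] at hmod
  obtain ⟨i, hi, hFi⟩ := (Nat.dvd_prime_pow Nat.prime_three).1
    (hcard ▸ Subgroup.card_subgroup_dvd_card F)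
  rw [hFi] at hmod
  have hik : i = k := by
    unfold Nat.ModEq at hmod
    interval_cases k <;> interval_cases i <;> simp_all
  have hF : F = ⊤ := Subgroup.eq_top_of_card_eq F (by rw [hFi, hik, hcard])
  intro r hr
  have hmem : (⟨r, hr⟩ : R) ∈ F := hF ▸ Subgroup.mem_top _
  have := congrArg Subtype.val (show conjR y ⟨r, hr⟩ = ⟨r, hr⟩ from hmem)
  exact mul_inv_eq_iff_eq_mul.1 this

theorem prod_dvd_card (Q : QForm ψ V) (hV : Nat.card V = 64) (R : Subgroup (MulAut V)) :
    Nat.card R ∣ 20158709760 := by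
  haveI := Q.finV
  have hz : ∀ a : Additive V, 2 • a = 0 := fun a => by
    rw [two_nsmul]; exact congrArg Additive.ofMul (Q.sq a.toMul)
  suffices key : ∀ _ : Module (ZMod 2) (Additive V), Nat.card R ∣ 20158709760 from
    key (AddCommGroup.zmodModule hz)
  intro _
  have hfin : Module.Finite (ZMod 2) (Additive V) := Module.Finite.of_finite
  set m := Module.finrank (ZMod 2) (Additive V) with hm
  have hm6 : m = 6 := by
    have e : Nat.card V = 2 ^ m := by
      rw [Nat.card_congr (Additive.ofMul : V ≃ Additive V),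
        Module.natCard_eq_pow_finrank (K := ZMod 2), Nat.card_zmod]
    rw [hV] at e
    exact (Nat.pow_right_injective (le_refl 2) (e.symm.trans (by norm_num : (64 : ℕ) = 2 ^ 6)))
  let b := Module.finBasis (ZMod 2) (Additive V)
  let ω : MulAut V →* Matrix (Fin m) (Fin m) (ZMod 2) :=
    { toFun := fun α => LinearMap.toMatrix b b
        (AddMonoidHom.toZModLinearMap 2 (MulEquiv.toAdditive α).toAddMonoidHom)
      map_one' := by
        rw [show AddMonoidHom.toZModLinearMap 2 (MulEquiv.toAdditive (1 : MulAut V)).toAddMonoidHom =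
          LinearMap.id from LinearMap.ext fun _ => rfl, LinearMap.toMatrix_id]
      map_mul' := fun α β => by
        rw [show AddMonoidHom.toZModLinearMap 2 (MulEquiv.toAdditive (α * β)).toAddMonoidHom =
            (AddMonoidHom.toZModLinearMap 2 (MulEquiv.toAdditive α).toAddMonoidHom).comp
              (AddMonoidHom.toZModLinearMap 2 (MulEquiv.toAdditive β).toAddMonoidHom) from
          LinearMap.ext fun _ => rfl, LinearMap.toMatrix_comp b b b] }
  have hinj : Function.Injective ω.toHomUnits := by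
    intro α β e
    have e' := (LinearMap.toMatrix b b).injective (congrArg Units.val e)
    exact MulEquiv.ext fun v => congrArg Additive.toMul (LinearMap.congr_fun e' (Additive.ofMul v))
  have h1 := Subgroup.card_dvd_of_injective (ω.toHomUnits.comp R.subtype)
    (hinj.comp R.subtype_injective)
  refine h1.trans (dvd_of_eq ?_)
  rw [Matrix.card_GL_field]
  have key : ∀ n, n = 6 → ∏ i : Fin n, (2 ^ n - 2 ^ (i : ℕ)) = 20158709760 := by
    rintro n rfl
    simp only [Fin.prod_univ_six]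
    norm_num
  rw [ZMod.card]
  exact key m hm6

/-- The kernel of the action on `E3` acts trivially. -/
theorem act_eq_one (Q : QForm ψ V) {g : H} (hg : ψ g = 1) : Q.act g = 1 := by
  haveI := Q.finV
  haveI := Q.finH
  haveI := Q.finite_aut
  rcases Q.card_cases with h8 | h64
  · -- the quadratic map is injective
    have h1 := Q.card_eq ⊤ (fun _ _ _ => trivial)
    rw [Subgroup.card_top, h8] at h1
    refine MulEquiv.ext fun v => ?_
    rcases eq_or_ne v 1 with rfl | hv
    · simp
    have hu : Q.q v ≠ 1 := fun e => hv (Q.ne v e)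
    have hc : Nat.card {w : V // w ∈ (⊤ : Subgroup V) ∧ Q.q w = Q.q v} = 1 := by
      rw [Q.fibre_eq ⊤ (fun _ _ _ => trivial) hu]; omega
    haveI := (Nat.card_eq_one_iff_unique.1 hc).1
    exact congrArg Subtype.val (Subsingleton.elim
      (⟨Q.act g v, trivial, by rw [Q.hact, hg]; rfl⟩ :
        {w : V // w ∈ (⊤ : Subgroup V) ∧ Q.q w = Q.q v}) ⟨v, trivial, rfl⟩)
  -- the image of the kernel is a normal subgroup of odd order
  set N := Q.act.range with hNdef
  set R : Subgroup N := (ψ.ker).map Q.act.rangeRestrict with hRdef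
  haveI hRn : R.Normal := (MonoidHom.normal_ker ψ).map _ Q.act.rangeRestrict_surjective
  by_contra hne
  have hRne : R ≠ ⊥ := fun e => hne (by
    have : Q.act.rangeRestrict g ∈ R := ⟨g, hg, rfl⟩
    rw [e, Subgroup.mem_bot] at this
    exact congrArg Subtype.val this)
  obtain ⟨M, hM, hMR⟩ := MinNormal.exists_isMinNormal_le hRn hRne
  haveI := hM.normal
  have hker : ∀ r ∈ M, ∃ h, ψ h = 1 ∧ Q.act h = (r : N).1 := fun r hr => by
    obtain ⟨h, hh, he⟩ := hMR hr
    exact ⟨h, hh, congrArg Subtype.val he⟩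
  have hMo : ∀ r : M, Odd (orderOf r) := fun r => by
    obtain ⟨h, hh, he⟩ := hker r r.2
    rw [← Subgroup.orderOf_coe, ← Subgroup.orderOf_coe, ← he]
    exact Q.odd h hh
  have hModd : Odd (Nat.card M) := by
    by_contra he
    obtain ⟨r, hr⟩ := exists_prime_orderOf_dvd_card' (G := M) 2
      (even_iff_two_dvd.1 (Nat.not_odd_iff_even.1 he))
    have := hMo r
    rw [hr] at this
    exact absurd this (by decide)
  obtain ⟨r, hr, hMc, hMp, -⟩ := hM.exists_elementary_of_isSolvable (Cfsg.Agent.S0205.result hModd)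
  haveI := Fact.mk hr
  set R₀ : Subgroup (MulAut V) := M.map N.subtype with hR0
  have hR0q : ∀ a ∈ R₀, ∀ v, Q.q (a v) = Q.q v := by
    rintro a ⟨b, hb, rfl⟩ v
    obtain ⟨h, hh, he⟩ := hker b hb
    show Q.q ((b : N).1 v) = _
    rw [← he, Q.hact, hh, MulAut.one_apply]
  have hR0n : ∀ h, ∀ a ∈ R₀, Q.act h * a * (Q.act h)⁻¹ ∈ R₀ := by
    rintro h a ⟨b, hb, rfl⟩
    exact ⟨_, hM.normal.conj_mem b hb ⟨Q.act h, h, rfl⟩, rfl⟩
  have hR0ne : R₀ ≠ ⊥ := fun e => hM.ne_bot ((Subgroup.map_eq_bot_iff_of_injective _ N.subtype_injective).1 e)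
  have hR0p : IsPGroup r R₀ := hMp.map _
  have hR0c : ∀ a ∈ R₀, ∀ b ∈ R₀, a * b = b * a := by
    rintro _ ⟨a, ha, rfl⟩ _ ⟨b, hb, rfl⟩
    exact congrArg Subtype.val (congrArg Subtype.val (hMc.is_comm.comm ⟨a, ha⟩ ⟨b, hb⟩))
  -- the common fixed points
  let C0 : Subgroup V :=
    { carrier := {v | ∀ a ∈ R₀, a v = v}
      one_mem' := fun a _ => map_one a
      mul_mem' := fun hx hy a ha => by rw [map_mul, hx a ha, hy a ha]
      inv_mem' := fun hx a ha => by rw [map_inv, hx a ha] }
  have hC0inv : ∀ h, ∀ v ∈ C0, Q.act h v ∈ C0 := by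
    intro h v hv a ha
    have := hv _ (hR0n h⁻¹ a ha)
    rw [map_inv, inv_inv, MulAut.mul_apply, MulAut.mul_apply] at this
    conv_rhs => rw [← this]
    rw [MulAut.apply_inv_self]
  letI : MulAction R₀ V := MulAction.compHom V R₀.subtype
  have hC0 : C0 = ⊥ := by
    by_contra hC
    let D : Subgroup V := Subgroup.closure {x | ∃ a ∈ R₀, ∃ v, x = a v * v⁻¹}
    have hD : ∀ h, ∀ v ∈ D, Q.act h v ∈ D := by
      intro h
      have hle : D ≤ D.comap (Q.act h).toMonoidHom := by
        rw [Subgroup.closure_le]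
        rintro _ ⟨a, ha, v, rfl⟩
        show Q.act h (a v * v⁻¹) ∈ D
        refine Subgroup.subset_closure ⟨_, hR0n h a ha, Q.act h v, ?_⟩
        rw [map_mul, map_inv, MulAut.mul_apply, MulAut.mul_apply, MulAut.inv_apply_self]
      exact fun v hv => hle hv
    have hdisj : D ⊓ C0 = ⊥ := by
      letI := Fintype.ofFinite R₀
      let Nm : V →* V :=
        { toFun := fun v => ∏ a : R₀, (a : MulAut V) v
          map_one' := by simp
          map_mul' := fun x y => by simp [Finset.prod_mul_distrib] }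
      have hDk : D ≤ Nm.ker := by
        rw [Subgroup.closure_le]
        rintro _ ⟨a, ha, v, rfl⟩
        show Nm (a v * v⁻¹) = 1
        rw [map_mul, map_inv, mul_inv_eq_one]
        show ∏ b : R₀, (b : MulAut V) (a v) = ∏ b : R₀, (b : MulAut V) v
        exact Fintype.prod_equiv (Equiv.mulRight ⟨a, ha⟩) _ _ fun b => rfl
      refine (Subgroup.eq_bot_iff_forall _).2 fun v hv => ?_
      have e1 : ∏ a : R₀, (a : MulAut V) v = 1 := hDk hv.1
      rw [Finset.prod_congr rfl fun (a : R₀) _ => hv.2 a a.2, Finset.prod_const, Finset.card_univ,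
        ← Nat.card_eq_fintype_card] at e1
      have hodd : Odd (Nat.card R₀) := hModd.of_dvd_nat (Subgroup.card_map_dvd _ _)
      obtain ⟨j, hj⟩ := hodd
      rwa [hj, pow_succ, pow_mul, pow_two, Q.sq, one_pow, one_mul] at e1
    obtain ⟨a, ha, ha1⟩ : ∃ a ∈ R₀, a ≠ 1 := by
      by_contra hc
      push_neg at hc
      exact hR0ne ((Subgroup.eq_bot_iff_forall _).2 hc)
    obtain ⟨v, hv⟩ : ∃ v, a v ≠ v := by
      by_contra hc
      push_neg at hc
      exact ha1 (MulEquiv.ext hc)
    have hDne : D ≠ ⊥ := fun e => hv (by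
      have : a v * v⁻¹ ∈ D := Subgroup.subset_closure ⟨a, ha, v, rfl⟩
      rwa [e, Subgroup.mem_bot, mul_inv_eq_one] at this)
    have hDC : Nat.card D * Nat.card C0 ≤ 64 := by
      rw [← h64, ← Nat.card_prod]
      refine Nat.card_le_card_of_injective (fun p : D × C0 => (p.1 : V) * p.2) ?_
      rintro ⟨d, x⟩ ⟨d', x'⟩ e
      simp only at e
      have hmem : (d' : V)⁻¹ * d ∈ D ⊓ C0 := ⟨D.mul_mem (D.inv_mem d'.2) d.2, by
        have : (d' : V)⁻¹ * d = x' * (x : V)⁻¹ := by
          rw [eq_mul_inv_iff_mul_eq, mul_assoc, e, inv_mul_cancel_left]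
        rw [this]
        exact C0.mul_mem x'.2 (C0.inv_mem x.2)⟩
      rw [hdisj, Subgroup.mem_bot, inv_mul_eq_one] at hmem
      rw [hmem] at e
      exact Prod.ext (Subtype.ext hmem.symm) (Subtype.ext (mul_left_cancel e))
    have hD8 : Nat.card D = 8 := by
      have := Q.eight_le D hD hDne
      have := Q.eight_le C0 hC0inv hC
      nlinarith
    have h1 := Q.card_eq D hD
    have hmap : ∀ b ∈ R₀, ∀ d ∈ D, b d ∈ D := fun b hb d hd => by
      obtain ⟨c, hc, rfl⟩ := hb
      obtain ⟨h, -, he⟩ := hker c hc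
      show (c : N).1 d ∈ D
      rw [← he]; exact hD h d hd
    have hDfix : D ≤ C0 := by
      intro d hd b hb
      rcases eq_or_ne d 1 with rfl | hd1
      · exact map_one b
      have hc : Nat.card {w : V // w ∈ D ∧ Q.q w = Q.q d} = 1 := by
        rw [Q.fibre_eq D hD fun e => hd1 (Q.ne d e)]; omega
      haveI := (Nat.card_eq_one_iff_unique.1 hc).1
      exact congrArg Subtype.val (Subsingleton.elim
        (⟨b d, hmap b hb d hd, hR0q b hb d⟩ : {w : V // w ∈ D ∧ Q.q w = Q.q d}) ⟨d, hd, rfl⟩)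
    exact hDne (le_bot_iff.1 (hdisj ▸ le_inf le_rfl hDfix))
  -- every orbit is non-trivial
  have hdiv : ∀ S : Set V, (∀ v ∈ S, v ≠ 1 ∧ ∀ a ∈ R₀, a v ∈ S) → r ∣ Nat.card S := by
    intro S hS
    letI : MulAction R₀ S :=
      { smul := fun a v => ⟨(a : MulAut V) v, (hS v v.2).2 a a.2⟩
        one_smul := fun v => Subtype.ext rfl
        mul_smul := fun a b v => Subtype.ext rfl }
    have hmod := hR0p.card_modEq_card_fixedPoints S
    refine Nat.modEq_zero_iff_dvd.1 (hmod.trans ?_)
    haveI : IsEmpty (MulAction.fixedPoints R₀ S) := ⟨fun v => (hS v.1 v.1.2).1 (by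
      have : (v.1 : V) ∈ C0 := fun a ha => congrArg Subtype.val (v.2 ⟨a, ha⟩)
      rwa [hC0, Subgroup.mem_bot] at this)⟩
    rw [Nat.card_of_isEmpty]
  have h9 : Nat.card {v : V // v ∈ (⊤ : Subgroup V) ∧ Q.q v = e1} = 9 := by
    have h1 := Q.card_eq ⊤ (fun _ _ _ => trivial)
    rw [Subgroup.card_top, h64] at h1
    omega
  have hne1 : ∀ u, u ≠ 1 → ∀ v, Q.q v = u → v ≠ 1 := fun u hu v hv e => hu (by rw [← hv, e, Q.one])
  have hr3 : r = 3 := by
    have := hdiv {v | v ∈ (⊤ : Subgroup V) ∧ Q.q v = e1} fun v hv =>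
      ⟨hne1 e1 (by decide) v hv.2, fun a ha => ⟨trivial, by rw [hR0q a ha]; exact hv.2⟩⟩
    rw [show Nat.card ({v | v ∈ (⊤ : Subgroup V) ∧ Q.q v = e1} : Set V) = 9 from h9] at this
    exact (Nat.prime_dvd_prime_iff_eq hr Nat.prime_three).1 (hr.dvd_of_dvd_pow (n := 2) this)
  subst hr3
  obtain ⟨k, hk⟩ := hR0p.exists_card_eq
  have hk4 : k ≤ 4 := by
    by_contra hk5
    have h5 : 3 ^ 5 ∣ 20158709760 :=
      ((pow_dvd_pow 3 (by omega : 5 ≤ k)).trans (dvd_of_eq hk.symm)).trans (Q.prod_dvd_card h64 R₀)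
    norm_num at h5
  -- the centralizer of `R₀`
  let CR : Subgroup H :=
    (Subgroup.centralizer (R₀ : Set (MulAut V))).comap Q.act
  have hmemCR : ∀ h, h ∈ CR ↔ ∀ a ∈ R₀, Q.act h * a = a * Q.act h := fun h =>
    ⟨fun hh a ha => (Subgroup.mem_centralizer_iff.1 hh a ha).symm,
      fun hh => Subgroup.mem_centralizer_iff.2 fun a ha => (hh a ha).symm⟩
  have hlift : ∀ u : MulAut E3, u ^ 7 = 1 → ∃ h ∈ CR, ψ h = u := fun u hu => by
    obtain ⟨h, h1, h2⟩ := Q.exists_commutes hR0n hk hk4 u hu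
    exact ⟨h, (hmemCR h).2 h2, h1⟩
  have hlift2 : ∀ u u' : MulAut E3, u ^ 7 = 1 → u' ^ 7 = 1 → ∃ h ∈ CR, ψ h = u * u' := fun u u' a b => by
    obtain ⟨h, h1, h2⟩ := hlift u a
    obtain ⟨h', h1', h2'⟩ := hlift u' b
    exact ⟨h * h', mul_mem h1 h1', by rw [map_mul, h2, h2']⟩
  obtain ⟨r1, r2, r3, r4, r5⟩ := rel_U
  obtain ⟨hA, hAm, hAe⟩ := hlift2 U₁ U₂ r1 r2
  obtain ⟨hC, hCm, hCe⟩ := hlift2 U₃ U₄ r3 r4
  obtain ⟨hH, hHm, hHe⟩ := hlift2 U₁ U₅ r1 r5
  rw [rel_U12] at hAe
  rw [rel_U34] at hCe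
  rw [rel_U15] at hHe
  -- a two-subgroup over the four-group with common axis
  set K : Subgroup (MulAut E3) := Subgroup.closure {A, C} with hKdef
  have hKmem : ∀ x ∈ K, x = 1 ∨ x = A ∨ x = C ∨ x = A * C := by
    intro x hx
    induction hx using Subgroup.closure_induction with
    | mem x hx => rcases hx with rfl | rfl <;> simp
    | one => simp
    | mul x y _ _ ix iy =>
      rcases ix with rfl | rfl | rfl | rfl <;> rcases iy with rfl | rfl | rfl | rfl <;>
        first
          | (left; exact MulEquiv.ext (by decide))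
          | (right; left; exact MulEquiv.ext (by decide))
          | (right; right; left; exact MulEquiv.ext (by decide))
          | (right; right; right; exact MulEquiv.ext (by decide))
    | inv x _ ix =>
      rcases ix with rfl | rfl | rfl | rfl
      · simp
      · exact Or.inr (Or.inl (inv_eq_of_mul_eq_one_right rel_A))
      · exact Or.inr (Or.inr (Or.inl (inv_eq_of_mul_eq_one_right rel_C)))
      · exact Or.inr (Or.inr (Or.inr (inv_eq_of_mul_eq_one_right (MulEquiv.ext (by decide)))))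
  have hK : IsPGroup 2 K := fun x => ⟨1, Subtype.ext (by
    rw [pow_one, SubgroupClass.coe_pow, pow_two]
    rcases hKmem x x.2 with e | e | e | e <;> rw [e]
    · simp
    · exact rel_A
    · exact rel_C
    · exact MulEquiv.ext (by decide))⟩
  set M' := CR ⊓ K.comap ψ with hM'
  obtain ⟨P⟩ := Sylow.nonempty (p := 2) (G := M')
  let φ : M' →* K := (ψ.comp M'.subtype).codRestrict K fun m => m.2.2
  have hφ : Function.Surjective φ := by
    rintro ⟨x, hx⟩
    rcases hKmem x hx with rfl | rfl | rfl | rfl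
    · exact ⟨1, map_one φ⟩
    · exact ⟨⟨hA, hAm, show ψ hA ∈ K by rw [hAe]; exact hx⟩, Subtype.ext hAe⟩
    · exact ⟨⟨hC, hCm, show ψ hC ∈ K by rw [hCe]; exact hx⟩, Subtype.ext hCe⟩
    · exact ⟨⟨hA * hC, mul_mem hAm hCm, show ψ (hA * hC) ∈ K by rw [map_mul, hAe, hCe]; exact hx⟩,
        Subtype.ext (show ψ (hA * hC) = A * C by rw [map_mul, hAe, hCe])⟩
  have htop : ((P.mapSurjective hφ : Sylow 2 K) : Subgroup K) = ⊤ :=
    top_le_iff.1 (le_of_eq ((P.mapSurjective hφ).is_maximal'
      (hK.of_equiv Subgroup.topEquiv.symm) le_top))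
  let Pim : Subgroup H := (P : Subgroup M').map M'.subtype
  have hPim : IsPGroup 2 Pim := P.isPGroup'.map _
  have honto : ∀ x ∈ K, ∃ p ∈ Pim, ψ p = x := fun x hx => by
    have : (⟨x, hx⟩ : K) ∈ ((P.mapSurjective hφ : Sylow 2 K) : Subgroup K) := htop ▸ Subgroup.mem_top _
    obtain ⟨m, hm, he⟩ := this
    exact ⟨m, ⟨m, hm, rfl⟩, congrArg Subtype.val he⟩
  have hnormK : ∀ x ∈ K, Model.H * x * (Model.H)⁻¹ ∈ K := fun x hx => by
    have h1 : A ∈ K := Subgroup.subset_closure (Or.inl rfl)
    have h2 : C ∈ K := Subgroup.subset_closure (Or.inr rfl)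
    rcases hKmem x hx with rfl | rfl | rfl | rfl
    · simpa using hx
    · rw [show Model.H * A * Model.H⁻¹ = C from mul_inv_eq_iff_eq_mul.2 (MulEquiv.ext (by decide))]; exact h2
    · rw [show Model.H * C * Model.H⁻¹ = A * C from mul_inv_eq_iff_eq_mul.2 (MulEquiv.ext (by decide))]
      exact mul_mem h1 h2
    · rw [show Model.H * (A * C) * Model.H⁻¹ = A from mul_inv_eq_iff_eq_mul.2 (MulEquiv.ext (by decide))]; exact h1
  -- an element cycling the axis and normalizing the two-subgroup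
  let conjH : M' →* M' :=
    { toFun := fun m => ⟨hH * m * hH⁻¹, CR.mul_mem (CR.mul_mem hHm m.2.1) (CR.inv_mem hHm), by
        show ψ _ ∈ K
        rw [map_mul, map_mul, map_inv, hHe]
        exact hnormK _ m.2.2⟩
      map_one' := Subtype.ext (by simp)
      map_mul' := fun a b => Subtype.ext (by simp [mul_assoc]) }
  have hconj_inj : Function.Injective conjH := fun a b e => Subtype.ext (by
    simpa [conjH] using congrArg Subtype.val e)
  let P' : Sylow 2 M' := P.mapSurjective (Finite.injective_iff_surjective.1 hconj_inj)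
  obtain ⟨m, hm⟩ := MulAction.exists_smul_eq M' P' P
  set n : H := (m : H) * hH with hn
  have hnP : ∀ p ∈ Pim, n * p * n⁻¹ ∈ Pim := by
    rintro _ ⟨p, hp, rfl⟩
    refine ⟨m * conjH p * m⁻¹, ?_, ?_⟩
    · rw [← hm, Sylow.coe_subgroup_smul]
      exact ⟨conjH p, ⟨p, hp, rfl⟩, rfl⟩
    · show (m : H) * (hH * p * hH⁻¹) * (m : H)⁻¹ = _
      rw [hn]
      show (m : H) * (hH * (p : H) * hH⁻¹) * (m : H)⁻¹ = (m : H) * hH * (p : H) * ((m : H) * hH)⁻¹
      group
  -- the fixed points of the two-subgroup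
  let π : Subgroup V :=
    { carrier := {v | ∀ p ∈ Pim, Q.act p v = v}
      one_mem' := fun p _ => map_one _
      mul_mem' := fun hx hy p hp => by rw [map_mul, hx p hp, hy p hp]
      inv_mem' := fun hx p hp => by rw [map_inv, hx p hp] }
  letI : MulAction Pim V := MulAction.compHom V (Q.act.comp Pim.subtype)
  have hπne : π ≠ ⊥ := by
    intro e
    have hmod := hPim.card_modEq_card_fixedPoints V
    have : MulAction.fixedPoints Pim V = {1} := by
      ext v
      refine ⟨fun hv => ?_, fun hv => ?_⟩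
      · have : v ∈ π := fun p hp => hv ⟨p, hp⟩
        rwa [e, Subgroup.mem_bot] at this
      · rw [show v = 1 from hv]; exact fun p => map_one (Q.act p.1)
    rw [this, h64, Nat.card_coe_set_eq, Set.ncard_singleton] at hmod
    norm_num [Nat.ModEq] at hmod
  have hπP : ∀ v ∈ π, (Q.q v).toAdd.2.2 = 0 := by
    intro v hv
    have key : ∀ x ∈ K, x (Q.q v) = Q.q v := fun x hx => by
      obtain ⟨p, hp, rfl⟩ := honto x hx
      rw [← Q.hact, hv p hp]
    exact AC_fixed _ (key A (Subgroup.subset_closure (Or.inl rfl)))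
      (key C (Subgroup.subset_closure (Or.inr rfl)))
  have hπn : ∀ v ∈ π, Q.act n v ∈ π := by
    intro v hv p hp
    have h1 : n⁻¹ * p * n ∈ Pim := by
      let cn : Pim → Pim := fun p => ⟨n * p * n⁻¹, hnP p p.2⟩
      have : Function.Injective cn := fun a b e => Subtype.ext (by simpa [cn] using congrArg Subtype.val e)
      obtain ⟨a, ha⟩ := Finite.injective_iff_surjective.1 this ⟨p, hp⟩
      have e : n * (a : H) * n⁻¹ = p := congrArg Subtype.val ha
      rw [← e]
      simp [mul_assoc]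
    have := hv _ h1
    rw [map_mul, map_mul, map_inv, MulAut.mul_apply, MulAut.mul_apply] at this
    conv_rhs => rw [← this]
    rw [MulAut.apply_inv_self]
  have hπR : ∀ v ∈ π, ∀ a ∈ R₀, a v ∈ π := by
    intro v hv a ha p hp
    obtain ⟨p', hp', rfl⟩ := hp
    show Q.act (p' : H) (a v) = a v
    rw [← MulAut.mul_apply, (hmemCR _).1 p'.2.1 a ha, MulAut.mul_apply, hv (p' : H) ⟨p', hp', rfl⟩]
  -- fibres in `π`
  classical
  letI := Fintype.ofFinite V
  have hψn : ψ n e1 = e2 ∧ ψ n e2 = el 1 1 0 := by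
    have hm' : ψ (m : H) ∈ K := m.2.2
    rw [hn, map_mul, hHe]
    rcases hKmem _ hm' with e | e | e | e <;> rw [e] <;>
      exact ⟨by decide, by decide⟩
  set f : E3 → ℕ := fun u => (Finset.univ.filter fun v => v ∈ π ∧ Q.q v = u).card with hf
  have hfle : ∀ u, f u ≤ f (ψ n u) := fun u => by
    refine Finset.card_le_card_of_injOn (fun v => Q.act n v) (fun v hv => ?_) fun a _ b _ e =>
      (Q.act n).injective e
    simp only [Finset.coe_filter, Finset.mem_univ, true_and, Set.mem_setOf_eq] at hv ⊢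
    exact ⟨hπn v hv.1, by rw [Q.hact, hv.2]⟩
  have hfeq : f e2 = f e1 ∧ f (el 1 1 0) = f e1 := by
    have a1 := hfle e1
    have a2 := hfle e2
    have a3 := hfle (el 1 1 0)
    rw [hψn.1] at a1
    rw [hψn.2] at a2
    rw [show el 1 1 0 = e1 * e2 by decide, map_mul, hψn.1, hψn.2, show e2 * el 1 1 0 = e1 by decide,
      ← show el 1 1 0 = e1 * e2 by decide] at a3
    omega
  have hfdiv : 3 ∣ f e1 := by
    have h1 := hdiv {v | v ∈ π ∧ Q.q v = e1} fun v hv =>
      ⟨hne1 e1 (by decide) v hv.2, fun a ha => ⟨hπR v hv.1 a ha, by rw [hR0q a ha]; exact hv.2⟩⟩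
    rwa [Nat.card_eq_fintype_card, Fintype.card_subtype] at h1
  have hπcard : Nat.card π = 1 + 3 * f e1 := by
    rw [Nat.card_eq_fintype_card, Fintype.card_subtype]
    have h1 := Finset.card_eq_sum_card_fiberwise (s := Finset.univ.filter (fun v => v ∈ π))
      (t := ({1, e1, e2, el 1 1 0} : Finset E3)) (f := Q.q) (fun v hv => by
        simp only [Finset.coe_filter, Finset.mem_univ, true_and, Set.mem_setOf_eq] at hv
        have := hπP v hv
        have key : ∀ u : E3, u.toAdd.2.2 = 0 → u ∈ ({1, e1, e2, el 1 1 0} : Finset E3) := by decide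
        exact key _ this)
    rw [h1, Finset.sum_insert (by decide), Finset.sum_insert (by decide),
      Finset.sum_insert (by decide), Finset.sum_singleton]
    have e0 : ((Finset.univ.filter (fun v => v ∈ π)).filter (fun v => Q.q v = 1)) = {1} := by
      ext v
      simp only [Finset.mem_filter, Finset.mem_univ, true_and, Finset.mem_singleton]
      exact ⟨fun h => Q.ne v h.2, fun h => h ▸ ⟨one_mem π, Q.one⟩⟩
    rw [e0, Finset.card_singleton]
    simp only [Finset.filter_filter]
    change 1 + (f e1 + (f e2 + f (el 1 1 0))) = _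
    rw [hfeq.1, hfeq.2]
    ring
  have hπle : Nat.card π ≤ 16 := by
    let P4 : Subgroup E3 :=
      { carrier := {u | u.toAdd.2.2 = 0}
        one_mem' := rfl
        mul_mem' := fun {a b} ha hb => by
          show a.toAdd.2.2 + b.toAdd.2.2 = 0
          rw [show a.toAdd.2.2 = 0 from ha, show b.toAdd.2.2 = 0 from hb, add_zero]
        inv_mem' := fun {a} ha => by
          show -a.toAdd.2.2 = 0
          rw [show a.toAdd.2.2 = 0 from ha, neg_zero] }
    have hBP : ∀ x ∈ π, ∀ y ∈ π, Q.B x y ∈ P4 := fun x hx y hy => by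
      have : Q.B x y = (Q.q x)⁻¹ * (Q.q y)⁻¹ * Q.q (x * y) := by
        rw [Q.hq, ← mul_inv, inv_mul_cancel_left]
      rw [this]
      exact mul_mem (mul_mem (inv_mem (hπP x hx)) (inv_mem (hπP y hy))) (hπP _ (mul_mem hx hy))
    have := card_le_sq (V := π) (E := P4) (fun x => Subtype.ext (Q.sq x))
      (fun x => Subtype.ext (Model.mul_self x))
      (fun v => ⟨Q.q v, hπP v v.2⟩) (fun x y => ⟨Q.B x y, hBP x x.2 y y.2⟩)
      (fun x y => Subtype.ext (Q.hq x y)) (fun x y z => Subtype.ext (Q.hB x y z))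
      (fun x hx => Subtype.ext (Q.ne x (congrArg Subtype.val hx))) (Subtype.ext Q.one)
    have h4 : Nat.card P4 = 4 := by
      have key : ∀ u : E3, u.toAdd.2.2 = 0 ↔ u ∈ ({1, e1, e2, el 1 1 0} : Finset E3) := by decide
      rw [Nat.card_eq_fintype_card, Fintype.card_subtype,
        show (Finset.univ.filter fun u => u ∈ P4) = ({1, e1, e2, el 1 1 0} : Finset E3) from
          Finset.ext fun u => by
            simp only [Finset.mem_filter, Finset.mem_univ, true_and]
            exact key u]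
      rfl
    rwa [h4] at this
  have hlt := (Subgroup.one_lt_card_iff_ne_bot π).2 hπne
  obtain ⟨j, hj⟩ := (Q.isPGroup.to_subgroup π).exists_card_eq
  have hj4 : j ≤ 4 := (Nat.pow_le_pow_iff_right (by norm_num : 1 < 2)).1
    ((hj ▸ hπle).trans (by norm_num))
  obtain ⟨d, hd⟩ := hfdiv
  rw [hπcard] at hj hlt
  interval_cases j <;> omega

end QForm

end CfsgLib.Pyramidal12
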