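import Mathlib
import Cfsg.Agent.Pyramidal12.QForm

/-!
An equivariant anisotropic quadratic map onto an elementary abelian group of order eight with all
its automorphisms is additive.
-/

set_option autoImplicit false
set_option synthInstance.maxSize 1024

namespace CfsgLib.Pyramidal12

open Model

namespace QForm

variable {Γ : Type} [Group Γ] {ψ : Γ →* MulAut E3} {V : Type} [CommGroup V]

theorem exists_action (Q : QForm ψ V) :
    ∃ ρ : MulAut E3 →* MulAut V, (∀ f v, Q.q (ρ f v) = f (Q.q v)) ∧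
      ∀ f x y, Q.B (ρ f x) (ρ f y) = f (Q.B x y) := by
  have hker : ψ.ker ≤ Q.act.ker := fun g hg => Q.act_eq_one hg
  refine ⟨ψ.liftOfSurjective Q.surj ⟨Q.act, hker⟩, fun f v => ?_, fun f x y => ?_⟩ <;>
    obtain ⟨h, rfl⟩ := Q.surj f <;>
    rw [show (ψ.liftOfSurjective Q.surj ⟨Q.act, hker⟩) (ψ h) = Q.act h from
      DFunLike.congr_fun (ψ.liftOfRightInverse_comp (Function.surjInv Q.surj)
        (Function.rightInverse_surjInv Q.surj) ⟨Q.act, hker⟩) h]
  · exact Q.hact h v
  · exact Q.B_act h x y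

theorem prod_shift {V : Type*} [CommGroup V] (F : ℕ → V) (hF : F 7 = F 0) :
    (∏ i : Fin 7, F (i + 1 : ℕ)) = ∏ i : Fin 7, F i := by
  simp only [Fin.prod_univ_seven]
  simp only [show ((0 : Fin 7) : ℕ) = 0 from rfl, show ((1 : Fin 7) : ℕ) = 1 from rfl,
    show ((2 : Fin 7) : ℕ) = 2 from rfl, show ((3 : Fin 7) : ℕ) = 3 from rfl,
    show ((4 : Fin 7) : ℕ) = 4 from rfl, show ((5 : Fin 7) : ℕ) = 5 from rfl,
    show ((6 : Fin 7) : ℕ) = 6 from rfl, hF]
  rw [mul_comm _ (F 0)]
  simp only [mul_assoc]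

/-- An element of order three fixes a non-trivial vector. -/
theorem exists_fixed_three (Q : QForm ψ V) (ρ : MulAut E3 →* MulAut V)
    (hρ : ∀ f v, Q.q (ρ f v) = f (Q.q v)) : ∃ v, v ≠ 1 ∧ ρ G v = v := by
  haveI := Q.finV
  by_contra hc
  push_neg at hc
  have hfpf : ∀ v, ρ G v = v → v = 1 := fun v hv => by
    by_contra h1
    exact hc v h1 hv
  obtain ⟨x, y, hxy⟩ := Q.nonadd
  have hx1 : x ≠ 1 := fun e => hxy (by
    have h := Q.hB 1 1 y
    rw [one_mul] at h
    rw [e]
    exact mul_left_cancel (h.symm.trans (mul_one _).symm))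
  have hconj : ∀ i : Fin 7, ∀ v, ρ (G * X ^ (i : ℕ)) v = v → v = 1 := by
    intro i v hv
    obtain ⟨j, hj⟩ := X_conj i
    have e : G * X ^ (i : ℕ) = X ^ (j : ℕ) * G * (X ^ (j : ℕ))⁻¹ := by
      rw [MulEquiv.ext hj]
      congr 1
      refine (inv_eq_of_mul_eq_one_right ?_).symm
      rw [← pow_add, Nat.add_sub_cancel' j.isLt.le, rel_X]
    rw [e, map_mul, map_mul, map_inv, MulAut.mul_apply, MulAut.mul_apply] at hv
    have h2 : ρ G ((ρ (X ^ (j : ℕ)))⁻¹ v) = (ρ (X ^ (j : ℕ)))⁻¹ v := by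
      conv_rhs => rw [← hv]
      rw [MulAut.inv_apply_self]
    have := hfpf _ h2
    rw [← MulAut.apply_inv_self _ (ρ (X ^ (j : ℕ))) v, this, map_one]
  have hX : ∀ v, ∏ i : Fin 7, ρ (X ^ (i : ℕ)) v = 1 := by
    intro v
    refine Q.ne _ (X_fixed _ ?_)
    rw [← hρ]
    congr 1
    rw [map_prod]
    rw [show (∏ i : Fin 7, ρ X (ρ (X ^ (i : ℕ)) v)) = ∏ i : Fin 7, ρ (X ^ (i + 1 : ℕ)) v from
      Finset.prod_congr rfl fun i _ => by rw [← MulAut.mul_apply, ← map_mul, ← pow_succ']]
    exact prod_shift (fun i => ρ (X ^ i) v) (by rw [rel_X, pow_zero])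
  have hnorm : ∀ i : Fin 7, x * ρ (G * X ^ (i : ℕ)) x *
      ρ (G * X ^ (i : ℕ) * (G * X ^ (i : ℕ))) x = 1 := by
    intro i
    refine hconj i _ ?_
    set g := G * X ^ (i : ℕ) with hg
    have g3 : g * (g * g) = 1 := by
      refine MulEquiv.ext ?_
      have key : ∀ i : Fin 7, ∀ w : E3,
          ((G * X ^ (i : ℕ)) * ((G * X ^ (i : ℕ)) * (G * X ^ (i : ℕ)))) w = w := by decide
      exact key i
    rw [map_mul (ρ g) (x * _), map_mul (ρ g) x, ← MulAut.mul_apply, ← MulAut.mul_apply,
      ← map_mul, ← map_mul, g3, map_one, MulAut.one_apply]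
    rw [mul_comm (ρ g x * _) x]; exact (mul_assoc _ _ _).symm
  have hprod : ∏ i : Fin 7, (x * ρ (G * X ^ (i : ℕ)) x *
      ρ (G * X ^ (i : ℕ) * (G * X ^ (i : ℕ))) x) = 1 := Finset.prod_eq_one fun i _ => hnorm i
  rw [Finset.prod_mul_distrib, Finset.prod_mul_distrib, Finset.prod_const, Finset.card_univ,
    Fintype.card_fin] at hprod
  have e1 : ∏ i : Fin 7, ρ (G * X ^ (i : ℕ)) x = 1 := by
    simp only [map_mul, MulAut.mul_apply, ← map_prod, hX, map_one]
  have e2 : ∏ i : Fin 7, ρ (G * X ^ (i : ℕ) * (G * X ^ (i : ℕ))) x = 1 := by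
    rw [show (∏ i : Fin 7, ρ (G * X ^ (i : ℕ) * (G * X ^ (i : ℕ))) x) =
      ∏ i : Fin 7, ρ (G * G) (ρ (X ^ ((5 * i : Fin 7) : ℕ)) x) from
      Finset.prod_congr rfl fun i _ => by rw [MulEquiv.ext (GX_sq i), map_mul, MulAut.mul_apply]]
    rw [← map_prod]
    have hbij : Function.Bijective (fun i : Fin 7 => 5 * i) := by decide
    rw [Fintype.prod_bijective _ hbij (fun i => ρ (X ^ ((5 * i : Fin 7) : ℕ)) x)
      (fun i : Fin 7 => ρ (X ^ (i : ℕ)) x) fun i => rfl, hX, map_one]
  rw [e1, e2, mul_one, mul_one, show (7 : ℕ) = 2 * 3 + 1 from rfl, pow_succ, pow_mul, pow_two,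
    Q.sq, one_pow, one_mul] at hprod
  exact hx1 hprod

/-- A non-trivial vector over `e1` fixed by the stabilizer of `e1`. -/
theorem exists_section (Q : QForm ψ V) (ρ : MulAut E3 →* MulAut V)
    (hρ : ∀ f v, Q.q (ρ f v) = f (Q.q v)) :
    ∃ v, Q.q v = e1 ∧ ∀ f : MulAut E3, f e1 = e1 → ρ f v = v := by
  haveI := Q.finV
  classical
  letI := Fintype.ofFinite V
  set Fix : MulAut E3 → Subgroup V :=
    fun f => MonoidHom.eqLocus (ρ f).toMonoidHom (MonoidHom.id V) with hFix
  have hq1 : ∀ v ∈ Fix G, v ≠ 1 → Q.q v = e1 := by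
    intro v hv hv1
    have : G (Q.q v) = Q.q v := by rw [← hρ, show ρ G v = v from hv]
    exact (G_fixed _ this).resolve_left fun e => hv1 (Q.ne v e)
  -- a common fixed vector of `A`, `Model.B`, `G`
  have hP : Fix A ⊓ Fix Model.B ⊓ Fix G ≠ ⊥ := by
    intro hbot
    set F := (Finset.univ.filter fun v => v ∈ Fix G ∧ v ≠ 1) with hF
    have hno : ∀ v ∈ F, ¬ (ρ A v = v ∧ ρ Model.B v = v) := by
      intro v hv hAB
      simp only [hF, Finset.mem_filter, Finset.mem_univ, true_and] at hv
      have : v ∈ Fix A ⊓ Fix Model.B ⊓ Fix G := ⟨⟨hAB.1, hAB.2⟩, hv.1⟩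
      rw [hbot, Subgroup.mem_bot] at this
      exact hv.2 this
    -- at least three fixed vectors
    have hF3 : 3 ≤ F.card := by
      obtain ⟨v, hv1, hv⟩ := Q.exists_fixed_three ρ hρ
      haveI : Fact (Nat.Prime 3) := ⟨Nat.prime_three⟩
      have hS : IsPGroup 3 (Subgroup.zpowers G) := IsPGroup.of_card (n := 1) (by
        rw [Nat.card_zpowers, orderOf_eq_prime (p := 3) (by rw [pow_succ, pow_two]; exact rel_G)
          (fun e => absurd (DFunLike.congr_fun e e2) (by decide))]
        rfl)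
      letI : MulAction (Subgroup.zpowers G) V :=
        MulAction.compHom V (ρ.comp (Subgroup.zpowers G).subtype)
      have hmod := hS.card_modEq_card_fixedPoints V
      have hfix : Nat.card (MulAction.fixedPoints (Subgroup.zpowers G) V) = Nat.card (Fix G) := by
        refine Nat.card_congr (Equiv.subtypeEquivRight fun w =>
          ⟨fun hw => hw ⟨G, Subgroup.mem_zpowers G⟩, fun hw => ?_⟩)
        rintro ⟨s, hs⟩
        have hle : Subgroup.zpowers G ≤ (MulAction.stabilizer (MulAut V) w).comap ρ :=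
          Subgroup.zpowers_le.2 hw
        exact hle hs
      rw [hfix] at hmod
      obtain ⟨n, hn⟩ := (Q.isPGroup.to_subgroup (Fix G)).exists_card_eq
      have hn0 : n ≠ 0 := fun e => hv1 ((Subgroup.eq_bot_iff_forall _).1
        (Subgroup.eq_bot_of_card_eq (Fix G) (by rw [hn, e, pow_zero])) v hv)
      have hcardF : F.card = Nat.card (Fix G) - 1 := by
        rw [Nat.card_eq_fintype_card, Fintype.card_subtype, hF,
          show (Finset.univ.filter fun v => v ∈ Fix G ∧ v ≠ 1) =
            (Finset.univ.filter fun v => v ∈ Fix G).erase 1 from by ext w; simp [and_comm],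
          Finset.card_erase_of_mem (by simp)]
      have hn1 : n ≠ 1 := fun e => by
        rcases Q.card_cases with h | h <;> rw [h, hn, e] at hmod
        · -- for order eight the vector over `e1` is fixed by everything fixing `e1`
          obtain ⟨hh1⟩ : Nonempty (∀ f : MulAut E3, f e1 = e1 → ρ f v = v) := ⟨fun f hf => by
            have h1 := Q.card_eq ⊤ (fun _ _ _ => trivial)
            rw [Subgroup.card_top, h] at h1
            have hc : Nat.card {w : V // w ∈ (⊤ : Subgroup V) ∧ Q.q w = e1} = 1 := by omega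
            haveI := (Nat.card_eq_one_iff_unique.1 hc).1
            exact congrArg Subtype.val (Subsingleton.elim
              (⟨ρ f v, trivial, by rw [hρ, hq1 v hv hv1, hf]⟩ :
                {w : V // w ∈ (⊤ : Subgroup V) ∧ Q.q w = e1}) ⟨v, trivial, hq1 v hv hv1⟩)⟩
          exact hno v (by simp [hF, hv1]; exact hv)
            ⟨hh1 A (by decide), hh1 Model.B (by decide)⟩
        · norm_num [Nat.ModEq] at hmod
      have : 4 ≤ Nat.card (Fix G) := by
        rw [hn]
        calc 4 = 2 ^ 2 := by norm_num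
          _ ≤ 2 ^ n := Nat.pow_le_pow_right (by norm_num) (by omega)
      omega
    -- the four-group moves them to distinct vectors
    let k : Fin 2 × Fin 2 → MulAut E3 := fun p => A ^ (p.1 : ℕ) * Model.B ^ (p.2 : ℕ)
    have hinj : ∀ p p', ∀ v ∈ F, ∀ v' ∈ F, ρ (k p) v = ρ (k p') v' → p = p' ∧ v = v' := by
      intro p p' v hv v' hv' e
      have hv0 := hv
      simp only [hF, Finset.mem_filter, Finset.mem_univ, true_and] at hv hv'
      obtain ⟨r, hr, hr0⟩ : ∃ r, (k p')⁻¹ * k p = k r ∧ (r = (0, 0) → p = p') := by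
        refine ⟨(p'.1 + p.1, p'.2 + p.2), ?_, ?_⟩
        · rw [inv_mul_eq_iff_eq_mul]
          have key : ∀ p p' : Fin 2 × Fin 2, ∀ w : E3,
              (A ^ (p.1 : ℕ) * Model.B ^ (p.2 : ℕ)) w = ((A ^ (p'.1 : ℕ) * Model.B ^ (p'.2 : ℕ)) *
                (A ^ ((p'.1 + p.1 : Fin 2) : ℕ) * Model.B ^ ((p'.2 + p.2 : Fin 2) : ℕ))) w := by decide
          exact MulEquiv.ext (key p p')
        · exact (show ∀ p p' : Fin 2 × Fin 2, (p'.1 + p.1, p'.2 + p.2) = (0, 0) → p = p' by decide) p p'
      have e' : ρ (k r) v = v' := by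
        rw [← hr, map_mul, map_inv, MulAut.mul_apply, e, MulAut.inv_apply_self]
      by_cases hr1 : r = (0, 0)
      · refine ⟨hr0 hr1, ?_⟩
        rw [hr1] at e'
        simpa [k] using e'
      exfalso
      -- `v` is fixed by `k r⁻¹ (G k r G⁻¹)`
      have hG : ρ G v = v := hv.1
      have e3 : ρ (G * k r) v = ρ (k r) v := by rw [map_mul, MulAut.mul_apply, e']; exact hv'.1
      have hrG : ∃ r' : Fin 2 × Fin 2, G * k r = k r' * G ∧ r' ≠ r ∧ r' ≠ (0, 0) := by
        have key : ∀ r : Fin 2 × Fin 2, r ≠ (0, 0) → ∃ r' : Fin 2 × Fin 2,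
            (∀ w : E3, (G * (A ^ (r.1 : ℕ) * Model.B ^ (r.2 : ℕ))) w =
              ((A ^ (r'.1 : ℕ) * Model.B ^ (r'.2 : ℕ)) * G) w) ∧ r' ≠ r ∧ r' ≠ (0, 0) := by decide
        obtain ⟨r', h1, h2, h3⟩ := key r hr1
        exact ⟨r', MulEquiv.ext h1, h2, h3⟩
      obtain ⟨r', hr', hne, hne0⟩ := hrG
      rw [hr', map_mul, MulAut.mul_apply, hG] at e3
      set s := r + r' with hs
      have hs0 : s ≠ (0, 0) :=
        (show ∀ r r' : Fin 2 × Fin 2, r' ≠ r → r + r' ≠ (0, 0) by decide) r r' hne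
      have hfix : ρ (k s) v = v := by
        have key : ∀ r r' : Fin 2 × Fin 2, ∀ w : E3,
            (A ^ ((r + r').1 : ℕ) * Model.B ^ ((r + r').2 : ℕ)) w =
              ((A ^ (r.1 : ℕ) * Model.B ^ (r.2 : ℕ))⁻¹ * (A ^ (r'.1 : ℕ) * Model.B ^ (r'.2 : ℕ))) w := by
          intro r r'
          have e4 : (A ^ (r.1 : ℕ) * Model.B ^ (r.2 : ℕ))⁻¹ = A ^ (r.1 : ℕ) * Model.B ^ (r.2 : ℕ) :=
            inv_eq_of_mul_eq_one_right (MulEquiv.ext (by revert r; decide))
          rw [e4]
          revert r r'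
          decide
        rw [show k s = (k r)⁻¹ * k r' from MulEquiv.ext (key r r'), map_mul, map_inv,
          MulAut.mul_apply, e3, MulAut.inv_apply_self]
      -- all of the four-group fixes `v`
      have key : ∀ s : Fin 2 × Fin 2, s ≠ (0, 0) → ∃ s' : Fin 2 × Fin 2,
          (∀ w : E3, (G * (A ^ (s.1 : ℕ) * Model.B ^ (s.2 : ℕ))) w =
            ((A ^ (s'.1 : ℕ) * Model.B ^ (s'.2 : ℕ)) * G) w) ∧
          (∀ t : Fin 2 × Fin 2, t = (0, 0) ∨ t = s ∨ t = s' ∨ t = s + s') ∧
          (∀ w : E3, (A ^ ((s + s').1 : ℕ) * Model.B ^ ((s + s').2 : ℕ)) w =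
            ((A ^ (s.1 : ℕ) * Model.B ^ (s.2 : ℕ)) * (A ^ (s'.1 : ℕ) * Model.B ^ (s'.2 : ℕ))) w) := by decide
      obtain ⟨s', h1, h2, h3⟩ := key s hs0
      have hfix' : ρ (k s') v = v := by
        have e5 : G * k s = k s' * G := MulEquiv.ext h1
        have : ρ (k s' * G) v = v := by rw [← e5, map_mul, MulAut.mul_apply, hfix, hG]
        rwa [map_mul, MulAut.mul_apply, hG] at this
      have hfix'' : ρ (k (s + s')) v = v := by
        rw [show k (s + s') = k s * k s' from MulEquiv.ext h3, map_mul, MulAut.mul_apply, hfix', hfix]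
      have hall : ∀ t, ρ (k t) v = v := fun t => by
        rcases h2 t with rfl | rfl | rfl | rfl
        · simp [k]
        · exact hfix
        · exact hfix'
        · exact hfix''
      exact hno v hv0 ⟨by simpa [k] using hall (1, 0), by simpa [k] using hall (0, 1)⟩
    have hle : (F ×ˢ (Finset.univ : Finset (Fin 2 × Fin 2))).card ≤
        (Finset.univ.filter fun w => Q.q w = e1).card := by
      refine Finset.card_le_card_of_injOn (fun vp => ρ (k vp.2) vp.1) (fun vp hvp => ?_) ?_
      · simp only [Finset.coe_product, Set.mem_prod, Finset.mem_coe] at hvp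
        simp only [Finset.coe_filter, Finset.mem_univ, true_and, Set.mem_setOf_eq]
        have hv := hvp.1
        simp only [hF, Finset.mem_filter, Finset.mem_univ, true_and] at hv
        rw [hρ, hq1 _ hv.1 hv.2]
        have key : ∀ p : Fin 2 × Fin 2, (A ^ (p.1 : ℕ) * Model.B ^ (p.2 : ℕ)) e1 = e1 := by decide
        exact key _
      · rintro ⟨v, p⟩ hvp ⟨v', p'⟩ hvp' e
        simp only [Finset.coe_product, Set.mem_prod, Finset.mem_coe] at hvp hvp'
        obtain ⟨h1, h2⟩ := hinj p p' v hvp.1 v' hvp'.1 e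
        rw [h1, h2]
    rw [Finset.card_product, Finset.card_univ, Fintype.card_prod, Fintype.card_fin] at hle
    have h1 := Q.card_eq ⊤ (fun _ _ _ => trivial)
    rw [Subgroup.card_top, Nat.card_eq_fintype_card (α := {v : V // _}), Fintype.card_subtype] at h1
    simp only [Subgroup.mem_top, true_and] at h1
    rcases Q.card_cases with h | h <;> omega
  have hA2 : ∀ x, ρ S (ρ S x) = x := fun x => by
    rw [← MulAut.mul_apply, ← map_mul, rel_S, map_one, MulAut.one_apply]
  obtain ⟨v, hvP, hv1, hvS⟩ := exists_fixed_involutory Q.isPGroup (Fix A ⊓ Fix Model.B ⊓ Fix G)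
    (ρ S).toMonoidHom (fun x hx => by
      obtain ⟨⟨xA, xB⟩, xG⟩ := hx
      change ρ A x = x at xA
      change ρ Model.B x = x at xB
      change ρ G x = x at xG
      refine ⟨⟨?_, ?_⟩, ?_⟩
      · show ρ A (ρ S x) = ρ S x
        rw [← MulAut.mul_apply, ← map_mul, ← rel_SB, map_mul, MulAut.mul_apply, xB]
      · show ρ Model.B (ρ S x) = ρ S x
        rw [← MulAut.mul_apply, ← map_mul, ← rel_SA, map_mul, MulAut.mul_apply, xA]
      · show ρ G (ρ S x) = ρ S x
        rw [← MulAut.mul_apply, ← map_mul, show G * S = S * (G * G) from MulEquiv.ext (by decide),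
          map_mul, MulAut.mul_apply, map_mul, MulAut.mul_apply, xG, xG]) (fun x _ => hA2 x) hP
  refine ⟨v, hq1 v hvP.2 hv1, fun f hf => ?_⟩
  obtain ⟨i, j, l, m, rfl⟩ := mem_stab hf
  have hp : ∀ (f : MulAut E3) (n : ℕ), ρ f v = v → ρ (f ^ n) v = v := fun f n hf => by
    induction n with
    | zero => simp
    | succ n ih => rw [pow_succ, map_mul, MulAut.mul_apply, hf, ih]
  simp only [stabWord, map_mul, MulAut.mul_apply]
  rw [hp S m hvS, hp G l hvP.2, hp Model.B j hvP.1.2, hp A i hvP.1.1]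

/-- **The quadratic map is additive.** -/
theorem false' (Q : QForm ψ V) : False := by
  haveI := Q.finV
  classical
  obtain ⟨ρ, hρ, hρB⟩ := Q.exists_action
  obtain ⟨v₀, hv₀, hst⟩ := Q.exists_section ρ hρ
  have hex : ∀ u : E3, ∃ v : V, u = 1 ∧ v = 1 ∨
      u ≠ 1 ∧ ∃ f : MulAut E3, f e1 = u ∧ ρ f v₀ = v := by
    intro u
    by_cases hu : u = 1
    · exact ⟨1, Or.inl ⟨hu, rfl⟩⟩
    · obtain ⟨i, hi⟩ := X_trans u hu
      exact ⟨_, Or.inr ⟨hu, _, hi, rfl⟩⟩
  choose σ hσ using hex
  have hσeq : ∀ f : MulAut E3, σ (f e1) = ρ f v₀ := by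
    intro f
    rcases hσ (f e1) with ⟨h1, -⟩ | ⟨-, f', hf', hf''⟩
    · exact absurd (f.injective (h1.trans (map_one f).symm)) (by decide)
    · rw [← hf'']
      have : ρ (f⁻¹ * f') v₀ = v₀ := hst _ (by rw [MulAut.mul_apply, hf', MulAut.inv_apply_self])
      rw [map_mul, map_inv, MulAut.mul_apply] at this
      conv_rhs => rw [← this]
      rw [MulAut.apply_inv_self]
  have hσ1 : σ 1 = 1 := (hσ 1).elim (fun h => h.2) fun h => absurd rfl h.1
  have hσq : ∀ u, Q.q (σ u) = u := fun u => by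
    rcases hσ u with ⟨h1, h2⟩ | ⟨-, f, hf, hf'⟩
    · rw [h2, Q.one, h1]
    · rw [← hf', hρ, hv₀, hf]
  have hσρ : ∀ f u, ρ f (σ u) = σ (f u) := fun f u => by
    rcases hσ u with ⟨h1, h2⟩ | ⟨-, f', hf, hf'⟩
    · rw [h1, hσ1, map_one, map_one, hσ1]
    · rw [← hf, ← MulAut.mul_apply _ f f', hσeq, hσeq, map_mul, MulAut.mul_apply]
  -- the section is multiplicative
  have hadd : ∀ u u', σ (u * u') = σ u * σ u' := by
    have base : σ (e1 * e2) = σ e1 * σ e2 := by
      set z := σ e1 * σ e2 * σ (e1 * e2) with hz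
      have hf : ∀ f : MulAut E3, f e1 = e1 → f e2 = e2 → ρ f z = z := fun f h1 h2 => by
        rw [hz, map_mul, map_mul, hσρ, hσρ, hσρ, map_mul, h1, h2]
      have hH : ρ Model.H z = z := by
        rw [hz, map_mul, map_mul, hσρ, hσρ, hσρ, show Model.H e1 = e2 by decide,
          show Model.H e2 = e1 * e2 by decide, show Model.H (e1 * e2) = e1 by decide,
          mul_comm (σ e2 * σ (e1 * e2)), mul_assoc]
      have e : ∀ f : MulAut E3, ρ f z = z → f (Q.q z) = Q.q z := fun f hf => by rw [← hρ, hf]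
      have hz1 : z = 1 := Q.ne z (ACH_fixed _ (e A (hf A (by decide) (by decide)))
        (e C (hf C (by decide) (by decide))) (e _ hH))
      calc σ (e1 * e2) = z * σ (e1 * e2) := by rw [hz1, one_mul]
        _ = _ := by rw [hz, mul_assoc, Q.sq, mul_one]
    intro u u'
    by_cases hu : u = 1
    · rw [hu, hσ1, one_mul, one_mul]
    by_cases hu' : u' = 1
    · rw [hu', hσ1, mul_one, mul_one]
    by_cases huu : u = u'
    · rw [huu, Model.mul_self, hσ1, Q.sq]
    obtain ⟨n, i, j, k, h1, h2⟩ := pair_cover u u' hu hu' huu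
    rw [← h1, ← h2, ← map_mul, ← hσρ, ← hσρ, ← hσρ, base, map_mul]
  let σh : E3 →* V := MonoidHom.mk' σ hadd
  set V₀ := σh.range with hV₀
  have hV₀inv : ∀ f, ∀ v ∈ V₀, ρ f v ∈ V₀ := by
    rintro f _ ⟨u, rfl⟩
    exact ⟨f u, (hσρ f u).symm⟩
  have hV₀card : Nat.card V₀ = 8 := by
    rw [Nat.card_congr (MonoidHom.ofInjective (f := σh) fun a b e => by
      rw [← hσq a, ← hσq b]; exact congrArg Q.q e).symm.toEquiv, Nat.card_eq_fintype_card]
    rfl
  have hB1 : ∀ z, Q.B 1 z = 1 := fun z => by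
    have h := Q.hB 1 1 z
    rw [one_mul] at h
    exact mul_left_cancel (h.symm.trans (mul_one _).symm)
  have hB0 : ∀ u u', Q.B (σ u) (σ u') = 1 := fun u u' => by
    have h := Q.hq (σ u) (σ u')
    rw [← hadd, hσq, hσq, hσq] at h
    exact mul_left_cancel (a := u * u') (h.symm.trans (mul_one _).symm)
  rcases Q.card_cases with h8 | h64
  · -- the section is everything
    obtain ⟨x, y, hxy⟩ := Q.nonadd
    have htop : V₀ = ⊤ := Subgroup.eq_top_of_card_eq V₀ (by rw [hV₀card, h8])
    obtain ⟨u, rfl⟩ : x ∈ V₀ := htop ▸ Subgroup.mem_top x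
    obtain ⟨u', rfl⟩ : y ∈ V₀ := htop ▸ Subgroup.mem_top y
    exact hxy (hB0 u u')
  -- the section is orthogonal to everything
  have hqh : ∀ y : V, ∀ u, Q.q (σ u * y) = u * Q.q y * Q.B (σ u) y := fun y u => by rw [Q.hq, hσq]
  have hrad : ∀ y u, Q.B (σ u) y = 1 := by
    let qV : MulAut E3 →* MulAut (V ⧸ V₀) :=
      { toFun := fun f => QuotientGroup.congr V₀ V₀ (ρ f) (by
          ext v
          constructor
          · rintro ⟨w, hw, rfl⟩; exact hV₀inv f w hw
          · intro hv
            exact ⟨ρ f⁻¹ v, hV₀inv _ v hv, by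
              show ρ f (ρ f⁻¹ v) = v
              rw [← MulAut.mul_apply, ← map_mul, mul_inv_cancel, map_one, MulAut.one_apply]⟩)
        map_one' := by
          ext q
          induction q using QuotientGroup.induction_on with | _ a => simp
        map_mul' := fun f f' => by
          ext q
          induction q using QuotientGroup.induction_on with | _ a => simp }
    have hV₁ : Nat.card (V ⧸ V₀) = 8 := by
      have := Subgroup.card_eq_card_quotient_mul_card_subgroup V₀
      rw [h64, hV₀card] at this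
      omega
    have hsq1 : ∀ y : V ⧸ V₀, y * y = 1 := fun y => by
      induction y using QuotientGroup.induction_on with | _ a => rw [← QuotientGroup.mk_mul, Q.sq]; rfl
    have hp1 : IsPGroup 2 (V ⧸ V₀) := fun y => ⟨1, by rw [pow_one, pow_two, hsq1]⟩
    -- `X` has no fixed point on the quotient
    have hXfix : ∀ y : V ⧸ V₀, qV X y = y → y = 1 := by
      intro y hy
      induction y using QuotientGroup.induction_on with | _ a => ?_
      let S : Set V := {v | ((v : V) : V ⧸ V₀) = (a : V ⧸ V₀)}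
      haveI : Fact (Nat.Prime 7) := ⟨by norm_num⟩
      have hS7 : IsPGroup 7 (Subgroup.zpowers X) := IsPGroup.of_card (n := 1) (by
        rw [Nat.card_zpowers, orderOf_eq_prime rel_X
          (fun e => absurd (DFunLike.congr_fun e e1) (by decide))]
        rfl)
      have hstab : ∀ s ∈ Subgroup.zpowers X, qV s (a : V ⧸ V₀) = (a : V ⧸ V₀) := fun s hs =>
        (Subgroup.zpowers_le (H := (MulAction.stabilizer (MulAut (V ⧸ V₀)) (a : V ⧸ V₀)).comap qV)).2
          hy hs
      letI : MulAction (Subgroup.zpowers X) S :=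
        { smul := fun s v => ⟨ρ s.1 v.1, by
            show ((ρ s.1 v.1 : V) : V ⧸ V₀) = _
            have : qV s.1 ((v.1 : V) : V ⧸ V₀) = _ := (congrArg (qV s.1) v.2).trans (hstab s.1 s.2)
            exact this⟩
          one_smul := fun v => Subtype.ext (by show ρ 1 v.1 = v.1; rw [map_one]; rfl)
          mul_smul := fun s t v => Subtype.ext (by
            show ρ (s.1 * t.1) v.1 = ρ s.1 (ρ t.1 v.1)
            rw [map_mul]; rfl) }
      have hcS : Nat.card S = 8 := by
        rw [← hV₀card]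
        exact Nat.card_congr
          { toFun := fun v => ⟨a⁻¹ * v.1, QuotientGroup.eq.1 v.2.symm⟩
            invFun := fun w => ⟨a * w.1, (QuotientGroup.eq.2 (by simp)).symm⟩
            left_inv := fun v => Subtype.ext (by simp)
            right_inv := fun w => Subtype.ext (by simp) }
      have hmod := hS7.card_modEq_card_fixedPoints S
      obtain ⟨⟨v, hvfix⟩⟩ : Nonempty (MulAction.fixedPoints (Subgroup.zpowers X) S) := by
        by_contra hc
        rw [not_nonempty_iff] at hc
        rw [hcS, Nat.card_of_isEmpty] at hmod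
        norm_num [Nat.ModEq] at hmod
      have hv : ρ X v.1 = v.1 := congrArg Subtype.val (hvfix ⟨X, Subgroup.mem_zpowers X⟩)
      have h1 : v.1 = 1 := Q.ne _ (X_fixed _ (by rw [← hρ, hv]))
      exact v.2.symm.trans (by rw [h1]; rfl)
    -- the pairing
    let P : V ⧸ V₀ → E3 → E3 := fun y u => Quotient.liftOn' y (fun a : V => Q.B (σ u) a) (fun a b hab => by
      obtain ⟨w, hw⟩ := QuotientGroup.leftRel_apply.1 hab
      have : b = a * σ w := by rw [show σ w = a⁻¹ * b from hw, mul_inv_cancel_left]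
      rw [this, Q.B_comm (σ u) (a * σ w), Q.hB, Q.B_comm (σ w), hB0, mul_one, Q.B_comm a])
    have hPmk : ∀ (a : V) u, P (a : V ⧸ V₀) u = Q.B (σ u) a := fun a u => rfl
    have hPeq : ∀ f y u, P (qV f y) (f u) = f (P y u) := by
      intro f y u
      induction y using QuotientGroup.induction_on with | _ a => ?_
      show Q.B (σ (f u)) (ρ f a) = f (Q.B (σ u) a)
      rw [← hσρ, hρB]
    have hPmul : ∀ y u u', P y (u * u') = P y u * P y u' := by
      intro y u u'
      induction y using QuotientGroup.induction_on with | _ a => ?_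
      show Q.B (σ (u * u')) a = _
      rw [hadd, Q.hB]; rfl
    have hPadd : ∀ y y' u, P (y * y') u = P y u * P y' u := by
      intro y y' u
      induction y using QuotientGroup.induction_on with | _ a => ?_
      induction y' using QuotientGroup.induction_on with | _ b => ?_
      show Q.B (σ u) (a * b) = Q.B (σ u) a * Q.B (σ u) b
      rw [Q.B_comm, Q.hB, Q.B_comm a, Q.B_comm b]
    -- a vector fixed by the upper triangular group
    have hinv2 : ∀ f : MulAut E3, f * f = 1 → ∀ y, qV f (qV f y) = y := fun f hf y => by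
      rw [← MulAut.mul_apply, ← map_mul, hf, map_one]; rfl
    let Fx : MulAut E3 → Subgroup (V ⧸ V₀) := fun f =>
      MonoidHom.eqLocus (qV f).toMonoidHom (MonoidHom.id _)
    obtain ⟨y₁, -, hy₁1, hy₁A⟩ := exists_fixed_involutory hp1 ⊤ (qV A).toMonoidHom
      (fun _ _ => trivial) (fun y _ => hinv2 A rel_A y) (fun e => by
        have h := Subgroup.card_top (G := V ⧸ V₀)
        rw [e, Subgroup.card_bot, hV₁] at h
        omega)
    obtain ⟨y₂, hy₂A, hy₂1, hy₂C⟩ := exists_fixed_involutory hp1 (Fx A) (qV C).toMonoidHom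
      (fun y hy => by
        show qV A (qV C y) = qV C y
        rw [← MulAut.mul_apply, ← map_mul, rel_AC, map_mul, MulAut.mul_apply, show qV A y = y from hy])
      (fun y _ => hinv2 C rel_C y) (fun e => hy₁1 ((Subgroup.eq_bot_iff_forall _).1 e y₁ hy₁A))
    obtain ⟨y₃, hy₃, hy₃1, hy₃B⟩ := exists_fixed_involutory hp1 (Fx A ⊓ Fx C) (qV Model.B).toMonoidHom
      (fun y hy => by
        have hA' : qV A y = y := hy.1
        have hC' : qV C y = y := hy.2
        refine ⟨?_, ?_⟩
        · show qV A (qV Model.B y) = qV Model.B y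
          rw [← MulAut.mul_apply, ← map_mul, ← rel_BA, map_mul, MulAut.mul_apply, hA']
        · show qV C (qV Model.B y) = qV Model.B y
          rw [← MulAut.mul_apply, ← map_mul,
            show C * Model.B = Model.B * (A * C) from MulEquiv.ext (by decide), map_mul, MulAut.mul_apply,
            map_mul, MulAut.mul_apply, hC', hA'])
      (fun y _ => hinv2 Model.B rel_B y)
      (fun e => hy₂1 ((Subgroup.eq_bot_iff_forall _).1 e y₂ ⟨hy₂A, hy₂C⟩))
    -- `X` is transitive on the quotient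
    have hinjX : Function.Injective fun i : Fin 7 => qV (X ^ (i : ℕ)) y₃ := by
      intro i j e
      by_contra hne
      have key : ∀ i j : Fin 7, i ≠ j → ∃ l : Fin 7, ∀ w : E3,
          ((X ^ (7 - (i : ℕ)) * X ^ (j : ℕ)) ^ (l : ℕ)) w = X w := by decide +kernel
      obtain ⟨l, hl⟩ := key i j hne
      have hXi : X ^ (7 - (i : ℕ)) * X ^ (i : ℕ) = 1 := by
        rw [← pow_add, Nat.sub_add_cancel i.isLt.le, rel_X]
      have hfix : qV (X ^ (7 - (i : ℕ)) * X ^ (j : ℕ)) y₃ = y₃ := by
        simp only at e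
        rw [map_mul, MulAut.mul_apply, ← e, ← MulAut.mul_apply, ← map_mul, hXi, map_one]; rfl
      have hpow : ∀ n : ℕ, qV ((X ^ (7 - (i : ℕ)) * X ^ (j : ℕ)) ^ n) y₃ = y₃ := fun n => by
        induction n with
        | zero => simp
        | succ n ih => rw [pow_succ, map_mul, MulAut.mul_apply, hfix, ih]
      exact hy₃1 (hXfix y₃ (by rw [← MulEquiv.ext hl]; exact hpow l))
    have horb : ∀ y : V ⧸ V₀, y ≠ 1 → ∃ i : Fin 7, qV (X ^ (i : ℕ)) y₃ = y := by
      intro y hy
      haveI := Fintype.ofFinite (V ⧸ V₀)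
      by_contra hc
      push_neg at hc
      have h1 : ((Finset.univ.image fun i : Fin 7 => qV (X ^ (i : ℕ)) y₃) ∪ {1, y}).card ≤ 8 := by
        rw [← hV₁, Nat.card_eq_fintype_card]; exact Finset.card_le_univ _
      rw [Finset.card_union_of_disjoint, Finset.card_image_of_injective _ hinjX, Finset.card_univ,
        Fintype.card_fin, Finset.card_pair (Ne.symm hy)] at h1
      · omega
      · rw [Finset.disjoint_left]
        intro z hz hz'
        obtain ⟨i, -, rfl⟩ := Finset.mem_image.1 hz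
        simp only [Finset.mem_insert, Finset.mem_singleton] at hz'
        rcases hz' with r | r
        · exact hy₃1 ((qV (X ^ (i : ℕ))).injective (r.trans (map_one _).symm))
        · exact hc i r
    -- an element of order three fixing it
    obtain ⟨n, hn⟩ : ∃ n : Fin 7, qV (X ^ (n : ℕ) * G * X ^ (7 - (n : ℕ))) y₃ = y₃ := by
      haveI : Fact (Nat.Prime 3) := ⟨Nat.prime_three⟩
      have hG3 : orderOf G = 3 := orderOf_eq_prime (by rw [pow_succ, pow_two]; exact rel_G)
        (fun e => absurd (DFunLike.congr_fun e e2) (by decide))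
      letI : MulAction (Subgroup.zpowers G) (V ⧸ V₀) :=
        MulAction.compHom _ (qV.comp (Subgroup.zpowers G).subtype)
      have hmod := (IsPGroup.of_card (n := 1) (by rw [Nat.card_zpowers, hG3]; rfl) :
        IsPGroup 3 (Subgroup.zpowers G)).card_modEq_card_fixedPoints (V ⧸ V₀)
      obtain ⟨y, hy, hy1⟩ : ∃ y, qV G y = y ∧ y ≠ 1 := by
        by_contra hc
        push_neg at hc
        have : MulAction.fixedPoints (Subgroup.zpowers G) (V ⧸ V₀) = {1} := by
          ext z
          refine ⟨fun hz => hc z (hz ⟨G, Subgroup.mem_zpowers G⟩), fun hz => ?_⟩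
          rw [show z = 1 from hz]
          exact fun s => map_one (qV s.1)
        rw [this, hV₁, Nat.card_coe_set_eq, Set.ncard_singleton] at hmod
        norm_num [Nat.ModEq] at hmod
      obtain ⟨i, hi⟩ := horb y hy1
      have key : ∀ i : Fin 7, ∃ n : Fin 7, ∀ w : E3,
          (X ^ (n : ℕ) * G * X ^ (7 - (n : ℕ))) w = (X ^ (7 - (i : ℕ)) * G * X ^ (i : ℕ)) w := by
        decide
      obtain ⟨n, hn⟩ := key i
      refine ⟨n, ?_⟩
      rw [MulEquiv.ext hn, map_mul, map_mul, MulAut.mul_apply, MulAut.mul_apply, hi, hy, ← hi,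
        ← MulAut.mul_apply, ← map_mul, ← pow_add, Nat.sub_add_cancel i.isLt.le, rel_X, map_one]
      rfl
    -- the commutant is scalar
    have hlin : ∀ u, P y₃ u = lin (P y₃ e1) (P y₃ e2) (P y₃ e3) u := by
      intro u
      let Ph : E3 →* E3 := MonoidHom.mk' (P y₃) (hPmul y₃)
      show Ph u = lin (Ph e1) (Ph e2) (Ph e3) u
      rw [lin, ← map_pow, ← map_pow, ← map_pow, ← map_mul, ← map_mul]
      congr 1
      have key : ∀ w : E3, w = e1 ^ w.toAdd.1.val * e2 ^ w.toAdd.2.1.val * e3 ^ w.toAdd.2.2.val := by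
        decide
      exact key u
    have hcom : ∀ f, qV f y₃ = y₃ → ∀ w, lin (P y₃ e1) (P y₃ e2) (P y₃ e3) (f w) =
        f (lin (P y₃ e1) (P y₃ e2) (P y₃ e3) w) := fun f hf w => by
      rw [← hlin, ← hlin, ← hPeq, hf]
    have hscal : (∀ u, P y₃ u = 1) ∨ (∀ u, P y₃ u = u) := by
      rcases commutant_unip _ _ _ (hcom A hy₃.1) (hcom Model.B hy₃B) (hcom C hy₃.2) with
        ⟨a, b, c⟩ | ⟨a, b, c⟩ | h | h
      · left; intro u; rw [hlin, a, b, c]; revert u; decide
      · right; intro u; rw [hlin, a, b, c]; revert u; decide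
      · exact absurd (hcom _ hn) (commutant_three n _ _ _ (Or.inl h))
      · exact absurd (hcom _ hn) (commutant_three n _ _ _ (Or.inr h))
    have hall : (∀ y u, P y u = 1) := by
      rcases hscal with h | h
      · intro y u
        rcases eq_or_ne y 1 with rfl | hy
        · show Q.B (σ u) 1 = 1
          rw [Q.B_comm, hB1]
        · obtain ⟨i, rfl⟩ := horb y hy
          have := hPeq (X ^ (i : ℕ)) y₃ ((X ^ (i : ℕ))⁻¹ u)
          rwa [MulAut.apply_inv_self, h, map_one] at this
      · exfalso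
        have hone : ∀ y : V ⧸ V₀, y ≠ 1 → P y e1 = e1 := fun y hy => by
          obtain ⟨i, rfl⟩ := horb y hy
          have := hPeq (X ^ (i : ℕ)) y₃ ((X ^ (i : ℕ))⁻¹ e1)
          rwa [MulAut.apply_inv_self, h, MulAut.apply_inv_self] at this
        set y' := qV (X ^ ((1 : Fin 7) : ℕ)) y₃ with hy'
        have hne : y' ≠ 1 := fun e => hy₃1 ((qV _).injective (e.trans (map_one _).symm))
        have hne' : y₃ * y' ≠ 1 := fun e => by
          have : y₃ = y' := by
            rw [← inv_eq_of_mul_eq_one_right e]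
            exact (inv_eq_of_mul_eq_one_right (hsq1 y₃)).symm
          exact absurd (hinjX (a₁ := 0) (a₂ := 1) (by simpa [hy'] using this)) (by decide)
        have := hPadd y₃ y' e1
        rw [hone _ hne', hone _ hy₃1, hone _ hne] at this
        revert this
        decide
    intro y u
    exact (hPmk y u).symm.trans (hall y u)
  obtain ⟨y, hy⟩ : ∃ y, y ∉ V₀ := by
    by_contra hc
    push_neg at hc
    rw [(Subgroup.eq_top_iff' V₀).2 hc, Subgroup.card_top, h64] at hV₀card
    omega
  refine hy ⟨Q.q y, ?_⟩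
  have h1 : σ (Q.q y) * y = 1 := Q.ne _ (by rw [hqh, hrad, Model.mul_self, one_mul])
  show σ (Q.q y) = y
  calc σ (Q.q y) = σ (Q.q y) * (y * y) := by rw [Q.sq, mul_one]
    _ = y := by rw [← mul_assoc, h1, one_mul]

end QForm

end CfsgLib.Pyramidal12
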