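import Mathlib
import Cfsg.Agent.Eq.Def_Solvable
import Cfsg.Agent.SelfCentPrime.PrimeCore
import Cfsg.Agent.LocalP.Basic
import Cfsg.Agent.MinNormal.Basic
import Cfsg.Agent.MinNormal.Structure
import Cfsg.Agent.Chars.Apps.Burnside

/-!
An element of order three whose class has two-power size generates a normal subgroup, if commuting
elements of order three generate the same subgroup and there is no normal two-subgroup.
-/

set_option autoImplicit false

namespace CfsgLib.Pyramidal12

theorem relIndex_normal_dvd_index {G : Type*} [Group G] [Finite G] (L C : Subgroup G) [L.Normal] :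
    C.relIndex L ∣ C.index := by
  obtain ⟨c, hc⟩ := Subgroup.relIndex_dvd_index_of_normal L C
  have h1 := Subgroup.relIndex_mul_index (inf_le_right : C ⊓ L ≤ L)
  have h2 := Subgroup.relIndex_mul_index (inf_le_left : C ⊓ L ≤ C)
  rw [Subgroup.inf_relIndex_right] at h1
  rw [Subgroup.inf_relIndex_left, ← h1, hc, mul_left_comm] at h2
  refine ⟨c, ?_⟩
  have h0 : L.relIndex C ≠ 0 := Subgroup.index_ne_zero_of_finite
  exact Nat.eq_of_mul_eq_mul_left (Nat.pos_of_ne_zero h0) h2

variable {G : Type} [Group G] [Finite G]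

/-- Commuting elements of order three generate the same subgroup. -/
def UniqThree (G : Type) [Group G] : Prop :=
  ∀ a b : G, orderOf a = 3 → orderOf b = 3 → Commute a b → b ∈ Subgroup.zpowers a

theorem UniqThree.isConj (h : UniqThree G) {a b : G} (ha : orderOf a = 3) (hb : orderOf b = 3) :
    ∃ c : G, c * a * c⁻¹ ∈ Subgroup.zpowers b := by
  haveI : Fact (Nat.Prime 3) := ⟨Nat.prime_three⟩
  obtain ⟨P, hP⟩ := (IsPGroup.of_card (n := 1) (by rw [Nat.card_zpowers, ha]; rfl) :
    IsPGroup 3 (Subgroup.zpowers a)).exists_le_sylow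
  obtain ⟨Q, hQ⟩ := (IsPGroup.of_card (n := 1) (by rw [Nat.card_zpowers, hb]; rfl) :
    IsPGroup 3 (Subgroup.zpowers b)).exists_le_sylow
  obtain ⟨c, hc⟩ := MulAction.exists_smul_eq G P Q
  have hmem : c * a * c⁻¹ ∈ (Q : Subgroup G) := by
    rw [← hc, Sylow.coe_subgroup_smul]
    exact ⟨a, hP (Subgroup.mem_zpowers a), rfl⟩
  have haQ : orderOf (c * a * c⁻¹) = 3 := by
    rw [show c * a * c⁻¹ = MulAut.conj c a from rfl, MulEquiv.orderOf_eq, ha]
  have hbQ : b ∈ (Q : Subgroup G) := hQ (Subgroup.mem_zpowers b)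
  have hnt : Nontrivial (Q : Subgroup G) :=
    ⟨⟨⟨b, hbQ⟩, 1, fun e => by simp [show b = 1 from congrArg Subtype.val e] at hb⟩⟩
  haveI := Q.isPGroup'.center_nontrivial
  obtain ⟨z, hz⟩ := exists_prime_orderOf_dvd_card' (G := Subgroup.center (Q : Subgroup G)) 3 (by
    obtain ⟨n, hn0, hn⟩ := (Q.isPGroup'.to_subgroup (Subgroup.center (Q : Subgroup G))).exists_card_eq.imp
      fun n hn => And.intro (show n ≠ 0 from fun h0 => by
        have := Finite.one_lt_card (α := Subgroup.center (Q : Subgroup G))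
        rw [hn, h0] at this; simp at this) hn
    exact hn ▸ dvd_pow_self 3 hn0)
  have hz3 : orderOf ((z : (Q : Subgroup G)) : G) = 3 := by
    rw [Subgroup.orderOf_coe, Subgroup.orderOf_coe, hz]
  have key : ∀ x ∈ (Q : Subgroup G), orderOf x = 3 →
      Subgroup.zpowers x = Subgroup.zpowers ((z : (Q : Subgroup G)) : G) := by
    intro x hx hx3
    have hcomm : Commute ((z : (Q : Subgroup G)) : G) x :=
      congrArg Subtype.val (Subgroup.mem_center_iff.1 z.2 ⟨x, hx⟩).symm
    exact le_antisymm (Subgroup.zpowers_le.2 (h _ _ hz3 hx3 hcomm))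
      (Subgroup.zpowers_le.2 (h _ _ hx3 hz3 hcomm.symm))
  exact ⟨c, by rw [key b hbQ hb, ← key _ hmem haQ]; exact Subgroup.mem_zpowers _⟩

theorem UniqThree.mem_of_dvd_card (h : UniqThree G) {g : G} (hg : orderOf g = 3)
    {L : Subgroup G} [L.Normal] (hL : 3 ∣ Nat.card L) : g ∈ L := by
  haveI : Fact (Nat.Prime 3) := ⟨Nat.prime_three⟩
  obtain ⟨l, hl⟩ := exists_prime_orderOf_dvd_card' 3 hL
  obtain ⟨c, hc⟩ := h.isConj hg (show orderOf (l : G) = 3 by rw [Subgroup.orderOf_coe, hl])
  have h1 : c * g * c⁻¹ ∈ L := (Subgroup.zpowers_le.2 l.2) hc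
  simpa [mul_assoc] using Subgroup.Normal.conj_mem ‹L.Normal› _ h1 c⁻¹

theorem normal_zpowers_three (huniq : UniqThree G)
    (hO2 : ∀ N : Subgroup G, N.Normal → IsPGroup 2 N → N = ⊥) {g : G} (hg : orderOf g = 3) {j : ℕ}
    (hidx : (Subgroup.centralizer ({g} : Set G)).index ∣ 2 ^ j) :
    (Subgroup.zpowers g).Normal := by
  haveI : Fact (Nat.Prime 3) := ⟨Nat.prime_three⟩
  set M := Cfsg.pPrimeCore 3 G with hM
  obtain ⟨hMn, hMc⟩ := SelfCentPrime.pPrimeCore_mem (G := G) 3
  rw [← hM] at hMn hMc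
  haveI := hMn
  -- `g` centralises `M`
  have hcent : ∀ m ∈ M, m * g = g * m := by
    set C := (Subgroup.centralizer ({g} : Set G)).subgroupOf M with hC
    have hCidx : ∃ i, C.index = 2 ^ i := by
      obtain ⟨i, -, hi⟩ := (Nat.dvd_prime_pow Nat.prime_two).1
        ((relIndex_normal_dvd_index M _).trans hidx)
      exact ⟨i, hi⟩
    obtain ⟨i, hi⟩ := hCidx
    let S := Subgroup.zpowers g
    have hSp : IsPGroup 3 S := IsPGroup.of_card (n := 1) (by rw [Nat.card_zpowers, hg]; rfl)
    let act : MulAction S (Sylow 2 M) :=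
      MulAction.compHom _ ((MulAut.conjNormal : G →* MulAut M).comp S.subtype)
    obtain ⟨Q, hQ⟩ : ∃ Q : Sylow 2 M, ∀ s : S, @HSMul.hSMul _ _ _ (@instHSMul _ _ act.toSMul) s Q = Q := by
      have h1 := @IsPGroup.card_modEq_card_fixedPoints 3 S _ hSp _ (Sylow 2 M) act _
      have h2 : ¬ 3 ∣ Nat.card (Sylow 2 M) := fun h3 => by
        have := hMc.coprime_dvd_left (h3.trans (Sylow.card_dvd_index (default : Sylow 2 M) |>.trans
          (Subgroup.index_dvd_card _)))
        norm_num at this
      by_contra hne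
      push_neg at hne
      refine h2 (Nat.modEq_zero_iff_dvd.1 (h1.trans ?_))
      rw [Nat.card_eq_zero.2 (Or.inl ⟨fun ⟨Q, hQ⟩ => by
        obtain ⟨s, hs⟩ := hne Q; exact hs (hQ s)⟩)]
    -- every element of `M` is a product of elements of `Q` and `C`
    have hprod : ∀ m : M, ∃ q ∈ (Q : Subgroup M), ∃ c ∈ C, m = q * c := by
      set ι : (Q : Subgroup M) ⧸ C.subgroupOf Q → M ⧸ C := fun x =>
        Quotient.liftOn' x (fun q => ((q : M) : M ⧸ C)) (fun a b hab => QuotientGroup.eq.2 (by
          simpa [Subgroup.mem_subgroupOf] using QuotientGroup.leftRel_apply.1 hab))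
      have hinj : Function.Injective ι := by
        rintro ⟨a⟩ ⟨b⟩ hab
        exact QuotientGroup.eq.2 (by simpa [Subgroup.mem_subgroupOf] using QuotientGroup.eq.1 hab)
      have hle : 2 ^ i ≤ Nat.card ((Q : Subgroup M) ⧸ C.subgroupOf Q) := by
        obtain ⟨a, ha⟩ := Q.isPGroup'.exists_card_eq
        obtain ⟨b, -, hb⟩ := (Nat.dvd_prime_pow Nat.prime_two).1
          (ha ▸ Subgroup.card_subgroup_dvd_card (C.subgroupOf (Q : Subgroup M)))
        have hbC : 2 ^ b ∣ Nat.card C := by
          rw [← hb, Nat.card_congr (show C.subgroupOf (Q : Subgroup M) ≃ ↥(C ⊓ (Q : Subgroup M)) from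
            { toFun := fun x => ⟨x.1.1, x.2, x.1.2⟩
              invFun := fun x => ⟨⟨x.1, x.2.2⟩, x.2.1⟩
              left_inv := fun _ => rfl
              right_inv := fun _ => rfl })]
          exact Subgroup.card_dvd_of_le inf_le_left
        have hM2 : 2 ^ (i + b) ∣ Nat.card (Q : Subgroup M) := by
          rw [Sylow.card_eq_multiplicity Q]
          refine Nat.pow_dvd_pow 2 ((Nat.Prime.pow_dvd_iff_le_factorization Nat.prime_two
            Nat.card_pos.ne').1 ?_)
          rw [← Subgroup.card_mul_index C, hi, pow_add, mul_comm]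
          exact Nat.mul_dvd_mul hbC dvd_rfl
        rw [Subgroup.card_eq_card_quotient_mul_card_subgroup (C.subgroupOf (Q : Subgroup M)), hb,
          pow_add] at hM2
        exact Nat.le_of_dvd Nat.card_pos ((Nat.mul_dvd_mul_iff_right (pow_pos two_pos b)).1 hM2)
      have hsurj : Function.Surjective ι :=
        (hinj.bijective_of_nat_card_le (by rw [← Subgroup.index_eq_card, hi]; exact hle)).2
      intro m
      obtain ⟨x, hx⟩ := hsurj (m : M ⧸ C)
      obtain ⟨q, rfl⟩ := Quotient.exists_rep x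
      exact ⟨q, q.2, (q : M)⁻¹ * m, QuotientGroup.eq.1 hx, by group⟩
    have hbr : ∀ m : M, ∃ q ∈ (Q : Subgroup M),
        ((m : G) * g * (m : G)⁻¹ * g⁻¹) = (q : G) := by
      intro m
      obtain ⟨q, hq, c, hc, rfl⟩ := hprod m
      have hc' : (c : G) * g = g * c := Subgroup.mem_centralizer_singleton_iff.1 hc
      have hgq : MulAut.conjNormal g q ∈ (Q : Subgroup M) := by
        have h1 := hQ ⟨g, Subgroup.mem_zpowers g⟩
        have h2 : (MulAut.conjNormal g q) ∈ ((MulAut.conjNormal g : MulAut M) • Q : Sylow 2 M).1 :=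
          ⟨q, hq, rfl⟩
        change (MulAut.conjNormal g : MulAut M) • Q = Q at h1
        rw [h1] at h2
        exact h2
      refine ⟨q * (MulAut.conjNormal g q)⁻¹, mul_mem hq (inv_mem hgq), ?_⟩
      simp only [Subgroup.coe_mul, Subgroup.coe_inv, MulAut.conjNormal_apply]
      calc (q : G) * c * g * ((q : G) * c)⁻¹ * g⁻¹ = q * ((c : G) * g) * (c : G)⁻¹ * (q : G)⁻¹ * g⁻¹ := by group
        _ = _ := by rw [hc']; group
    let L : Subgroup G := Subgroup.closure {x | ∃ m ∈ M, x = m * g * m⁻¹ * g⁻¹}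
    have hLQ : L ≤ (Q : Subgroup M).map M.subtype := by
      rw [Subgroup.closure_le]
      rintro x ⟨m, hm, rfl⟩
      obtain ⟨q, hq, hqe⟩ := hbr ⟨m, hm⟩
      exact ⟨q, hq, hqe.symm⟩
    have hLM : L ≤ M := hLQ.trans (Subgroup.map_subtype_le _)
    have hLn : (L.subgroupOf M).Normal := by
      refine ⟨fun x hx m => ?_⟩
      rw [Subgroup.mem_subgroupOf] at hx ⊢
      show (m : G) * x * (m : G)⁻¹ ∈ L
      have : L ≤ L.comap (MulAut.conj (m : G)).toMonoidHom := by
        rw [Subgroup.closure_le]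
        rintro y ⟨a, ha, rfl⟩
        show MulAut.conj (m : G) (a * g * a⁻¹ * g⁻¹) ∈ L
        have h1 : (m : G) * a * g * ((m : G) * a)⁻¹ * g⁻¹ ∈ L :=
          Subgroup.subset_closure ⟨_, mul_mem m.2 ha, rfl⟩
        have h2 : (m : G) * g * (m : G)⁻¹ * g⁻¹ ∈ L := Subgroup.subset_closure ⟨_, m.2, rfl⟩
        convert mul_mem h1 (inv_mem h2) using 1
        simp only [MulAut.conj_apply]; group
      exact this hx
    have hLbot : L.subgroupOf M = ⊥ := by
      have hp : IsPGroup 2 (L.subgroupOf M) := by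
        refine IsPGroup.to_le Q.isPGroup' fun x hx => ?_
        obtain ⟨q, hq, hqe⟩ := hLQ hx
        rwa [← Subtype.ext hqe]
      haveI := hLn
      have hle : L.subgroupOf M ≤ Cfsg.pCore 2 M := LocalP.le_pCore hLn hp
      refine le_bot_iff.1 (hle.trans (le_of_eq ?_))
      have : ((Cfsg.pCore 2 M).map M.subtype) = ⊥ := by
        refine hO2 _ ?_ ((LocalP.isPGroup_pCore (p := 2)).map _)
        haveI : (Cfsg.pCore 2 M).Characteristic := LocalP.pCore_characteristic 2
        exact ConjAct.normal_of_characteristic_of_normal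
      exact (Subgroup.map_eq_bot_iff_of_injective _ M.subtype_injective).1 this
    intro m hm
    have h1 : (⟨_, hLM (Subgroup.subset_closure ⟨m, hm, rfl⟩)⟩ : M) ∈ L.subgroupOf M :=
      Subgroup.subset_closure (k := {x | ∃ m ∈ M, x = m * g * m⁻¹ * g⁻¹}) ⟨m, hm, rfl⟩
    rw [hLbot, Subgroup.mem_bot] at h1
    have h2 : m * g * m⁻¹ * g⁻¹ = 1 := congrArg Subtype.val h1
    calc m * g = (m * g * m⁻¹ * g⁻¹) * (g * m) := by group
      _ = g * m := by rw [h2, one_mul]
  -- a minimal normal subgroup of the quotient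
  have hgM : g ∉ M := fun h => by
    have := hMc.coprime_dvd_left (Subgroup.orderOf_dvd_natCard M h)
    rw [hg] at this
    norm_num at this
  set f := QuotientGroup.mk' M
  haveI : Nontrivial (G ⧸ M) := ⟨⟨f g, 1, fun h => hgM ((QuotientGroup.eq_one_iff g).1 h)⟩⟩
  obtain ⟨Lb, hLb⟩ := MinNormal.exists_isMinNormal (G := G ⧸ M)
  haveI := hLb.normal
  set L := Lb.comap f with hL
  haveI : L.Normal := hLb.normal.comap f
  have hcard : Nat.card L = Nat.card Lb * Nat.card M := by
    rw [Subgroup.card_eq_card_quotient_mul_card_subgroup ((f.comp L.subtype).ker),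
      Nat.card_congr (QuotientGroup.quotientKerEquivRange (f.comp L.subtype)).toEquiv]
    congr 1
    · rw [MonoidHom.range_comp, Subgroup.range_subtype, hL,
        Subgroup.map_comap_eq_self_of_surjective (QuotientGroup.mk'_surjective M)]
    · exact Nat.card_congr
        { toFun := fun x => ⟨x.1.1, (QuotientGroup.eq_one_iff _).1 x.2⟩
          invFun := fun y => ⟨⟨y.1, by
            show f y.1 ∈ Lb
            rw [show f y.1 = 1 from (QuotientGroup.eq_one_iff _).2 y.2]; exact one_mem _⟩,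
              (QuotientGroup.eq_one_iff _).2 y.2⟩
          left_inv := fun _ => rfl
          right_inv := fun _ => rfl }
  have h3 : 3 ∣ Nat.card Lb := by
    by_contra h3
    have hc : (Nat.card L).Coprime 3 := by
      rw [hcard]
      exact Nat.Coprime.mul_left ((Nat.prime_three.coprime_iff_not_dvd.2 h3).symm) hMc
    have hle : L ≤ M := SelfCentPrime.le_pPrimeCore ‹L.Normal› hc
    refine hLb.ne_bot ((Subgroup.eq_bot_iff_forall _).2 fun x hx => ?_)
    obtain ⟨y, rfl⟩ := QuotientGroup.mk'_surjective M x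
    exact (QuotientGroup.eq_one_iff y).2 (hle hx)
  have hgL : g ∈ L := huniq.mem_of_dvd_card hg (hcard ▸ h3.mul_right _)
  by_cases hab : IsMulCommutative Lb
  · obtain ⟨r, hr, hexp⟩ := hLb.exists_prime_pow_eq_one hab
    have hr3 : r = 3 := by
      obtain ⟨x, hx⟩ := exists_prime_orderOf_dvd_card' 3 h3
      have : orderOf x ∣ r := orderOf_dvd_of_pow_eq_one (Subtype.ext (by simpa using hexp x x.2))
      rw [hx] at this
      exact ((Nat.prime_dvd_prime_iff_eq Nat.prime_three hr).1 this).symm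
    subst hr3
    have hLbz : Subgroup.zpowers (f g) = Lb := by
      obtain ⟨P, hP⟩ := (IsPGroup.of_card (n := 1) (by
        rw [Nat.card_zpowers, Subgroup.orderOf_mk, hg]; rfl) :
        IsPGroup 3 (Subgroup.zpowers (⟨g, hgL⟩ : L))).exists_le_sylow
      have hPM : ∀ y ∈ (P : Subgroup L), (y : G) ∈ M → y = 1 := by
        intro y hy hyM
        obtain ⟨n, hn⟩ := P.isPGroup' ⟨y, hy⟩
        have h1 : orderOf y ∣ 3 ^ n := orderOf_dvd_of_pow_eq_one (congrArg Subtype.val hn)
        have h2 : orderOf y ∣ Nat.card M := by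
          rw [← Subgroup.orderOf_coe]; exact Subgroup.orderOf_dvd_natCard M hyM
        exact orderOf_eq_one_iff.1 (Nat.eq_one_of_dvd_coprimes ((hMc.pow_right n).symm) h1 h2)
      have hPz : (P : Subgroup L) ≤ Subgroup.zpowers (⟨g, hgL⟩ : L) := by
        intro y hy
        have hgP := hP (Subgroup.mem_zpowers (⟨g, hgL⟩ : L))
        rcases eq_or_ne y 1 with rfl | hy1
        · exact one_mem _
        have hy3 : y ^ 3 = 1 := hPM _ (pow_mem hy 3) ((QuotientGroup.eq_one_iff _).1
          (show f ((y ^ 3 : L) : G) = 1 by simpa [map_pow] using hexp _ y.2))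
        have hcy : Commute (⟨g, hgL⟩ : L) y := by
          refine inv_mul_eq_one.1 (hPM _ (mul_mem (inv_mem (mul_mem hgP hy)) (mul_mem hy hgP))
            ((QuotientGroup.eq_one_iff _).1 ?_))
          have := congrArg Subtype.val (hab.is_comm.comm (⟨f y, y.2⟩ : Lb) ⟨f g, hgL⟩)
          show f _ = 1
          simp only [Subgroup.coe_mul, Subgroup.coe_inv, map_mul, map_inv] at this ⊢
          rw [this, inv_mul_cancel]
        have := huniq g (y : G) hg (by rw [Subgroup.orderOf_coe]; exact orderOf_eq_prime hy3 hy1)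
          (congrArg Subtype.val hcy)
        obtain ⟨i, hi⟩ := Subgroup.mem_zpowers_iff.1 this
        exact Subgroup.mem_zpowers_iff.2 ⟨i, Subtype.ext (by simpa using hi)⟩
      have hP3 : Nat.card (P : Subgroup L) ≤ 3 :=
        (Subgroup.card_le_of_le hPz).trans (by rw [Nat.card_zpowers, Subgroup.orderOf_mk, hg])
      obtain ⟨a, ha⟩ := (show IsPGroup 3 Lb from fun y =>
        ⟨1, Subtype.ext (by simpa using hexp y y.2)⟩).exists_card_eq
      have hd : 3 ^ a ∣ Nat.card (P : Subgroup L) := by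
        rw [Sylow.card_eq_multiplicity P]
        refine Nat.pow_dvd_pow 3 ((Nat.Prime.pow_dvd_iff_le_factorization Nat.prime_three
          Nat.card_pos.ne').1 ?_)
        exact hcard ▸ ha ▸ dvd_mul_right _ _
      refine Subgroup.eq_of_le_of_card_ge (Subgroup.zpowers_le.2 hgL) ?_
      rw [ha, Nat.card_zpowers]
      refine le_trans ((Nat.le_of_dvd Nat.card_pos hd).trans hP3) (le_of_eq ?_)
      refine (orderOf_eq_prime ?_ fun h => hgM ((QuotientGroup.eq_one_iff g).1 h)).symm
      show f g ^ 3 = 1; rw [← map_pow, ← hg, pow_orderOf_eq_one, map_one]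
    -- every element of order three of `L` lies in `⟨g⟩`
    have hkey : ∀ l ∈ L, orderOf l = 3 → l ∈ Subgroup.zpowers g := by
      intro l hl hl3
      have h1 : ∃ i : ℤ, f l = f g ^ i := by
        refine (Subgroup.mem_zpowers_iff.1 (?_ : f l ∈ Subgroup.zpowers (f g))).imp fun i hi => hi.symm
        rw [hLbz]
        exact hl
      obtain ⟨i, hi⟩ := h1
      set m := (g ^ i)⁻¹ * l with hmdef
      have hmM : m ∈ M := (QuotientGroup.eq_one_iff _).1 (by
        show f _ = 1; simp [hmdef, map_zpow, hi])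
      have hcg : Commute (g ^ i) m := (Commute.zpow_left (hcent m hmM).symm i)
      have e1 : l = g ^ i * m := by rw [hmdef]; group
      have hgi : (g ^ i) ^ 3 = 1 := by
        rw [← zpow_natCast, ← zpow_mul, mul_comm, zpow_mul, zpow_natCast, ← hg, pow_orderOf_eq_one,
          one_zpow]
      have hl' : l ^ 3 = 1 := by rw [← hl3, pow_orderOf_eq_one]
      rw [e1, hcg.mul_pow, hgi, one_mul] at hl'
      have : m = 1 := orderOf_eq_one_iff.1 (Nat.eq_one_of_dvd_coprimes
        (hMc.symm) (orderOf_dvd_of_pow_eq_one hl') (Subgroup.orderOf_dvd_natCard M hmM))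
      rw [e1, this, mul_one]
      exact Subgroup.zpow_mem_zpowers g i
    refine ⟨fun x hx c => ?_⟩
    obtain ⟨i, rfl⟩ := Subgroup.mem_zpowers_iff.1 hx
    rw [← conj_zpow]
    refine Subgroup.zpow_mem _ (hkey _ (Subgroup.Normal.conj_mem ‹L.Normal› g hgL c) ?_) i
    rw [show c * g * c⁻¹ = MulAut.conj c g from rfl, MulEquiv.orderOf_eq, hg]
  · -- a non-abelian factor contradicts Burnside
    exfalso
    obtain ⟨T, _, m, hT, hm, hTc, ⟨e⟩⟩ := hLb.exists_mulEquiv_pi
    haveI := hT
    set gb : Lb := ⟨f g, hgL⟩ with hgb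
    have hgb1 : e gb ≠ 1 := fun h => hgM ((QuotientGroup.eq_one_iff g).1
      (congrArg Subtype.val (e.injective (h.trans (map_one e).symm))))
    obtain ⟨i, hi⟩ := Function.ne_iff.1 hgb1
    let π : Lb →* T := (Pi.evalMonoidHom (fun _ : Fin m => T) i).comp e.toMonoidHom
    have hπ : Function.Surjective π := fun t => ⟨e.symm (fun _ => t), by simp [π]⟩
    haveI : Finite T := Finite.of_surjective π hπ
    have h1 : ((Subgroup.centralizer ({gb} : Set Lb)).map π).index ∣ 2 ^ j := by
      refine (Subgroup.index_map_dvd _ hπ).trans ?_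
      have e1 : Subgroup.centralizer ({gb} : Set Lb) =
          (Subgroup.centralizer ({f g} : Set (G ⧸ M))).subgroupOf Lb := by
        ext x
        rw [Subgroup.mem_subgroupOf, Subgroup.mem_centralizer_singleton_iff,
          Subgroup.mem_centralizer_singleton_iff]
        exact ⟨fun h => congrArg Subtype.val h, fun h => Subtype.ext h⟩
      rw [e1]
      refine (relIndex_normal_dvd_index Lb _).trans ((Subgroup.index_dvd_of_le ?_).trans
        ((Subgroup.index_map_dvd (Subgroup.centralizer ({g} : Set G))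
          (QuotientGroup.mk'_surjective M)).trans hidx))
      rintro _ ⟨x, hx, rfl⟩
      rw [Subgroup.mem_centralizer_singleton_iff, ← map_mul, ← map_mul,
        Subgroup.mem_centralizer_singleton_iff.1 hx]
    have h2 : (Subgroup.centralizer ({π gb} : Set T)).index ∣ 2 ^ j := by
      refine (Subgroup.index_dvd_of_le ?_).trans h1
      rintro _ ⟨x, hx, rfl⟩
      rw [Subgroup.mem_centralizer_singleton_iff, ← map_mul, ← map_mul,
        Subgroup.mem_centralizer_singleton_iff.1 hx]
    obtain ⟨k, -, hk⟩ := (Nat.dvd_prime_pow Nat.prime_two).1 h2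
    exact Chars.Apps.not_prime_pow_index_centralizer_of_isSimpleGroup
      (fun h => hab (hTc h)) Nat.prime_two (π gb) hi hk

end CfsgLib.Pyramidal12
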