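import Mathlib

/-!
Two-transitive automorphism groups of an elementary abelian two-group in which a non-trivial element
of odd order fixes at most one involution: the elements of order three attached to the planes.
-/

set_option autoImplicit false

namespace CfsgLib.Pyramidal12

/-- The hypotheses on the automorphism group. -/
structure TT {E : Type} [CommGroup E] (X : Subgroup (MulAut E)) : Prop where
  fin : Finite E
  four : 4 ≤ Nat.card E
  sq : ∀ x : E, x * x = 1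
  trans : ∀ u v u' v' : E, u ≠ 1 → v ≠ 1 → u ≠ v → u' ≠ 1 → v' ≠ 1 → u' ≠ v' →
    ∃ x ∈ X, x u = u' ∧ x v = v'
  odd_fix : ∀ x ∈ X, Odd (orderOf x) → ∀ u v : E, u ≠ 1 → v ≠ 1 → u ≠ v → x u = u → x v = v → x = 1
  odd_normalizer : ∀ g ∈ X, orderOf g = 3 → (∀ w, g w = w → w = 1) →
    ∀ τ ∈ X, τ * g * τ⁻¹ ∈ Subgroup.zpowers g → Odd (orderOf τ)

theorem finite_mulAut (E : Type) [CommGroup E] [Finite E] : Finite (MulAut E) :=
  Finite.of_injective (fun k : MulAut E => (k : E → E)) DFunLike.coe_injective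

namespace TT

variable {E : Type} [CommGroup E] {X : Subgroup (MulAut E)}

theorem mul_ne (h : TT X) {u v : E} (hu : u ≠ 1) (hv : v ≠ 1) (huv : u ≠ v) :
    u * v ≠ 1 ∧ u * v ≠ u ∧ u * v ≠ v :=
  ⟨fun e => huv (mul_right_cancel (e.trans (h.sq v).symm)), fun e => hv (mul_eq_left.1 e),
    fun e => hu (mul_eq_right.1 e)⟩

theorem odd_part (h : TT X) {x : MulAut E} (hx : x ∈ X) {u v : E} (hu : u ≠ 1) (hv : v ≠ 1)
    (huv : u ≠ v) (hxu : x u = u) (hxv : x v = v) : ∃ a, orderOf x = 2 ^ a := by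
  haveI := h.fin
  haveI := finite_mulAut E
  obtain ⟨a, m, hm, he⟩ := Nat.exists_eq_pow_mul_and_not_dvd (orderOf_pos x).ne' 2 (by norm_num)
  have hp : ∀ n : ℕ, (x ^ n) u = u ∧ (x ^ n) v = v := fun n => by
    induction n with
    | zero => simp
    | succ n ih => rw [pow_succ, MulAut.mul_apply, MulAut.mul_apply, hxu, hxv]; exact ih
  have ho : orderOf (x ^ 2 ^ a) = m := by
    rw [orderOf_pow' _ (by positivity), he, Nat.gcd_eq_right (dvd_mul_right _ _),
      Nat.mul_div_cancel_left _ (by positivity)]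
  have := h.odd_fix _ (pow_mem hx _) (ho.symm ▸ Nat.not_even_iff_odd.1
    fun he => hm (even_iff_two_dvd.1 he)) u v hu hv huv (hp _).1 (hp _).2
  rw [this, orderOf_one] at ho
  exact ⟨a, by rw [he, ← ho, mul_one]⟩

/-- An element of order three cycling `u`, `v`, `u v`. -/
structure IsCyc (X : Subgroup (MulAut E)) (g : MulAut E) (u v : E) : Prop where
  mem : g ∈ X
  order : orderOf g = 3
  map₁ : g u = v
  map₂ : g v = u * v

theorem IsCyc.map₃ {g : MulAut E} {u v : E} (hg : IsCyc X g u v) (h : TT X) : g (u * v) = u := by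
  rw [map_mul, hg.map₁, hg.map₂, mul_comm u v, ← mul_assoc, h.sq, one_mul]

theorem IsCyc.pow_apply {g : MulAut E} {u v : E} (hg : IsCyc X g u v) (h : TT X) (i : ℕ) :
    (i % 3 = 0 ∧ (g ^ i) u = u ∧ (g ^ i) v = v) ∨
      (i % 3 = 1 ∧ (g ^ i) u = v ∧ (g ^ i) v = u * v) ∨
      (i % 3 = 2 ∧ (g ^ i) u = u * v ∧ (g ^ i) v = u) := by
  induction i with
  | zero => simp
  | succ i ih =>
    rw [pow_succ', MulAut.mul_apply, MulAut.mul_apply]
    rcases ih with ⟨hi, h1, h2⟩ | ⟨hi, h1, h2⟩ | ⟨hi, h1, h2⟩ <;>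
      simp [Nat.add_mod, hi, h1, h2, hg.map₁, hg.map₂, hg.map₃ h]

theorem exists_cyc (h : TT X) {u v : E} (hu : u ≠ 1) (hv : v ≠ 1) (huv : u ≠ v) :
    ∃ g, IsCyc X g u v := by
  haveI := h.fin
  haveI := finite_mulAut E
  obtain ⟨h1, h2, h3⟩ := h.mul_ne hu hv huv
  obtain ⟨x, hx, hxu, hxv⟩ := h.trans u v v (u * v) hu hv huv hv h1 h3.symm
  have hxw : x (u * v) = u := by
    rw [map_mul, hxu, hxv, mul_comm u v, ← mul_assoc, h.sq, one_mul]
  have hp : ∀ i : ℕ, (i % 3 = 0 ∧ (x ^ i) u = u ∧ (x ^ i) v = v) ∨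
      (i % 3 = 1 ∧ (x ^ i) u = v ∧ (x ^ i) v = u * v) ∨
      (i % 3 = 2 ∧ (x ^ i) u = u * v ∧ (x ^ i) v = u) := by
    intro i
    induction i with
    | zero => simp
    | succ i ih =>
      rw [pow_succ', MulAut.mul_apply, MulAut.mul_apply]
      rcases ih with ⟨hi, a, b⟩ | ⟨hi, a, b⟩ | ⟨hi, a, b⟩ <;>
        simp [Nat.add_mod, hi, a, b, hxu, hxv, hxw]
  obtain ⟨a, m, hm, he⟩ := Nat.exists_eq_pow_mul_and_not_dvd (orderOf_pos x).ne' 3 (by norm_num)
  have ho : orderOf (x ^ m) = 3 ^ a := by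
    have hm0 : m ≠ 0 := fun h0 => hm (h0 ▸ dvd_zero 3)
    rw [orderOf_pow' _ hm0, he, Nat.gcd_eq_right (dvd_mul_left _ _),
      Nat.mul_div_cancel _ (Nat.pos_of_ne_zero hm0)]
  obtain ⟨k, hk1, hk⟩ : ∃ k, k * m % 3 = 1 ∧ (k = 1 ∨ k = 2) := by
    rcases (show m % 3 = 1 ∨ m % 3 = 2 by omega) with r | r
    · exact ⟨1, by omega, Or.inl rfl⟩
    · exact ⟨2, by omega, Or.inr rfl⟩
  have hord : orderOf (x ^ (m * k)) ∣ 3 ^ a := by
    rw [pow_mul]; exact ho ▸ orderOf_pow_dvd k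
  rcases hp (m * k) with ⟨hi, -, -⟩ | ⟨-, hgu, hgv⟩ | ⟨hi, -, -⟩
  · rw [mul_comm] at hi; omega
  · refine ⟨x ^ (m * k), pow_mem hx _, orderOf_eq_prime ?_ ?_, hgu, hgv⟩
    · rw [← pow_mul]
      have h3' : (x ^ (m * k * 3)) u = u ∧ (x ^ (m * k * 3)) v = v := by
        rcases hp (m * k * 3) with ⟨-, p, q⟩ | ⟨hi, -⟩ | ⟨hi, -⟩
        · exact ⟨p, q⟩
        · omega
        · omega
      refine h.odd_fix _ (pow_mem hx _) ((show Odd (3 ^ a) from (by decide : Odd 3).pow).of_dvd_nat ?_)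
        u v hu hv huv h3'.1 h3'.2
      rw [pow_mul]
      exact (orderOf_pow_dvd 3).trans hord
    · intro e
      rw [e] at hgu
      exact huv hgu
  · rw [mul_comm] at hi; omega

/-- The elements acting on a plane like powers of `g`. -/
def planeGroup (h : TT X) {g : MulAut E} {u v : E} (hg : IsCyc X g u v) : Subgroup (MulAut E) where
  carrier := {x | x ∈ X ∧ ∃ i : ℕ, x u = (g ^ i) u ∧ x v = (g ^ i) v}
  one_mem' := ⟨one_mem X, 0, by simp⟩
  mul_mem' := by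
    rintro x y ⟨hx, i, hxu, hxv⟩ ⟨hy, j, hyu, hyv⟩
    refine ⟨mul_mem hx hy, i + j, ?_, ?_⟩ <;>
      rw [MulAut.mul_apply, pow_add, MulAut.mul_apply] <;>
      first | rw [hyu] | rw [hyv]
    all_goals
      rcases hg.pow_apply h j with ⟨-, p, q⟩ | ⟨-, p, q⟩ | ⟨-, p, q⟩ <;>
        simp [p, q, map_mul, hxu, hxv]
  inv_mem' := by
    rintro x ⟨hx, i, hxu, hxv⟩
    refine ⟨inv_mem hx, 2 * i, ?_, ?_⟩ <;>
      refine x.injective ?_ <;> rw [MulAut.apply_inv_self]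
    all_goals
      rcases hg.pow_apply h i with ⟨ia, a, b⟩ | ⟨ia, a, b⟩ | ⟨ia, a, b⟩ <;>
        rcases hg.pow_apply h (2 * i) with ⟨ja, p, q⟩ | ⟨ja, p, q⟩ | ⟨ja, p, q⟩ <;>
        first
          | omega
          | (simp [p, q, map_mul, hxu, hxv, a, b]; done)
          | (simp [p, q, map_mul, hxu, hxv, a, b, mul_comm u v]; rw [← mul_assoc, h.sq, one_mul])
          | (simp [p, q, map_mul, hxu, hxv, a, b]; rw [mul_comm u v, ← mul_assoc, h.sq, one_mul])
          | (simp [p, q, map_mul, hxu, hxv, a, b]; first | rw [mul_comm u v, mul_assoc, h.sq, mul_one] | rw [mul_assoc, h.sq, mul_one] | rw [mul_comm v u, ← mul_assoc, h.sq, one_mul])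

theorem conj_mem_zpowers (h : TT X) {g : MulAut E} {u v : E} (hu : u ≠ 1) (hv : v ≠ 1)
    (huv : u ≠ v) (hg : IsCyc X g u v) {g' : MulAut E} (hg' : g' ∈ planeGroup h hg)
    (ho : orderOf g' = 3) : ∃ k ∈ planeGroup h hg, k * g' * k⁻¹ ∈ Subgroup.zpowers g := by
  haveI := h.fin
  haveI := finite_mulAut E
  haveI : Fact (Nat.Prime 3) := ⟨Nat.prime_three⟩
  obtain ⟨h1, h2, h3⟩ := h.mul_ne hu hv huv
  set M := planeGroup h hg with hM
  have hgM : g ∈ M := ⟨hg.mem, 1, by simp⟩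
  let K : Subgroup M :=
    ((MulAction.stabilizer (MulAut E) u) ⊓ (MulAction.stabilizer (MulAut E) v)).subgroupOf M
  have hK : IsPGroup 2 K := by
    rintro ⟨⟨x, hxX, i, -⟩, hxu, hxv⟩
    obtain ⟨a, ha⟩ := h.odd_part hxX hu hv huv hxu hxv
    refine ⟨a, Subtype.ext (Subtype.ext ?_)⟩
    simp [← ha, pow_orderOf_eq_one]
  have hidx : K.index ≤ 3 := by
    let idx : M ⧸ K → Fin 3 := fun q => ⟨(Quotient.out q).2.2.choose % 3, Nat.mod_lt _ (by norm_num)⟩
    refine (Nat.card_le_card_of_injective idx ?_).trans (by simp)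
    intro q q' e
    obtain ⟨e1, e2⟩ := (Quotient.out q).2.2.choose_spec
    obtain ⟨f1, f2⟩ := (Quotient.out q').2.2.choose_spec
    have e3 : g ^ (Quotient.out q).2.2.choose = g ^ (Quotient.out q').2.2.choose := by
      rw [← pow_mod_orderOf, hg.order, show (Quotient.out q).2.2.choose % 3 =
        (Quotient.out q').2.2.choose % 3 from congrArg Fin.val e]
      rw [← hg.order, pow_mod_orderOf]
    rw [← Quotient.out_eq q, ← Quotient.out_eq q']
    refine QuotientGroup.eq.2 (Subgroup.mem_subgroupOf.2 ⟨?_, ?_⟩)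
    · show (((Quotient.out q : M) : MulAut E)⁻¹ * ((Quotient.out q' : M) : MulAut E)) u = u
      rw [MulAut.mul_apply, f1, ← e3, ← e1, MulAut.inv_apply_self]
    · show (((Quotient.out q : M) : MulAut E)⁻¹ * ((Quotient.out q' : M) : MulAut E)) v = v
      rw [MulAut.mul_apply, f2, ← e3, ← e2, MulAut.inv_apply_self]
  obtain ⟨a, ha⟩ := hK.exists_card_eq
  have hcard : ¬ 3 ^ 2 ∣ Nat.card M := by
    rw [← Subgroup.card_mul_index K, ha]
    intro hd
    have h9 : 3 ^ 2 ∣ K.index := (Nat.Coprime.dvd_of_dvd_mul_left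
      (Nat.Coprime.pow 2 a (by norm_num)) hd)
    have := Nat.le_of_dvd (Nat.pos_of_ne_zero Subgroup.index_ne_zero_of_finite) h9
    omega
  have hP : ∀ z : M, orderOf z = 3 → ∃ P : Sylow 3 M, (P : Subgroup M) = Subgroup.zpowers z := by
    intro z hz
    have hz' : IsPGroup 3 (Subgroup.zpowers z) :=
      IsPGroup.of_card (n := 1) (by rw [Nat.card_zpowers, hz]; rfl)
    obtain ⟨P, hle⟩ := hz'.exists_le_sylow
    refine ⟨P, (Subgroup.eq_of_le_of_card_ge hle ?_).symm⟩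
    obtain ⟨n, hn⟩ := P.isPGroup'.exists_card_eq
    have hd := Subgroup.card_subgroup_dvd_card (P : Subgroup M)
    rw [Nat.card_zpowers, hz, hn]
    rw [hn] at hd
    rcases n with _ | _ | n
    · norm_num
    · norm_num
    · exact absurd ((pow_dvd_pow 3 (by omega)).trans hd) hcard
  obtain ⟨P, hP1⟩ := hP ⟨g, hgM⟩ (by rw [Subgroup.orderOf_mk, hg.order])
  obtain ⟨Q, hQ1⟩ := hP ⟨g', hg'⟩ (by rw [Subgroup.orderOf_mk, ho])
  obtain ⟨k, hk⟩ := MulAction.exists_smul_eq M Q P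
  refine ⟨k, k.2, ?_⟩
  have : k * ⟨g', hg'⟩ * k⁻¹ ∈ (P : Subgroup M) := by
    rw [← hk, Sylow.coe_subgroup_smul]
    exact ⟨⟨g', hg'⟩, hQ1 ▸ Subgroup.mem_zpowers _, rfl⟩
  rw [hP1] at this
  obtain ⟨i, hi⟩ := Subgroup.mem_zpowers_iff.1 this
  exact Subgroup.mem_zpowers_iff.2 ⟨i, by simpa using congrArg Subtype.val hi⟩

theorem conj_eq (h : TT X) {g : MulAut E} {u v : E} (hu : u ≠ 1) (hv : v ≠ 1)
    (huv : u ≠ v) (hg : IsCyc X g u v) {g' : MulAut E} (hg' : IsCyc X g' u v) :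
    ∃ k ∈ planeGroup h hg, k * g' * k⁻¹ = g := by
  haveI := h.fin
  haveI := finite_mulAut E
  obtain ⟨h1, h2, h3⟩ := h.mul_ne hu hv huv
  have hg'M : g' ∈ planeGroup h hg :=
    ⟨hg'.mem, 1, by rw [pow_one, hg'.map₁, hg.map₁], by rw [pow_one, hg'.map₂, hg.map₂]⟩
  obtain ⟨k, hk, hkz⟩ := h.conj_mem_zpowers hu hv huv hg hg'M hg'.order
  refine ⟨k, hk, ?_⟩
  obtain ⟨n, hn⟩ := (IsOfFinOrder.mem_powers_iff_mem_zpowers (isOfFinOrder_of_finite g)).2 hkz
  obtain ⟨-, i, hku, hkv⟩ := id hk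
  have e : (g ^ n) (k u) = k v := by
    show (g ^ n) (k u) = k v
    rw [show g ^ n = k * g' * k⁻¹ from hn, MulAut.mul_apply, MulAut.mul_apply,
      MulAut.inv_apply_self, hg'.map₁]
  rw [hku, hkv, ← hg.map₁, ← MulAut.mul_apply, ← MulAut.mul_apply, ← pow_succ, ← pow_add] at e
  have hn3 : n % 3 = 1 := by
    rcases hg.pow_apply h (n + i) with ⟨hi, p, -⟩ | ⟨hi, p, -⟩ | ⟨hi, p, -⟩ <;>
      rcases hg.pow_apply h (i + 1) with ⟨hj, q, -⟩ | ⟨hj, q, -⟩ | ⟨hj, q, -⟩ <;>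
      rw [p, q] at e <;>
      first
        | omega
        | exact absurd e huv
        | exact absurd e huv.symm
        | exact absurd e h2
        | exact absurd e h3
        | exact absurd e h2.symm
        | exact absurd e h3.symm
  rw [show k * g' * k⁻¹ = g ^ n from hn.symm, ← pow_mod_orderOf, hg.order, hn3, pow_one]

theorem exists_flip (h : TT X) {u v : E} (hu : u ≠ 1) (hv : v ≠ 1) (huv : u ≠ v) :
    ∃ g τ, IsCyc X g u v ∧ τ ∈ X ∧ τ * g * τ⁻¹ ∈ Subgroup.zpowers g ∧ Even (orderOf τ) := by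
  haveI := h.fin
  haveI := finite_mulAut E
  obtain ⟨h1, h2, h3⟩ := h.mul_ne hu hv huv
  obtain ⟨g, hg⟩ := h.exists_cyc hu hv huv
  obtain ⟨τ, hτ, hτu, hτv⟩ := h.trans u v v u hu hv huv hv hu huv.symm
  have hτi : τ⁻¹ u = v ∧ τ⁻¹ v = u :=
    ⟨τ.injective (by rw [MulAut.apply_inv_self, hτv]), τ.injective (by rw [MulAut.apply_inv_self, hτu])⟩
  set c := τ * g * τ⁻¹ with hc
  have hco : orderOf c = 3 := by
    rw [hc, show τ * g * τ⁻¹ = MulAut.conj τ g from rfl, MulEquiv.orderOf_eq, hg.order]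
  have hcu : c u = u * v := by
    simp [hc, MulAut.mul_apply, hτi.1, hg.map₂, map_mul, hτu, hτv, mul_comm]
  have hcv : c v = u := by
    simp [hc, MulAut.mul_apply, hτi.2, hg.map₁, hτv]
  have hcX : c ∈ X := mul_mem (mul_mem hτ hg.mem) (inv_mem hτ)
  have hg' : IsCyc X (c ^ 2) u v := by
    refine ⟨pow_mem hcX 2, ?_, ?_, ?_⟩
    · rw [orderOf_pow' _ two_ne_zero, hco]; rfl
    · rw [pow_two, MulAut.mul_apply, hcu, map_mul, hcu, hcv, mul_comm u v, mul_assoc, h.sq, mul_one]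
    · rw [pow_two, MulAut.mul_apply, hcv, hcu]
  obtain ⟨k, hk, hkg⟩ := h.conj_eq hu hv huv hg hg'
  refine ⟨g, k * τ, hg, mul_mem hk.1 hτ, ?_, ?_⟩
  · have e : (k * τ) * g * (k * τ)⁻¹ = g ^ 2 := by
      have e1 : (k * c * k⁻¹) ^ 2 = g := by rw [conj_pow, hkg]
      have e2 : (k * c * k⁻¹) ^ 3 = 1 := by
        rw [conj_pow, ← hco, pow_orderOf_eq_one, mul_one, mul_inv_cancel]
      rw [show (k * τ) * g * (k * τ)⁻¹ = k * c * k⁻¹ by rw [hc]; group]
      calc k * c * k⁻¹ = (k * c * k⁻¹) ^ 3 * (k * c * k⁻¹) := by rw [e2, one_mul]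
        _ = ((k * c * k⁻¹) ^ 2) ^ 2 := by rw [← pow_succ, ← pow_mul]
        _ = g ^ 2 := by rw [e1]
    rw [e]
    exact Subgroup.npow_mem_zpowers g 2
  · by_contra hodd
    obtain ⟨m, hm⟩ := Nat.not_even_iff_odd.1 hodd
    obtain ⟨-, i, hku, hkv⟩ := hk
    have hsu : (k * τ) u = (g ^ i) v := by rw [MulAut.mul_apply, hτu, hkv]
    have hsv : (k * τ) v = (g ^ i) u := by rw [MulAut.mul_apply, hτv, hku]
    have hs2 : ((k * τ) * (k * τ)) u = u := by
      rw [MulAut.mul_apply, hsu]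
      rcases hg.pow_apply h i with ⟨-, p, q⟩ | ⟨-, p, q⟩ | ⟨-, p, q⟩
      · rw [q, hsv, p]
      · rw [q, map_mul, hsu, hsv, p, q, mul_assoc, h.sq, mul_one]
      · rw [q, hsu, q]
    have hs3 : ∀ n : ℕ, (((k * τ) * (k * τ)) ^ n) u = u := fun n => by
      induction n with
      | zero => simp
      | succ n ih => rw [pow_succ, MulAut.mul_apply, hs2, ih]
    have := hs3 (m + 1)
    rw [← pow_two, ← pow_mul, show 2 * (m + 1) = orderOf (k * τ) + 1 by omega, pow_succ,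
      pow_orderOf_eq_one, one_mul, hsu] at this
    have hv2 := hsv
    rcases hg.pow_apply h i with ⟨-, p, q⟩ | ⟨-, p, q⟩ | ⟨-, p, q⟩
    · exact huv (q ▸ this).symm
    · exact h2 (q ▸ this)
    · have e1 : (k * τ) u = u := by rw [hsu, this]
      have e2 : (k * τ) v = u * v := by rw [hsv, p]
      -- `k τ` fixes `u` and moves `v`, but its square fixes both
      have hs4 : ∀ n : ℕ, (((k * τ) * (k * τ)) ^ n) v = v := fun n => by
        induction n with
        | zero => simp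
        | succ n ih =>
          rw [pow_succ, MulAut.mul_apply, MulAut.mul_apply, e2, map_mul, e1, e2,
            show u * (u * v) = v by rw [← mul_assoc, h.sq, one_mul], ih]
      have e3 := hs4 (m + 1)
      rw [← pow_two, ← pow_mul, show 2 * (m + 1) = orderOf (k * τ) + 1 by omega, pow_succ,
        pow_orderOf_eq_one, one_mul, e2] at e3
      exact h3 e3

end TT

end CfsgLib.Pyramidal12
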