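import Mathlib
import Cfsg.Agent.Pyramidal12.Plane
import Cfsg.Agent.Pyramidal12.NormalThree

/-!
Two-transitive automorphism groups of an elementary abelian two-group in which a non-trivial element
of odd order fixes at most one involution and in which the normalizer of a fixed-point-free element
of order three has odd order: the group is the full automorphism group of a group of order eight.
-/

set_option autoImplicit false

namespace CfsgLib.Pyramidal12

namespace TT

variable {E : Type} [CommGroup E] {X : Subgroup (MulAut E)}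

theorem mod_three (h : TT X) : Nat.card E % 3 = 1 ∨ Nat.card E % 3 = 2 := by
  haveI := h.fin
  have hp : IsPGroup 2 E := fun x => ⟨1, by rw [pow_one, pow_two, h.sq]⟩
  obtain ⟨f, hf⟩ := hp.exists_card_eq
  rw [hf]
  clear hf
  induction f with
  | zero => simp
  | succ n ih => rw [pow_succ, Nat.mul_mod]; rcases ih with e | e <;> simp [e]

theorem exists_two (h : TT X) : ∃ u v : E, u ≠ 1 ∧ v ≠ 1 ∧ u ≠ v := by
  haveI := h.fin
  classical
  letI := Fintype.ofFinite E
  have h4 : 3 ≤ (Finset.univ.erase (1 : E)).card := by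
    rw [Finset.card_erase_of_mem (Finset.mem_univ _), Finset.card_univ, ← Nat.card_eq_fintype_card]
    have := h.four
    omega
  obtain ⟨u, hu, v, hv, huv⟩ := Finset.one_lt_card.1 (show 1 < (Finset.univ.erase (1 : E)).card by omega)
  exact ⟨u, v, (Finset.mem_erase.1 hu).1, (Finset.mem_erase.1 hv).1, huv⟩

theorem exists_other (h : TT X) {v : E} (hv : v ≠ 1) : ∃ w : E, w ≠ 1 ∧ w ≠ v := by
  obtain ⟨a, b, ha, hb, hab⟩ := h.exists_two
  by_cases e : a = v
  · exact ⟨b, hb, fun e' => hab (e.trans e'.symm)⟩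
  · exact ⟨a, ha, e⟩

/-- The fixed points of an element of order three. -/
theorem fix_three (h : TT X) {g : MulAut E} (hg : g ∈ X) (ho : orderOf g = 3) :
    (Nat.card E % 3 = 1 ∧ ∀ w, g w = w → w = 1) ∨
      (Nat.card E % 3 = 2 ∧ ∃ v, v ≠ 1 ∧ g v = v ∧ ∀ w, g w = w → w = 1 ∨ w = v) := by
  haveI := h.fin
  haveI : Fact (Nat.Prime 3) := ⟨Nat.prime_three⟩
  have hS : IsPGroup 3 (Subgroup.zpowers g) :=
    IsPGroup.of_card (n := 1) (by rw [Nat.card_zpowers, ho]; rfl)
  have hmod := hS.card_modEq_card_fixedPoints E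
  set F : Subgroup E := MonoidHom.eqLocus g.toMonoidHom (MonoidHom.id E) with hF
  have hfix : Nat.card (MulAction.fixedPoints (Subgroup.zpowers g) E) = Nat.card F := by
    refine Nat.card_congr (Equiv.subtypeEquivRight fun w => ⟨fun hw => hw ⟨g, Subgroup.mem_zpowers g⟩,
      fun hw => ?_⟩)
    rintro ⟨s, hs⟩
    obtain ⟨i, rfl⟩ := Subgroup.mem_zpowers_iff.1 hs
    exact (Subgroup.zpowers_le (H := MulAction.stabilizer (MulAut E) w)).2 hw
      (Subgroup.zpow_mem_zpowers g i)
  rw [hfix] at hmod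
  by_cases hF1 : ∀ w, g w = w → w = 1
  · refine Or.inl ⟨?_, hF1⟩
    have : F = ⊥ := (Subgroup.eq_bot_iff_forall _).2 fun w hw => hF1 w hw
    rw [this, Subgroup.card_bot] at hmod
    exact hmod
  · push_neg at hF1
    obtain ⟨v, hv, hv1⟩ := hF1
    have huniq : ∀ w, g w = w → w = 1 ∨ w = v := by
      intro w hw
      by_contra hc
      push_neg at hc
      have := h.odd_fix g hg (by rw [ho]; decide) v w hv1 hc.1 hc.2.symm hv hw
      rw [this, orderOf_one] at ho
      norm_num at ho
    refine Or.inr ⟨?_, v, hv1, hv, huniq⟩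
    have : Nat.card F = 2 := by
      refine Nat.card_eq_two_iff.2 ⟨⟨1, one_mem F⟩, ⟨v, hv⟩,
        fun e => hv1 (congrArg Subtype.val e).symm, Set.eq_univ_of_forall fun w => ?_⟩
      rcases huniq w.1 w.2 with r | r
      · exact Or.inl (Subtype.ext r)
      · exact Or.inr (Subtype.ext r)
    rw [this] at hmod
    exact hmod

theorem two_mod (h : TT X) : Nat.card E % 3 = 2 := by
  obtain ⟨u, v, hu, hv, huv⟩ := h.exists_two
  obtain ⟨g, τ, hg, hτ, hn, he⟩ := h.exists_flip hu hv huv
  rcases h.fix_three hg.mem hg.order with ⟨-, hfp⟩ | ⟨h2, -⟩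
  · exact absurd (h.odd_normalizer g hg.mem hg.order hfp τ hτ hn) (Nat.not_odd_iff_even.2 he)
  · exact h2

theorem exists_fix (h : TT X) {g : MulAut E} (hg : g ∈ X) (ho : orderOf g = 3) :
    ∃ v, v ≠ 1 ∧ g v = v ∧ ∀ w, g w = w → w = 1 ∨ w = v := by
  rcases h.fix_three hg ho with ⟨h1, -⟩ | ⟨-, r⟩
  · rw [h.two_mod] at h1; norm_num at h1
  · exact r

/-- The norm of an element of order three. -/
def normThree (g : MulAut E) : E →* E where
  toFun w := w * g w * g (g w)
  map_one' := by simp
  map_mul' a b := by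
    simp only [map_mul]
    simp only [mul_assoc, mul_comm, mul_left_comm]

theorem normThree_apply (g : MulAut E) (w : E) : normThree g w = w * g w * g (g w) := rfl

theorem apply_normThree {g : MulAut E} (ho : orderOf g = 3) (w : E) :
    g (normThree g w) = normThree g w := by
  have h3 : g (g (g w)) = w := by
    have : (g ^ 3) w = w := by rw [← ho, pow_orderOf_eq_one]; rfl
    simpa [pow_succ, MulAut.mul_apply] using this
  rw [normThree_apply, map_mul, map_mul, h3, mul_comm (g w * g (g w)) w, mul_assoc]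

/-- An elation with centre `v`. -/
def IsElation (X : Subgroup (MulAut E)) (v : E) (x : MulAut E) : Prop :=
  x ∈ X ∧ x v = v ∧ ∀ w, x w = w ∨ x w = w * v

theorem IsElation.mul {v : E} {x y : MulAut E} (hv : v * v = 1) (hx : IsElation X v x)
    (hy : IsElation X v y) : IsElation X v (x * y) := by
  refine ⟨mul_mem hx.1 hy.1, by rw [MulAut.mul_apply, hy.2.1, hx.2.1], fun w => ?_⟩
  rw [MulAut.mul_apply]
  rcases hy.2.2 w with r | r <;> rw [r]
  · exact hx.2.2 w
  · rw [map_mul, hx.2.1]
    rcases hx.2.2 w with r' | r' <;> rw [r']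
    · exact Or.inr rfl
    · exact Or.inl (by rw [mul_assoc, hv, mul_one])

theorem exists_elation_moving (h : TT X) {v : E} (hv : v ≠ 1) {x : MulAut E}
    (hx : IsElation X v x) (hx1 : x ≠ 1) {u w : E} (hu : u ≠ 1) (hw : w ≠ 1) (hwu : w ≠ u) :
    ∃ t, IsElation X u t ∧ t w = w * u := by
  haveI := h.fin
  obtain ⟨z, hz⟩ : ∃ z, x z ≠ z := by
    by_contra hc
    push_neg at hc
    exact hx1 (MulEquiv.ext hc)
  have hz1 : z ≠ 1 := fun e => hz (by rw [e, map_one])
  have hzv : z ≠ v := fun e => hz (by rw [e, hx.2.1])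
  obtain ⟨y, hy, hyv, hyz⟩ := h.trans v z u w hv hz1 hzv.symm hu hw hwu.symm
  have e1 : y⁻¹ u = v := y.injective (by rw [MulAut.apply_inv_self, hyv])
  have e2 : y⁻¹ w = z := y.injective (by rw [MulAut.apply_inv_self, hyz])
  refine ⟨y * x * y⁻¹, ⟨mul_mem (mul_mem hy hx.1) (inv_mem hy), ?_, fun a => ?_⟩, ?_⟩
  · rw [MulAut.mul_apply, MulAut.mul_apply, e1, hx.2.1, hyv]
  · rw [MulAut.mul_apply, MulAut.mul_apply]
    rcases hx.2.2 (y⁻¹ a) with r | r <;> rw [r]
    · exact Or.inl (MulAut.apply_inv_self _ y a)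
    · exact Or.inr (by rw [map_mul, MulAut.apply_inv_self, hyv])
  · rw [MulAut.mul_apply, MulAut.mul_apply, e2, (hx.2.2 z).resolve_left hz, map_mul, hyz, hyv]

/-- With an elation the group is the full automorphism group of a group of order eight. -/
theorem full_of_elation (h : TT X) {v : E} (hv : v ≠ 1) {x : MulAut E} (hx : IsElation X v x)
    (hx1 : x ≠ 1) : Nat.card E = 8 ∧ X = ⊤ := by
  haveI := h.fin
  haveI := finite_mulAut E
  obtain ⟨u, w, hu, hw, huw⟩ := h.exists_two
  obtain ⟨h1, h2, h3⟩ := h.mul_ne hu hw huw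
  have hcard : Nat.card E = 8 := by
    by_contra h8
    obtain ⟨t, ht, htw⟩ := h.exists_elation_moving hv hx hx1 hu hw huw.symm
    obtain ⟨s, hs, hsu⟩ := h.exists_elation_moving hv hx hx1 hw hu huw
    -- the common fixed subgroup of `t` and `s` has index at most four
    set A : Subgroup E := MonoidHom.eqLocus t.toMonoidHom (MonoidHom.id E)
    set B : Subgroup E := MonoidHom.eqLocus s.toMonoidHom (MonoidHom.id E)
    have hA : A.index ≤ 2 := by
      let δ : E →* E := t.toMonoidHom * MonoidHom.id E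
      have hker : δ.ker = A := by
        ext a
        show t a * a = 1 ↔ t a = a
        exact ⟨fun e => mul_right_cancel (e.trans (h.sq a).symm), fun e => by rw [e, h.sq]⟩
      rw [← hker, Subgroup.index_ker]
      refine (Nat.card_mono (Set.toFinite ({1, u} : Set E)) ?_).trans (le_of_eq ?_)
      · rintro _ ⟨a, rfl⟩
        show t a * a ∈ ({1, u} : Set E)
        rcases ht.2.2 a with r | r <;> rw [r]
        · exact Or.inl (h.sq a)
        · exact Or.inr (by rw [mul_comm a u, mul_assoc, h.sq, mul_one]; rfl)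
      · rw [Nat.card_coe_set_eq, Set.ncard_pair hu.symm]
    have hB : B.index ≤ 2 := by
      let δ : E →* E := s.toMonoidHom * MonoidHom.id E
      have hker : δ.ker = B := by
        ext a
        show s a * a = 1 ↔ s a = a
        exact ⟨fun e => mul_right_cancel (e.trans (h.sq a).symm), fun e => by rw [e, h.sq]⟩
      rw [← hker, Subgroup.index_ker]
      refine (Nat.card_mono (Set.toFinite ({1, w} : Set E)) ?_).trans (le_of_eq ?_)
      · rintro _ ⟨a, rfl⟩
        show s a * a ∈ ({1, w} : Set E)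
        rcases hs.2.2 a with r | r <;> rw [r]
        · exact Or.inl (h.sq a)
        · exact Or.inr (by rw [mul_comm a w, mul_assoc, h.sq, mul_one]; rfl)
      · rw [Nat.card_coe_set_eq, Set.ncard_pair hw.symm]
    have hAB : (A ⊓ B).index ≤ 4 := Subgroup.index_inf_le.trans (Nat.mul_le_mul hA hB)
    have h16 : 16 ≤ Nat.card E := by
      have hp : IsPGroup 2 E := fun a => ⟨1, by rw [pow_one, pow_two, h.sq]⟩
      obtain ⟨f, hf⟩ := hp.exists_card_eq
      have h4 := h.four
      have h23 := h.two_mod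
      rw [hf] at h4 h8 h23 ⊢
      rcases f with _ | _ | _ | _ | f
      · norm_num at h4
      · norm_num at h4
      · norm_num at h23
      · norm_num at h8
      calc 16 = 2 ^ 4 := by norm_num
        _ ≤ 2 ^ (f + 1 + 1 + 1 + 1) := Nat.pow_le_pow_right (by norm_num) (by omega)
    have h4AB : 4 ≤ Nat.card ↥(A ⊓ B) := by
      have := Subgroup.card_mul_index (A ⊓ B)
      nlinarith
    obtain ⟨a, b, ha, hb, hab⟩ : ∃ a b : ↥(A ⊓ B), a ≠ 1 ∧ b ≠ 1 ∧ a ≠ b := by
      classical
      letI := Fintype.ofFinite ↥(A ⊓ B)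
      obtain ⟨a, ha, b, hb, hab⟩ := Finset.one_lt_card.1
        (show 1 < (Finset.univ.erase (1 : ↥(A ⊓ B))).card by
          rw [Finset.card_erase_of_mem (Finset.mem_univ _), Finset.card_univ,
            ← Nat.card_eq_fintype_card]; omega)
      exact ⟨a, b, (Finset.mem_erase.1 ha).1, (Finset.mem_erase.1 hb).1, hab⟩
    have hfix : ∀ c : ↥(A ⊓ B), (t * s) (c : E) = c := fun c => by
      rw [MulAut.mul_apply, show s (c : E) = c from c.2.2, show t (c : E) = c from c.2.1]
    obtain ⟨n, hn⟩ := h.odd_part (mul_mem ht.1 hs.1) (fun e => ha (Subtype.ext e))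
      (fun e => hb (Subtype.ext e)) (fun e => hab (Subtype.ext e)) (hfix a) (hfix b)
    have q1 : (t * s) u = w := by
      rw [MulAut.mul_apply, hsu, map_mul, ht.2.1, htw, mul_comm w u, ← mul_assoc, h.sq, one_mul]
    have q2 : (t * s) w = u * w := by rw [MulAut.mul_apply, hs.2.1, htw, mul_comm]
    have q3 : (t * s) (u * w) = u := by
      rw [map_mul, q1, q2, mul_comm u w, ← mul_assoc, h.sq, one_mul]
    have hp : ∀ i : ℕ, (i % 3 = 0 ∧ ((t * s) ^ i) u = u) ∨ (i % 3 = 1 ∧ ((t * s) ^ i) u = w) ∨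
        (i % 3 = 2 ∧ ((t * s) ^ i) u = u * w) := by
      intro i
      induction i with
      | zero => simp
      | succ i ih =>
        rw [pow_succ', MulAut.mul_apply]
        rcases ih with ⟨hi, e⟩ | ⟨hi, e⟩ | ⟨hi, e⟩ <;> simp [Nat.add_mod, hi, e, q1, q2, q3]
    have h3n : 2 ^ n % 3 ≠ 0 := fun e =>
      absurd (Nat.prime_three.dvd_of_dvd_pow (Nat.dvd_of_mod_eq_zero e)) (by norm_num)
    have he : ((t * s) ^ 2 ^ n) u = u := by rw [← hn, pow_orderOf_eq_one]; rfl
    rcases hp (2 ^ n) with ⟨hi, -⟩ | ⟨-, e⟩ | ⟨-, e⟩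
    · exact h3n hi
    · exact huw (he.symm.trans e)
    · exact h2 (e.symm.trans he)
  refine ⟨hcard, Subgroup.eq_top_iff' X |>.2 fun α => ?_⟩
  -- the image of the plane
  obtain ⟨y, hy, hyu, hyw⟩ := h.trans u w (α u) (α w) hu hw huw (fun e => hu (by simpa using e))
    (fun e => hw (by simpa using e)) (fun e => huw (α.injective e))
  set β := y⁻¹ * α with hβ
  have hβu : β u = u := by rw [hβ, MulAut.mul_apply, ← hyu, MulAut.inv_apply_self]
  have hβw : β w = w := by rw [hβ, MulAut.mul_apply, ← hyw, MulAut.inv_apply_self]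
  suffices hb : β ∈ X by simpa [hβ] using mul_mem hy hb
  set P := Subgroup.closure ({u, w} : Set E) with hP
  have hPle : ∀ a ∈ P, a = 1 ∨ a = u ∨ a = w ∨ a = u * w := by
    intro a ha
    induction ha using Subgroup.closure_induction with
    | mem a ha => rcases ha with rfl | rfl <;> simp
    | one => simp
    | mul a b _ _ ia ib =>
      have hs : ∀ c d : E, c * (c * d) = d := fun c d => by rw [← mul_assoc, h.sq, one_mul]
      rcases ia with e | e | e | e <;> rcases ib with f | f | f | f <;> rw [e, f] <;>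
        simp [h.sq, hs, mul_comm, mul_left_comm]
    | inv a _ ia =>
      have : a⁻¹ = a := inv_eq_of_mul_eq_one_right (h.sq a)
      rw [this]; exact ia
  obtain ⟨z, hz⟩ : ∃ z : E, z ∉ P := by
    by_contra hc
    push_neg at hc
    have : Nat.card E ≤ 4 := by
      classical
      letI := Fintype.ofFinite E
      rw [Nat.card_eq_fintype_card, ← Finset.card_univ]
      refine (Finset.card_le_card (fun a _ => ?_ : Finset.univ ⊆ {1, u, w, u * w})).trans
        Finset.card_le_four
      simpa using hPle a (hc a)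
    omega
  have hzu : z ≠ u := fun e => hz (e ▸ Subgroup.subset_closure (Or.inl rfl))
  have hzw : z ≠ w := fun e => hz (e ▸ Subgroup.subset_closure (Or.inr rfl))
  have hz1 : z ≠ 1 := fun e => hz (e ▸ one_mem P)
  -- elations fixing the plane
  have key : ∀ a b : E, a ≠ 1 → b ≠ 1 → a ≠ b → z ≠ a → z * b ≠ a → z * b ≠ 1 →
      ∃ t, IsElation X a t ∧ t b = b ∧ t z = z * a := by
    intro a b ha hb hab hza hzba hzb1
    obtain ⟨t₁, ht₁, e₁⟩ := h.exists_elation_moving hv hx hx1 ha hz1 hza
    rcases ht₁.2.2 b with r | r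
    · exact ⟨t₁, ht₁, r, e₁⟩
    obtain ⟨t₂, ht₂, e₂⟩ := h.exists_elation_moving hv hx hx1 ha hzb1 hzba
    rw [map_mul] at e₂
    rcases ht₂.2.2 b with r₂ | r₂
    · refine ⟨t₂, ht₂, r₂, mul_right_cancel (b := b) ?_⟩
      rw [r₂] at e₂
      rw [e₂, mul_right_comm]
    · have e₃ : t₂ z = z := by
        rw [r₂] at e₂
        refine mul_right_cancel (b := b * a) ?_
        rw [e₂, mul_assoc]
      refine ⟨t₁ * t₂, ht₁.mul (h.sq a) ht₂, ?_, ?_⟩
      · rw [MulAut.mul_apply, r₂, map_mul, r, ht₁.2.1, mul_assoc, h.sq, mul_one]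
      · rw [MulAut.mul_apply, e₃, e₁]
  have hzP : ∀ b ∈ P, z * b ∉ P := fun b hb hc => hz (by simpa [mul_assoc, h.sq] using mul_mem hc hb)
  have huP : u ∈ P := Subgroup.subset_closure (Or.inl rfl)
  have hwP : w ∈ P := Subgroup.subset_closure (Or.inr rfl)
  obtain ⟨t, ht, htw, htz⟩ := key u w hu hw huw hzu (fun e => hzP w hwP (e ▸ huP))
    (fun e => hzP w hwP (e ▸ one_mem P))
  obtain ⟨s, hs, hsu, hsz⟩ := key w u hw hu huw.symm hzw (fun e => hzP u huP (e ▸ hwP))
    (fun e => hzP u huP (e ▸ one_mem P))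
  -- `P` has index two
  have hidx : P.index = 2 := by
    have h4 : Nat.card P = 4 := by
      refine le_antisymm ?_ ?_
      · classical
        letI := Fintype.ofFinite P
        rw [Nat.card_eq_fintype_card, ← Finset.card_univ, ← Finset.card_map ⟨Subtype.val, Subtype.val_injective⟩]
        refine (Finset.card_le_card (fun a ha => ?_ : _ ⊆ ({1, u, w, u * w} : Finset E))).trans
          Finset.card_le_four
        obtain ⟨b, -, rfl⟩ := Finset.mem_map.1 ha
        simpa using hPle b.1 b.2
      · classical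
        letI := Fintype.ofFinite P
        rw [Nat.card_eq_fintype_card, ← Finset.card_univ]
        refine le_trans (le_of_eq ?_) (Finset.card_le_card (Finset.subset_univ
          ({1, ⟨u, huP⟩, ⟨w, hwP⟩, ⟨u * w, mul_mem huP hwP⟩} : Finset P)))
        rw [Finset.card_insert_of_notMem (by simp [Subtype.ext_iff, hu.symm, hw.symm, h1.symm]),
          Finset.card_insert_of_notMem (by simp [Subtype.ext_iff, huw, h2.symm]),
          Finset.card_insert_of_notMem (by simp [Subtype.ext_iff, h3.symm]), Finset.card_singleton]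
    have := Subgroup.card_mul_index P
    rw [h4] at this
    omega
  have hβz : β z ∉ P := fun hc => hz (by
    have hβP : ∀ a ∈ P, β a = a := by
      intro a ha
      rcases hPle a ha with rfl | rfl | rfl | rfl <;> simp [map_mul, hβu, hβw]
    exact β.injective (hβP _ hc) ▸ hc)
  have hd : β z * z ∈ P := (Subgroup.mul_mem_iff_of_index_two hidx).2 (iff_of_false hβz hz)
  -- an element of `X` agreeing with `β`
  obtain ⟨γ, hγ, hγu, hγw, hγz⟩ : ∃ γ ∈ X, γ u = u ∧ γ w = w ∧ γ z = β z := by
    have eβ : β z = (β z * z) * z := by rw [mul_assoc, h.sq, mul_one]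
    rcases hPle _ hd with r | r | r | r
    · exact ⟨1, one_mem X, rfl, rfl, by rw [eβ, r, one_mul]; rfl⟩
    · exact ⟨t, ht.1, ht.2.1, htw, by rw [htz, eβ, r, mul_comm]⟩
    · exact ⟨s, hs.1, hsu, hs.2.1, by rw [hsz, eβ, r, mul_comm]⟩
    · refine ⟨t * s, mul_mem ht.1 hs.1, by rw [MulAut.mul_apply, hsu, ht.2.1],
        by rw [MulAut.mul_apply, hs.2.1, htw], ?_⟩
      rw [MulAut.mul_apply, hsz, map_mul, htz, htw, eβ, r, mul_assoc, mul_comm]
  suffices γ = β from this ▸ hγ
  refine MulEquiv.ext fun a => ?_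
  have hspan : ∀ a, a ∈ P ∨ a * z ∈ P := fun a => by
    by_cases ha : a ∈ P
    · exact Or.inl ha
    · exact Or.inr ((Subgroup.mul_mem_iff_of_index_two hidx).2 (iff_of_false ha hz))
  have heq : ∀ a ∈ P, γ a = β a := by
    intro a ha
    rcases hPle a ha with rfl | rfl | rfl | rfl <;> simp [map_mul, hβu, hβw, hγu, hγw]
  rcases hspan a with ha | ha
  · exact heq a ha
  · have := heq _ ha
    rw [map_mul, map_mul, hγz] at this
    exact mul_right_cancel this

theorem stabilizer_mem {v : E} {x : MulAut E} :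
    x ∈ X ⊓ MulAction.stabilizer (MulAut E) v ↔ x ∈ X ∧ x v = v := Iff.rfl

/-- Without elations the order-three subgroups fixing a point are normal in the stabilizer. -/
theorem normal_of_no_elation (h : TT X)
    (hno : ∀ v : E, v ≠ 1 → ∀ x, IsElation X v x → x = 1) {g : MulAut E} (hg : g ∈ X)
    (ho : orderOf g = 3) {v : E} (hv : v ≠ 1) (hgv : g v = v)
    (huniq : ∀ w, g w = w → w = 1 ∨ w = v) :
    ∀ a ∈ X, a v = v → a * g * a⁻¹ ∈ Subgroup.zpowers g := by
  haveI := h.fin
  haveI := finite_mulAut E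
  set G := X ⊓ MulAction.stabilizer (MulAut E) v with hG
  have hfix : ∀ x ∈ G, orderOf x = 3 → ∀ w, x w = w → w = 1 ∨ w = v := by
    intro x hx hx3 w hw
    obtain ⟨v', hv', hxv', hu'⟩ := h.exists_fix hx.1 hx3
    rcases hu' v hx.2 with r | r
    · exact absurd r hv
    · exact r ▸ hu' w hw
  -- commuting elements of order three
  have hU : UniqThree G := by
    intro a b ha hb hab
    rw [← Subgroup.orderOf_coe] at ha hb
    by_contra hne
    have hab' : Commute (a : MulAut E) b := congrArg Subtype.val hab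
    have ha3 : (a : MulAut E) ^ 3 = 1 := by rw [← ha, pow_orderOf_eq_one]
    have hb3 : (b : MulAut E) ^ 3 = 1 := by rw [← hb, pow_orderOf_eq_one]
    have hnz : ∀ i : ℕ, (b : MulAut E) ≠ (a : MulAut E) ^ i := fun i e =>
      hne (Subgroup.mem_zpowers_iff.2 ⟨i, Subtype.ext (by simpa using e.symm)⟩)
    have hc : ∀ j, j = 1 ∨ j = 2 → orderOf ((a : MulAut E) * (b : MulAut E) ^ j) = 3 := by
      intro j hj
      refine orderOf_eq_prime ?_ fun e => ?_
      · rw [(hab'.pow_right j).mul_pow, ha3, ← pow_mul, mul_comm j, pow_mul, hb3, one_pow, one_mul]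
      · have e' := eq_inv_of_mul_eq_one_right e
        rcases hj with rfl | rfl
        · refine hnz 2 ?_
          rw [pow_one] at e'
          rw [e', inv_eq_iff_mul_eq_one, ← pow_succ', ha3]
        · refine hnz 1 ?_
          calc (b : MulAut E) = ((b : MulAut E) ^ 2) ^ 2 := by
                rw [← pow_mul, show 2 * 2 = 3 + 1 from rfl, pow_succ, hb3, one_mul]
            _ = _ := by
                rw [e', inv_pow, inv_eq_iff_mul_eq_one, ← pow_add, show 2 + 1 = 3 from rfl, ha3]
    have hN : ∀ x ∈ G, orderOf x = 3 → ∀ w, normThree x w = 1 ∨ normThree x w = v :=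
      fun x hx hx3 w => hfix x hx hx3 _ (apply_normThree hx3 w)
    have hW : ∀ w : E, w = 1 ∨ w = v := by
      intro w
      have p1 := hN a a.2 ha w
      have p2 := hN b b.2 hb w
      have p3 := hN _ (mul_mem a.2 (pow_mem b.2 1)) (hc 1 (Or.inl rfl)) w
      have p4 := hN _ (mul_mem a.2 (pow_mem b.2 2)) (hc 2 (Or.inr rfl)) w
      have p5 : normThree (a : MulAut E) (normThree (b : MulAut E) w) = 1 ∨
          normThree (a : MulAut E) (normThree (b : MulAut E) w) = v :=
        hN a a.2 ha _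
      set A := (a : MulAut E) with hA
      set B := (b : MulAut E) with hB
      have cm : ∀ z, B (A z) = A (B z) := fun z => by
        rw [← MulAut.mul_apply, hab'.eq.symm, MulAut.mul_apply]
      have b4 : ∀ z, B (B (B z)) = z := fun z => by
        have : (B ^ 3) z = z := by rw [hb3]; rfl
        simpa [pow_succ, MulAut.mul_apply] using this
      have key : normThree A w * normThree B w * normThree (A * B ^ 1) w * normThree (A * B ^ 2) w =
          w * w * w * normThree A (normThree B w) := by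
        simp only [normThree_apply, MulAut.mul_apply, pow_two, pow_one, map_mul, cm, b4]
        simp only [mul_assoc, mul_comm, mul_left_comm]
      have hw3 : w * w * w = w := by rw [h.sq, one_mul]
      rw [hw3] at key
      have hw : w = normThree A w * normThree B w * normThree (A * B ^ 1) w *
          normThree (A * B ^ 2) w * normThree A (normThree B w) := by
        rw [key, mul_assoc, h.sq, mul_one]
      let V : Subgroup E := Subgroup.zpowers v
      have hV : ∀ z, (z = 1 ∨ z = v) → z ∈ V := by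
        rintro z (rfl | rfl)
        · exact one_mem _
        · exact Subgroup.mem_zpowers _
      have : w ∈ V := hw ▸ mul_mem (mul_mem (mul_mem (mul_mem (hV _ p1) (hV _ p2)) (hV _ p3)) (hV _ p4)) (hV _ p5)
      obtain ⟨n, rfl⟩ := (IsOfFinOrder.mem_powers_iff_mem_zpowers (isOfFinOrder_of_finite v)).2 this
      rcases Nat.even_or_odd' n with ⟨k, rfl | rfl⟩
      · exact Or.inl (show v ^ (2 * k) = 1 by rw [pow_mul, pow_two, h.sq, one_pow])
      · exact Or.inr (show v ^ (2 * k + 1) = v by rw [pow_succ, pow_mul, pow_two, h.sq, one_pow, one_mul])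
    obtain ⟨w, hw1, hwv⟩ := h.exists_other hv
    rcases hW w with r | r
    exacts [hw1 r, hwv r]
  -- the group has no normal 2-subgroup
  have hO2 : ∀ N : Subgroup G, N.Normal → IsPGroup 2 N → N = ⊥ := by
    intro N hN hp
    set V : Subgroup E := Subgroup.zpowers v with hV
    have hVmap : ∀ x : G, V.map ((x : MulAut E).toMonoidHom) = V := fun x => by
      rw [hV, MonoidHom.map_zpowers]
      exact congrArg Subgroup.zpowers x.2.2
    let ρ : G →* MulAut (E ⧸ V) :=
      { toFun := fun x => QuotientGroup.congr V V (x : MulAut E) (hVmap x)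
        map_one' := by
          ext q
          induction q using QuotientGroup.induction_on with | _ a => rfl
        map_mul' := fun x y => by
          ext q
          induction q using QuotientGroup.induction_on with | _ a => rfl }
    letI : MulAction N (E ⧸ V) := MulAction.compHom _ (ρ.comp N.subtype)
    have hmod := hp.card_modEq_card_fixedPoints (E ⧸ V)
    have heven : 2 ∣ Nat.card (E ⧸ V) := by
      have hc := Subgroup.card_eq_card_quotient_mul_card_subgroup V
      rw [hV, Nat.card_zpowers, orderOf_eq_prime (by rw [pow_two]; exact h.sq v) hv] at hc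
      have hp2 : IsPGroup 2 E := fun a => ⟨1, by rw [pow_one, pow_two, h.sq]⟩
      obtain ⟨f, hf⟩ := hp2.exists_card_eq
      have h4 := h.four
      rw [hf] at hc h4
      rcases f with _ | _ | f <;> norm_num at h4
      refine ⟨2 ^ f, ?_⟩
      rw [pow_succ, pow_succ] at hc
      show Nat.card (E ⧸ Subgroup.zpowers v) = _
      omega
    have hev : 2 ∣ Nat.card (MulAction.fixedPoints N (E ⧸ V)) :=
      Nat.modEq_zero_iff_dvd.1 (hmod.symm.trans (Nat.modEq_zero_iff_dvd.2 heven))
    obtain ⟨q, hq, hq1⟩ : ∃ q ∈ MulAction.fixedPoints N (E ⧸ V), q ≠ 1 := by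
      by_contra hc
      push_neg at hc
      have : MulAction.fixedPoints N (E ⧸ V) = {1} :=
        Set.eq_singleton_iff_unique_mem.2 ⟨fun n => map_one (ρ n.1), fun q hq => hc q hq⟩
      rw [this, Nat.card_coe_set_eq, Set.ncard_singleton] at hev
      norm_num at hev
    obtain ⟨u, rfl⟩ := QuotientGroup.mk_surjective q
    have hu1 : u ≠ 1 := fun e => hq1 (by rw [e]; rfl)
    have huv : u ≠ v := fun e => hq1 ((QuotientGroup.eq_one_iff u).2 (e ▸ Subgroup.mem_zpowers v))
    refine (Subgroup.eq_bot_iff_forall _).2 fun n hn => Subtype.ext (hno v hv _ ⟨n.2.1, n.2.2, ?_⟩)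
    intro w
    rcases eq_or_ne w 1 with rfl | hw1
    · exact Or.inl (map_one _)
    rcases eq_or_ne w v with rfl | hwv
    · exact Or.inl n.2.2
    obtain ⟨y, hy, hyv, hyu⟩ := h.trans v u v w hv hu1 huv.symm hv hw1 hwv.symm
    have hyG : y ∈ G := ⟨hy, hyv⟩
    have hn' : (⟨y, hyG⟩ : G)⁻¹ * n * ⟨y, hyG⟩ ∈ N := by
      simpa using hN.conj_mem n hn (⟨y, hyG⟩ : G)⁻¹
    have e : ((y⁻¹ * (n : MulAut E) * y) u : E ⧸ V) = (u : E ⧸ V) := hq ⟨_, hn'⟩
    have e2 : ((n : MulAut E) w)⁻¹ * w ∈ V := by
      have := (QuotientGroup.eq).1 e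
      rw [MulAut.mul_apply, MulAut.mul_apply, hyu] at this
      have h2 : y ((y⁻¹ ((n : MulAut E) w))⁻¹ * u) ∈ V.map y.toMonoidHom := ⟨_, this, rfl⟩
      rw [map_mul, map_inv, MulAut.apply_inv_self, hyu, hVmap ⟨y, hyG⟩] at h2
      exact h2
    obtain ⟨i, hi⟩ := (IsOfFinOrder.mem_powers_iff_mem_zpowers (isOfFinOrder_of_finite v)).2 e2
    have hi' : (n : MulAut E) w = w * (v ^ i)⁻¹ := by
      rw [show v ^ i = ((n : MulAut E) w)⁻¹ * w from hi]
      rw [mul_inv_rev, inv_inv, ← mul_assoc, mul_inv_cancel, one_mul]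
    rcases Nat.even_or_odd' i with ⟨k, rfl | rfl⟩
    · left; rw [hi', pow_mul, pow_two, h.sq, one_pow, inv_one, mul_one]
    · right
      rw [hi', pow_succ, pow_mul, pow_two, h.sq, one_pow, one_mul,
        inv_eq_of_mul_eq_one_right (h.sq v)]
  -- the centralizer of `g` is transitive on the elements of norm one
  set gG : G := ⟨g, hg, hgv⟩ with hgG
  set C := Subgroup.centralizer ({gG} : Set G) with hC
  letI : MulAction G E := MulAction.compHom _ G.subtype
  have htrans : ∀ u u' : E, normThree g u = 1 → u ≠ 1 → normThree g u' = 1 → u' ≠ 1 →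
      ∃ x ∈ C, x • u = u' := by
    intro u u' hu hu1 hu' hu1'
    have hcyc : ∀ z, normThree g z = 1 → z ≠ 1 → IsCyc X g z (g z) ∧ z ≠ g z := by
      intro z hz hz1
      have hne : z ≠ g z := fun e => by
        rw [normThree_apply, ← e, ← e, h.sq, one_mul] at hz
        exact hz1 hz
      refine ⟨⟨hg, ho, rfl, ?_⟩, hne⟩
      rw [normThree_apply] at hz
      rw [← inv_eq_of_mul_eq_one_right hz, mul_inv_rev, inv_eq_of_mul_eq_one_right (h.sq z),
        inv_eq_of_mul_eq_one_right (h.sq (g z)), mul_comm]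
    obtain ⟨hc1, hne⟩ := hcyc u hu hu1
    obtain ⟨hc2, hne'⟩ := hcyc u' hu' hu1'
    have hgu : g u ≠ 1 := fun e => hu1 (by simpa using e)
    have hgu' : g u' ≠ 1 := fun e => hu1' (by simpa using e)
    obtain ⟨x, hx, hxu, hxg⟩ := h.trans u (g u) u' (g u') hu1 hgu hne hu1' hgu' hne'
    have e1 : x⁻¹ u' = u := x.injective (by rw [MulAut.apply_inv_self, hxu])
    have e2 : x⁻¹ (g u') = g u := x.injective (by rw [MulAut.apply_inv_self, hxg])
    have hg'cyc : IsCyc X (x * g * x⁻¹) u' (g u') := by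
      refine ⟨mul_mem (mul_mem hx hg) (inv_mem hx), ?_, ?_, ?_⟩
      · rw [show x * g * x⁻¹ = MulAut.conj x g from rfl, MulEquiv.orderOf_eq, ho]
      · rw [MulAut.mul_apply, MulAut.mul_apply, e1, hxg]
      · rw [MulAut.mul_apply, MulAut.mul_apply, e2, hc1.map₂, map_mul, hxu, hxg]
    obtain ⟨k, hk, hkg⟩ := h.conj_eq hu1' hgu' hne' hc2 hg'cyc
    obtain ⟨i, hi, -⟩ := hk.2
    set c := (g ^ i)⁻¹ * (k * x) with hc
    have hcc : c * g = g * c := by
      have h1 : k * x * g = g * (k * x) := by
        conv_rhs => rw [← hkg]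
        group
      have h2 : (g ^ i)⁻¹ * g = g * (g ^ i)⁻¹ := ((Commute.self_pow g i).inv_right).eq.symm
      rw [hc, mul_assoc, h1, ← mul_assoc, h2, mul_assoc]
    have hcv : c v = v := by
      have : g (c v) = c v := by rw [← MulAut.mul_apply, ← hcc, MulAut.mul_apply, hgv]
      rcases huniq _ this with r | r
      · exact absurd (c.injective (r.trans (map_one c).symm)) hv
      · exact r
    refine ⟨⟨c, X.mul_mem (X.inv_mem (X.pow_mem hg i)) (X.mul_mem hk.1 hx), hcv⟩,
      Subgroup.mem_centralizer_singleton_iff.2 (Subtype.ext hcc), ?_⟩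
    show c u = u'
    rw [hc, MulAut.mul_apply, MulAut.mul_apply, hxu, hi, MulAut.inv_apply_self]
  -- counting
  set Ω := (normThree g).ker with hΩ
  have hrange : (normThree g).range = Subgroup.zpowers v := by
    refine le_antisymm ?_ (Subgroup.zpowers_le.2 ⟨v, ?_⟩)
    · rintro _ ⟨w, rfl⟩
      rcases huniq _ (apply_normThree ho w) with r | r <;> rw [r]
      · exact one_mem _
      · exact Subgroup.mem_zpowers v
    · rw [normThree_apply, hgv, hgv, h.sq, one_mul]
  have hΩcard : Nat.card E = 2 * Nat.card Ω := by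
    rw [Subgroup.card_eq_card_quotient_mul_card_subgroup Ω,
      Nat.card_congr (QuotientGroup.quotientKerEquivRange (normThree g)).toEquiv, hrange,
      Nat.card_zpowers, orderOf_eq_prime (by rw [pow_two]; exact h.sq v) hv]
  obtain ⟨u₀, hu₀, hu₀1⟩ : ∃ u, normThree g u = 1 ∧ u ≠ 1 := by
    have : 1 < Nat.card Ω := by have := h.four; omega
    haveI := Finite.one_lt_card_iff_nontrivial.1 this
    obtain ⟨⟨u, hu⟩, hne⟩ := exists_ne (1 : Ω)
    exact ⟨u, hu, fun e => hne (Subtype.ext e)⟩
  have horbC : Nat.card (MulAction.orbit C u₀) = Nat.card Ω - 1 := by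
    have : MulAction.orbit C u₀ = (Ω : Set E) \ {1} := by
      ext w
      constructor
      · rintro ⟨c, rfl⟩
        refine ⟨?_, fun e => hu₀1 ((c.1.1).injective ((e : (c.1.1) u₀ = 1).trans (map_one _).symm))⟩
        show normThree g ((c.1.1) u₀) = 1
        have hc : (c.1.1) * g = g * (c.1.1) :=
          congrArg Subtype.val (Subgroup.mem_centralizer_singleton_iff.1 c.2)
        have e : ∀ z, g ((c.1.1) z) = (c.1.1) (g z) := fun z => by
          rw [← MulAut.mul_apply, ← hc, MulAut.mul_apply]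
        rw [normThree_apply, e, e, ← map_mul, ← map_mul, ← normThree_apply, hu₀, map_one]
      · rintro ⟨hw, hw1⟩
        obtain ⟨x, hx, hxu⟩ := htrans u₀ w hu₀ hu₀1 hw hw1
        exact ⟨⟨x, hx⟩, hxu⟩
    rw [this, Nat.card_coe_set_eq, Set.ncard_sdiff_singleton_of_mem (one_mem Ω),
      ← Nat.card_coe_set_eq]
    rfl
  have horbG : Nat.card (MulAction.orbit G u₀) = 2 * (Nat.card Ω - 1) := by
    have hu₀v : u₀ ≠ v := fun e => by
      rw [e, normThree_apply, hgv, hgv, h.sq, one_mul] at hu₀
      exact hv hu₀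
    have : MulAction.orbit G u₀ = (Set.univ : Set E) \ {1, v} := by
      ext w
      constructor
      · rintro ⟨x, rfl⟩
        refine ⟨trivial, ?_⟩
        rintro (e | e)
        · exact hu₀1 ((x : MulAut E).injective ((e : (x : MulAut E) u₀ = 1).trans (map_one _).symm))
        · exact hu₀v ((x : MulAut E).injective ((e : (x : MulAut E) u₀ = v).trans x.2.2.symm))
      · rintro ⟨-, hw⟩
        simp only [Set.mem_insert_iff, Set.mem_singleton_iff, not_or] at hw
        obtain ⟨x, hx, hxv, hxu⟩ := h.trans v u₀ v w hv hu₀1 hu₀v.symm hv hw.1 (Ne.symm hw.2)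
        exact ⟨⟨x, hx, hxv⟩, hxu⟩
    rw [this, Nat.card_coe_set_eq, Set.ncard_sdiff (Set.subset_univ _) (Set.toFinite _),
      Set.ncard_pair hv.symm, Set.ncard_univ, hΩcard, Nat.mul_sub_one]
  obtain ⟨a, ha⟩ : ∃ a, Nat.card (MulAction.stabilizer G u₀) = 2 ^ a := by
    refine IsPGroup.exists_card_eq (p := 2) fun s => ?_
    have hu₀v : u₀ ≠ v := fun e => by
      rw [e, normThree_apply, hgv, hgv, h.sq, one_mul] at hu₀
      exact hv hu₀
    obtain ⟨n, hn⟩ := h.odd_part s.1.2.1 hu₀1 hv hu₀v s.2 s.1.2.2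
    exact ⟨n, by rw [← hn, Subgroup.orderOf_coe, Subgroup.orderOf_coe, pow_orderOf_eq_one]⟩
  have hG' : Nat.card (MulAction.orbit G u₀) * Nat.card (MulAction.stabilizer G u₀) = Nat.card G := by
    rw [Nat.card_congr (MulAction.orbitEquivQuotientStabilizer G u₀),
      ← Subgroup.card_eq_card_quotient_mul_card_subgroup]
  have hC' : Nat.card (MulAction.orbit C u₀) * Nat.card (MulAction.stabilizer C u₀) = Nat.card C := by
    rw [Nat.card_congr (MulAction.orbitEquivQuotientStabilizer C u₀),
      ← Subgroup.card_eq_card_quotient_mul_card_subgroup]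
  rw [horbG, ha] at hG'
  rw [horbC] at hC'
  have hidx : C.index ∣ 2 ^ (a + 1) := by
    have e := Subgroup.card_mul_index C
    rw [← hG', ← hC'] at e
    have hpos : 0 < Nat.card Ω - 1 := by
      have := h.four; omega
    refine ⟨Nat.card (MulAction.stabilizer C u₀), Nat.eq_of_mul_eq_mul_left hpos ?_⟩
    calc (Nat.card Ω - 1) * 2 ^ (a + 1) = 2 * (Nat.card Ω - 1) * 2 ^ a := by ring
      _ = _ := by rw [← e]; ring
  have hnorm := normal_zpowers_three hU hO2 (g := gG) (by rw [← Subgroup.orderOf_coe]; exact ho) hidx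
  intro a haX hav
  obtain ⟨i, hi⟩ := Subgroup.mem_zpowers_iff.1
    (hnorm.conj_mem gG (Subgroup.mem_zpowers gG) ⟨a, haX, hav⟩)
  exact Subgroup.mem_zpowers_iff.2 ⟨i, by simpa [hgG] using congrArg Subtype.val hi⟩

/-- **The main theorem on the two-transitive groups.** -/
theorem card_eq_eight (h : TT X) : Nat.card E = 8 ∧ X = ⊤ := by
  haveI := h.fin
  haveI := finite_mulAut E
  by_cases hel : ∃ v : E, v ≠ 1 ∧ ∃ x, IsElation X v x ∧ x ≠ 1
  · obtain ⟨v, hv, x, hx, hx1⟩ := hel
    exact h.full_of_elation hv hx hx1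
  push_neg at hel
  exfalso
  obtain ⟨u, w, hu, hw, huw⟩ := h.exists_two
  obtain ⟨g₀, τ, hg₀, hτ, -, heven⟩ := h.exists_flip hu hw huw
  obtain ⟨k, hk⟩ := heven
  set a := τ ^ k with ha
  have hk0 : k ≠ 0 := fun e => by
    have := orderOf_pos τ
    rw [hk, e] at this
    omega
  have ha1 : a ≠ 1 := fun e => by
    have := Nat.le_of_dvd (Nat.pos_of_ne_zero hk0) (orderOf_dvd_of_pow_eq_one e)
    omega
  have haa : a * a = 1 := by rw [ha, ← pow_add, ← hk, pow_orderOf_eq_one]
  have haX : a ∈ X := pow_mem hτ k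
  obtain ⟨z, hz⟩ : ∃ z, a z ≠ z := by
    by_contra hc
    push_neg at hc
    exact ha1 (MulEquiv.ext hc)
  set v := z * a z with hv
  have hv1 : v ≠ 1 := fun e => hz (mul_left_cancel (e.trans (h.sq z).symm))
  have hav : a v = v := by
    rw [hv, map_mul, ← MulAut.mul_apply, haa, MulAut.one_apply, mul_comm]
  obtain ⟨v', hv', hg₀v, -⟩ := h.exists_fix hg₀.mem hg₀.order
  -- an element of order three fixing `v`
  obtain ⟨y, hy, hyv⟩ : ∃ y ∈ X, y v' = v := by
    rcases eq_or_ne v' v with r | r
    · exact ⟨1, one_mem X, r⟩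
    · obtain ⟨w', hw'1, hw'⟩ := h.exists_other hv'
      obtain ⟨w'', hw''1, hw''⟩ := h.exists_other hv1
      obtain ⟨y, hy, h1, -⟩ := h.trans v' w' v w'' hv' hw'1 hw'.symm hv1 hw''1 hw''.symm
      exact ⟨y, hy, h1⟩
  set g := y * g₀ * y⁻¹ with hg
  have hgX : g ∈ X := mul_mem (mul_mem hy hg₀.mem) (inv_mem hy)
  have hgo : orderOf g = 3 := by
    rw [hg, show y * g₀ * y⁻¹ = MulAut.conj y g₀ from rfl, MulEquiv.orderOf_eq, hg₀.order]
  have hgv : g v = v := by
    rw [hg, MulAut.mul_apply, MulAut.mul_apply, show y⁻¹ v = v' from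
      y.injective (by rw [MulAut.apply_inv_self, hyv]), hg₀v, hyv]
  obtain ⟨v'', -, hgv'', hu''⟩ := h.exists_fix hgX hgo
  have hvv : v = v'' := (hu'' v hgv).resolve_left hv1
  have hn := h.normal_of_no_elation hel hgX hgo hv1 hgv (fun x hx => hvv ▸ hu'' x hx) a haX hav
  obtain ⟨n, hn'⟩ := (IsOfFinOrder.mem_powers_iff_mem_zpowers (isOfFinOrder_of_finite g)).2 hn
  have hn3 : g ^ n = g ^ (n % 3) := by rw [← pow_mod_orderOf, hgo]
  have hcommN : ∀ x, normThree g (a x) = a (normThree g x) := by
    intro x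
    have hga : g * a = a * g ^ n := by
      rw [show g ^ n = a * g * a⁻¹ from hn']
      rw [show a⁻¹ = a from inv_eq_of_mul_eq_one_right haa, ← mul_assoc, ← mul_assoc, haa, one_mul]
    rw [hn3] at hga
    have g3 : ∀ z, g (g (g z)) = z := fun z => by
      have : (g ^ 3) z = z := by rw [← hgo, pow_orderOf_eq_one]; rfl
      simpa [pow_succ, MulAut.mul_apply] using this
    have e : ∀ z, g (a z) = a ((g ^ (n % 3)) z) := fun z => by
      rw [← MulAut.mul_apply, hga, MulAut.mul_apply]
    rcases (show n % 3 = 0 ∨ n % 3 = 1 ∨ n % 3 = 2 by omega) with r | r | r <;> rw [r] at e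
    · exfalso
      have : g = 1 := MulEquiv.ext fun z => by
        have := e (a⁻¹ z)
        simpa using this
      rw [this, orderOf_one] at hgo
      norm_num at hgo
    · simp only [pow_one] at e
      rw [normThree_apply, normThree_apply, e, e, map_mul, map_mul]
    · simp only [pow_two, MulAut.mul_apply] at e
      rw [normThree_apply, normThree_apply, e, e, g3, map_mul, map_mul]
      exact mul_right_comm _ _ _
  have hN : ∀ x, normThree g x = 1 ∨ normThree g x = v := fun x => by
    rcases hu'' _ (apply_normThree hgo x) with r | r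
    · exact Or.inl r
    · exact Or.inr (r.trans hvv.symm)
  have e1 : normThree g v = v := by rw [normThree_apply, hgv, hgv, h.sq, one_mul]
  have e2 : normThree g v = 1 := by
    rw [hv, map_mul, hcommN]
    rcases hN z with r | r <;> rw [r]
    · simp
    · rw [hav, h.sq]
  exact hv1 (e1.symm.trans e2)

end TT

end CfsgLib.Pyramidal12
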