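import Mathlib
import Cfsg.Agent.Pyramidal12.TwoTrans
import Cfsg.Agent.Pyramidal12.L32Abelian
import Cfsg.Agent.Pyramidal12.QFormMain
import Cfsg.Agent.SuzukiSolv.Elementary

/-!
No finite group has an elementary abelian normal subgroup of order at least four containing all its
involutions on whose involutions it acts doubly transitively.
-/

set_option autoImplicit false
set_option synthInstance.maxSize 1024

namespace CfsgLib.Pyramidal12

open IsMulCommutative

/-- The involutions of the group, with the identity, form the normal subgroup `W`. -/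
structure Pyr {Γ : Type} [Group Γ] (W : Subgroup Γ) : Prop where
  normal : W.Normal
  mem_iff : ∀ x : Γ, x ∈ W ↔ x * x = 1

/-- Double transitivity on the involutions. -/
def Trans2 {Γ : Type} [Group Γ] (W : Subgroup Γ) : Prop :=
  ∀ u v u' v' : Γ, u ∈ W → v ∈ W → u' ∈ W → v' ∈ W → u ≠ 1 → v ≠ 1 → u ≠ v →
    u' ≠ 1 → v' ≠ 1 → u' ≠ v' → ∃ h : Γ, h * u * h⁻¹ = u' ∧ h * v * h⁻¹ = v'

namespace Pyr

variable {Γ : Type} [Group Γ] [Finite Γ] {W : Subgroup Γ}

theorem sub (h : Pyr W) (N : Subgroup Γ) : Pyr (W.subgroupOf N) where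
  normal := by haveI := h.normal; infer_instance
  mem_iff x := by
    rw [Subgroup.mem_subgroupOf, h.mem_iff]
    exact ⟨fun e => Subtype.ext e, fun e => congrArg Subtype.val e⟩

theorem comm (h : Pyr W) : IsMulCommutative W := ⟨⟨fun a b => Subtype.ext (by
  have ha := (h.mem_iff a).1 a.2
  have hb := (h.mem_iff b).1 b.2
  have hab := (h.mem_iff _).1 (W.mul_mem a.2 b.2)
  calc (a : Γ) * b = (a : Γ) * b * (((b : Γ) * b) * 1) := by rw [hb]; group
    _ = (b : Γ) * a := by
      rw [← inv_eq_of_mul_eq_one_right hab, mul_inv_rev, inv_eq_of_mul_eq_one_right ha,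
        inv_eq_of_mul_eq_one_right hb]; simp [hb, mul_assoc])⟩⟩

end Pyr

theorem exists_conj_of_card {Γ : Type} [Group Γ] [Finite Γ] {r : ℕ} [Fact r.Prime]
    (B : Subgroup Γ) (P : Sylow r B) (D' : Subgroup Γ) (hD' : D' ≤ B)
    (hcard : Nat.card D' = Nat.card (P : Subgroup B)) :
    ∃ b ∈ B, ∀ x ∈ D', b * x * b⁻¹ ∈ (P : Subgroup B).map B.subtype := by
  obtain ⟨n, hn⟩ := P.isPGroup'.exists_card_eq
  have hD : IsPGroup r (D'.subgroupOf B) := IsPGroup.of_card (n := n) (by
    rw [Nat.card_congr (Subgroup.subgroupOfEquivOfLe hD').toEquiv, hcard, hn])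
  obtain ⟨Q, hQ⟩ := hD.exists_le_sylow
  obtain ⟨b, hb⟩ := MulAction.exists_smul_eq B Q P
  refine ⟨b, b.2, fun x hx => ?_⟩
  refine ⟨b * ⟨x, hD' hx⟩ * b⁻¹, ?_, rfl⟩
  rw [← hb, Sylow.coe_subgroup_smul]
  exact ⟨⟨x, hD' hx⟩, hQ (show (⟨x, hD' hx⟩ : B) ∈ D'.subgroupOf B from hx), rfl⟩

variable {Γ : Type} [Group Γ] [Finite Γ] {W : Subgroup Γ}

/-- A fixed-point-free automorphism of odd prime order induced by the group has odd normalizer. -/
theorem Pyr.odd_normalizer (h : Pyr W) [W.Normal] {r : ℕ} [Fact r.Prime] (hr : r ≠ 2)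
    {g τ : MulAut W} (hg : g ∈ (MulAut.conjNormal : Γ →* MulAut W).range) (ho : orderOf g = r)
    (hfix : ∀ w, g w = w → w = 1) (hτ : τ ∈ (MulAut.conjNormal : Γ →* MulAut W).range)
    (hn : τ * g * τ⁻¹ ∈ Subgroup.zpowers g) : Odd (orderOf τ) := by
  haveI : Finite (MulAut W) :=
    Finite.of_injective (fun k : MulAut W => (k : W → W)) DFunLike.coe_injective
  set φ : Γ →* MulAut W := MulAut.conjNormal with hφ
  set G1 := (Subgroup.zpowers g).comap φ with hG1
  obtain ⟨P⟩ := Sylow.nonempty (p := r) (G := G1)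
  set D := (P : Subgroup G1).map G1.subtype with hD
  have hDp : IsPGroup r D := P.isPGroup'.map _
  -- an element of `D` above `g`
  obtain ⟨h0, h0e⟩ := hg
  have hDg : ∃ d ∈ D, φ d = g := by
    let f : G1 →* Subgroup.zpowers g := (φ.comp G1.subtype).codRestrict _ fun x => x.2
    have hf : Function.Surjective f := by
      rintro ⟨x, hx⟩
      obtain ⟨i, rfl⟩ := Subgroup.mem_zpowers_iff.1 hx
      exact ⟨⟨h0 ^ i, show φ _ ∈ Subgroup.zpowers g by rw [map_zpow, h0e]; exact hx⟩,
        Subtype.ext (show φ (h0 ^ i) = g ^ i by rw [map_zpow, h0e])⟩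
    have hz : IsPGroup r (Subgroup.zpowers g) :=
      IsPGroup.of_card (n := 1) (by rw [Nat.card_zpowers, ho, pow_one])
    have htop : ((P.mapSurjective hf : Sylow r _) : Subgroup (Subgroup.zpowers g)) = ⊤ :=
      top_le_iff.1 (le_of_eq ((P.mapSurjective hf).is_maximal'
        (hz.of_equiv Subgroup.topEquiv.symm) le_top))
    have : (⟨g, Subgroup.mem_zpowers g⟩ : Subgroup.zpowers g) ∈
        ((P.mapSurjective hf : Sylow r _) : Subgroup (Subgroup.zpowers g)) := htop ▸ Subgroup.mem_top _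
    obtain ⟨m, hm, hme⟩ := this
    exact ⟨m, ⟨m, hm, rfl⟩, congrArg Subtype.val hme⟩
  obtain ⟨d, hd, hdg⟩ := hDg
  -- the normalizer of `D` contains no involution
  have hodd : Odd (Nat.card (Subgroup.normalizer (D : Set Γ))) := by
    by_contra he
    obtain ⟨w, hw⟩ := exists_prime_orderOf_dvd_card' (G := Subgroup.normalizer (D : Set Γ)) 2
      (even_iff_two_dvd.1 (Nat.not_odd_iff_even.1 he))
    rw [← Subgroup.orderOf_coe] at hw
    have hw2 : (w : Γ) * w = 1 := by rw [← pow_two, ← hw, pow_orderOf_eq_one]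
    have hwW : (w : Γ) ∈ W := (h.mem_iff _).2 hw2
    have hcD : (w : Γ) * d * (w : Γ)⁻¹ * d⁻¹ ∈ D :=
      mul_mem ((Subgroup.mem_normalizer_iff.1 w.2 d).1 hd) (inv_mem hd)
    have hcW : (w : Γ) * d * (w : Γ)⁻¹ * d⁻¹ ∈ W := by
      rw [show (w : Γ) * d * (w : Γ)⁻¹ * d⁻¹ = (w : Γ) * (d * (w : Γ)⁻¹ * d⁻¹) by group]
      exact W.mul_mem hwW (Subgroup.Normal.conj_mem ‹W.Normal› _ (inv_mem hwW) d)
    have hc1 : (w : Γ) * d * (w : Γ)⁻¹ * d⁻¹ = 1 := by
      obtain ⟨k, hk⟩ := hDp ⟨_, hcD⟩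
      have e1 := orderOf_dvd_of_pow_eq_one (show ((w : Γ) * d * (w : Γ)⁻¹ * d⁻¹) ^ 2 = 1 by
        rw [pow_two]; exact (h.mem_iff _).1 hcW)
      have e2 := orderOf_dvd_of_pow_eq_one (congrArg Subtype.val hk)
      exact orderOf_eq_one_iff.1 (Nat.eq_one_of_dvd_coprimes
        (Nat.Coprime.pow_right k ((Nat.coprime_primes Nat.prime_two (Fact.out)).2 hr.symm)) e1 e2)
    have hfw : g ⟨w, hwW⟩ = ⟨w, hwW⟩ := Subtype.ext (by
      rw [← hdg, hφ, MulAut.conjNormal_apply]
      show d * (w : Γ) * d⁻¹ = w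
      calc d * (w : Γ) * d⁻¹ = ((w : Γ) * d * (w : Γ)⁻¹ * d⁻¹)⁻¹ * w := by group
        _ = w := by rw [hc1, inv_one, one_mul])
    have := congrArg Subtype.val (hfix _ hfw)
    rw [show (w : Γ) = 1 from this, orderOf_one] at hw
    norm_num at hw
  obtain ⟨t, rfl⟩ := hτ
  -- conjugate `t D t⁻¹` back to `D`
  have hle : D.map (MulAut.conj t).toMonoidHom ≤ G1 := by
    rintro _ ⟨x, hx, rfl⟩
    obtain ⟨y, hy, rfl⟩ := hx
    obtain ⟨i, hi⟩ := Subgroup.mem_zpowers_iff.1 (y.2 : φ y ∈ Subgroup.zpowers g)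
    show φ (t * y * t⁻¹) ∈ Subgroup.zpowers g
    rw [map_mul, map_mul, map_inv, ← hi, ← conj_zpow]
    exact Subgroup.zpow_mem _ hn i
  obtain ⟨k, hk, hkD⟩ := exists_conj_of_card G1 P _ hle (by
    rw [Subgroup.card_map_of_injective (MulEquiv.injective (MulAut.conj t)),
      Subgroup.card_map_of_injective G1.subtype_injective])
  have hkt : k * t ∈ Subgroup.normalizer (D : Set Γ) := by
    rw [Subgroup.mem_normalizer_iff]
    have hle2 : ∀ x ∈ D, k * t * x * (k * t)⁻¹ ∈ D := fun x hx => by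
      rw [show k * t * x * (k * t)⁻¹ = k * (t * x * t⁻¹) * k⁻¹ by group]
      exact hkD _ ⟨x, hx, rfl⟩
    let f : D → D := fun x => ⟨k * t * x * (k * t)⁻¹, hle2 x x.2⟩
    have hf : Function.Injective f := fun a b e => Subtype.ext
      (mul_left_cancel (mul_right_cancel (congrArg Subtype.val e)))
    intro x
    refine ⟨hle2 x, fun hx => ?_⟩
    obtain ⟨y, hy⟩ := Finite.injective_iff_surjective.1 hf ⟨_, hx⟩
    rw [show x = (y : Γ) from (mul_left_cancel (mul_right_cancel (congrArg Subtype.val hy))).symm]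
    exact y.2
  set N := Nat.card (Subgroup.normalizer (D : Set Γ))
  have hpow : (φ k * φ t) ^ N = 1 := by
    rw [← map_mul, ← map_pow, show (k * t) ^ N = 1 from
      congrArg Subtype.val (pow_card_eq_one' (x := (⟨_, hkt⟩ : Subgroup.normalizer (D : Set Γ)))),
      map_one]
  have hmem : ∀ n : ℕ, ∃ γ ∈ Subgroup.zpowers g, (φ k * φ t) ^ n = γ * φ t ^ n := by
    have hγ : φ k ∈ Subgroup.zpowers g := hk
    have hcj : ∀ n : ℕ, ∀ γ ∈ Subgroup.zpowers g, φ t ^ n * γ * (φ t ^ n)⁻¹ ∈ Subgroup.zpowers g := by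
      intro n
      induction n with
      | zero => intro γ hγ; simpa using hγ
      | succ n ih =>
        intro γ hγ
        obtain ⟨i, rfl⟩ := Subgroup.mem_zpowers_iff.1 hγ
        rw [show φ t ^ (n + 1) * g ^ i * (φ t ^ (n + 1))⁻¹ =
          φ t ^ n * (φ t * g ^ i * (φ t)⁻¹) * (φ t ^ n)⁻¹ by rw [pow_succ]; group]
        exact ih _ (by rw [← conj_zpow]; exact Subgroup.zpow_mem _ hn i)
    intro n
    induction n with
    | zero => exact ⟨1, one_mem _, by simp⟩
    | succ n ih =>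
      obtain ⟨γ, hγ', e⟩ := ih
      refine ⟨γ * (φ t ^ n * φ k * (φ t ^ n)⁻¹), mul_mem hγ' (hcj n _ hγ), ?_⟩
      rw [pow_succ, e, pow_succ]; group
  obtain ⟨γ, hγ, e⟩ := hmem N
  rw [hpow] at e
  have e2 : φ t ^ (N * r) = 1 := by
    have : φ t ^ N ∈ Subgroup.zpowers g := by
      rw [show φ t ^ N = γ⁻¹ from eq_inv_of_mul_eq_one_right e.symm]; exact inv_mem hγ
    obtain ⟨i, hi⟩ := Subgroup.mem_zpowers_iff.1 this
    rw [pow_mul, ← hi, ← zpow_natCast, ← zpow_mul, mul_comm, zpow_mul, zpow_natCast, ← ho,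
      pow_orderOf_eq_one, one_zpow]
  exact (hodd.mul ((Nat.Prime.odd_of_ne_two Fact.out hr))).of_dvd_nat (orderOf_dvd_of_pow_eq_one e2)

/-- A group inducing all automorphisms of an elementary subgroup of order eight containing its
involutions does not exist. -/
theorem Pyr.false_of_full (h : Pyr W) [W.Normal] (h8 : Nat.card W = 8)
    (hsurj : Function.Surjective (MulAut.conjNormal : Γ →* MulAut W)) : False := by
  classical
  haveI := h.comm
  have hsq : ∀ x : W, x * x = 1 := fun x => Subtype.ext ((h.mem_iff _).1 x.2)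
  letI := Fintype.ofFinite W
  have hbig : ∀ s : Finset W, s.card < 8 → ∃ x, x ∉ s := fun s hs => by
    by_contra hc
    push_neg at hc
    have : (Finset.univ : Finset W).card ≤ s.card := Finset.card_le_card fun x _ => hc x
    rw [Finset.card_univ, ← Nat.card_eq_fintype_card, h8] at this
    omega
  obtain ⟨u, hu⟩ := hbig {1} (by simp)
  obtain ⟨v, hv⟩ := hbig {1, u} (Finset.card_le_two.trans_lt (by norm_num))
  obtain ⟨z, hz⟩ := hbig {1, u, v, u * v} (Finset.card_le_four.trans_lt (by norm_num))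
  simp only [Finset.mem_insert, Finset.mem_singleton, not_or] at hu hv hz
  have hpow : ∀ (x : W) (a b : ZMod 2), x ^ (a + b).val = x ^ a.val * x ^ b.val := by
    intro x a b
    rw [← pow_add, ZMod.val_add]
    conv_rhs => rw [← Nat.mod_add_div (a.val + b.val) 2, pow_add, pow_mul, pow_two, hsq, one_pow,
      mul_one]
  let e : Model.E3 →* W := MonoidHom.mk'
    (fun a => u ^ a.toAdd.1.val * v ^ a.toAdd.2.1.val * z ^ a.toAdd.2.2.val) (by
      intro a b
      simp only [toAdd_mul, Prod.fst_add, Prod.snd_add, hpow]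
      rw [mul_mul_mul_comm (u ^ _) (u ^ _)]
      exact mul_mul_mul_comm _ _ _ _)
  have hinv : ∀ x : W, x⁻¹ = x := fun x => inv_eq_of_mul_eq_one_right (hsq x)
  have he : Function.Injective e := by
    rw [injective_iff_map_eq_one]
    intro a ha
    have key : ∀ i j k : ZMod 2, u ^ i.val * v ^ j.val * z ^ k.val = 1 → i = 0 ∧ j = 0 ∧ k = 0 := by
      have h01 : ∀ i : ZMod 2, i = 0 ∨ i = 1 := by decide
      have hm : ∀ a b : W, a * b = 1 → b = a := fun a b e =>
        (inv_eq_of_mul_eq_one_right e).symm.trans (hinv a)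
      intro i j k hijk
      rcases h01 i with rfl | rfl <;> rcases h01 j with rfl | rfl <;> rcases h01 k with rfl | rfl
      all_goals simp only [ZMod.val_zero, ZMod.val_one, pow_zero, pow_one, one_mul, mul_one] at hijk
      · exact ⟨rfl, rfl, rfl⟩
      · exact absurd hijk hz.1
      · exact absurd hijk hv.1
      · exact absurd (hm _ _ hijk) hz.2.2.1
      · exact absurd hijk hu
      · exact absurd (hm _ _ hijk) hz.2.1
      · exact absurd (hm _ _ hijk) hv.2
      · exact absurd (hm _ _ hijk) hz.2.2.2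
    obtain ⟨h1, h2, h3⟩ := key _ _ _ ha
    exact Multiplicative.toAdd.injective (Prod.ext h1 (Prod.ext h2 h3))
  have hebij : Function.Bijective e := he.bijective_of_nat_card_le (by
    rw [h8, Nat.card_eq_fintype_card]; rfl)
  let ee : Model.E3 ≃* W := MulEquiv.ofBijective e hebij
  let ψ : Γ →* MulAut Model.E3 := (MulAut.congr ee.symm).toMonoidHom.comp MulAut.conjNormal
  have hcompat : ∀ g a, ((ee (ψ g a) : W) : Γ) = g * (ee a : Γ) * g⁻¹ := fun g a => by
    simp [ψ, MulAut.congr, MulAut.conjNormal_apply]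
  have hψ : Function.Surjective ψ := fun f => by
    obtain ⟨g, hg⟩ := hsurj (MulAut.congr ee f)
    exact ⟨g, by simp [ψ, hg, MulAut.congr, MulEquiv.ext_iff]⟩
  -- the normalizer of a Sylow subgroup of the kernel
  obtain ⟨T₀⟩ := Sylow.nonempty (p := 2) (G := ψ.ker)
  set T := (T₀ : Subgroup ψ.ker).map ψ.ker.subtype with hT
  have hcov : Subgroup.normalizer (T : Set Γ) ⊔ ψ.ker = ⊤ := Sylow.normalizer_sup_eq_top T₀
  set N := Subgroup.normalizer (T : Set Γ) with hN
  have hWker : W ≤ ψ.ker := fun w hw => MonoidHom.mem_ker.2 (MulEquiv.ext fun a => ee.injective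
    (Subtype.ext (by
      rw [hcompat]
      show (w : Γ) * (ee a : Γ) * w⁻¹ = (ee a : Γ)
      rw [show (w : Γ) * (ee a : Γ) = (ee a : Γ) * w from
        congrArg Subtype.val (mul_comm (⟨w, hw⟩ : W) (ee a)), mul_inv_cancel_right])))
  have hTp : IsPGroup 2 T := T₀.isPGroup'.map _
  have hWT : W ≤ T := by
    intro w hw
    haveI : (W.subgroupOf ψ.ker).Normal := inferInstance
    have hp : IsPGroup 2 (W.subgroupOf ψ.ker) := fun x => ⟨1, Subtype.ext (Subtype.ext (by
      rw [pow_one, pow_two]; exact (h.mem_iff _).1 x.2))⟩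
    exact ⟨⟨w, hWker hw⟩, (le_sup_left.trans (le_of_eq (T₀.is_maximal'
      (hp.to_sup_of_normal_left T₀.isPGroup') le_sup_right))) hw, rfl⟩
  have hTN : T ≤ N := Subgroup.le_normalizer
  have hW' : W.subgroupOf N = (W.subgroupOf N) := rfl
  have hWN : W ≤ N := hWT.trans hTN
  have c : L32Ctx N (T.subgroupOf N) :=
    { fin := inferInstance
      ι := MonoidHom.mk' (fun a => ⟨(ee a : Γ), hWN (ee a).2⟩) (fun a b => Subtype.ext (by simp))
      inj := fun a b e => ee.injective (Subtype.ext (congrArg (fun x : N => (x : Γ)) e))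
      mem_iff := fun x => by
        constructor
        · intro hx
          have : (x : Γ) ∈ W := (h.mem_iff _).2 (congrArg Subtype.val hx)
          exact ⟨ee.symm ⟨x, this⟩, Subtype.ext (by simp)⟩
        · rintro ⟨a, rfl⟩
          exact Subtype.ext ((h.mem_iff _).1 (ee a).2)
      ψ := ψ.comp N.subtype
      surj := fun f => by
        obtain ⟨g, rfl⟩ := hψ f
        have hg : g ∈ N ⊔ ψ.ker := hcov ▸ Subgroup.mem_top g
        obtain ⟨n, hn, k, hk, rfl⟩ := Subgroup.mem_sup_of_normal_right.1 hg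
        exact ⟨⟨n, hn⟩, by simp [MonoidHom.mem_ker.1 hk]⟩
      compat := fun g a => Subtype.ext (hcompat g a)
      normal := Subgroup.normal_in_normalizer
      pgroup := hTp.of_equiv (Subgroup.subgroupOfEquivOfLe hTN).symm
      le_ker := fun x hx => by
        obtain ⟨y, -, hy⟩ := hx
        show ψ (x : Γ) = 1
        rw [← show (y : Γ) = x from hy]
        exact MonoidHom.mem_ker.1 y.2
      mem_of_ker := fun g hg ⟨k, hk⟩ => by
        let y : ψ.ker := ⟨g, MonoidHom.mem_ker.2 hg⟩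
        have hy : y ∈ Subgroup.normalizer ((T₀ : Subgroup ψ.ker) : Set ψ.ker) := by
          rw [Subgroup.mem_normalizer_iff]
          intro a
          have := Subgroup.mem_normalizer_iff.1 g.2 (a : Γ)
          constructor
          · intro ha
            obtain ⟨b, hb, hbe⟩ := this.1 ⟨a, ha, rfl⟩
            rwa [show y * a * y⁻¹ = b from Subtype.ext hbe.symm]
          · intro ha
            obtain ⟨b, hb, hbe⟩ := this.2 ⟨_, ha, rfl⟩
            rwa [show a = b from Subtype.ext hbe.symm]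
        have hz : IsPGroup 2 (Subgroup.zpowers y) := fun z => by
          obtain ⟨i, hi⟩ := Subgroup.mem_zpowers_iff.1 z.2
          refine ⟨k, Subtype.ext ?_⟩
          rw [SubgroupClass.coe_pow, ← hi, ← zpow_natCast, ← zpow_mul, mul_comm, zpow_mul,
            zpow_natCast, show y ^ 2 ^ k = 1 from Subtype.ext
              (congrArg (fun x : N => (x : Γ)) hk : (g : Γ) ^ 2 ^ k = 1), one_zpow]
          rfl
        have hle : Subgroup.zpowers y ≤ (T₀ : Subgroup ψ.ker) :=
          le_sup_left.trans (le_of_eq (T₀.is_maximal'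
            (IsPGroup.to_sup_of_normal_right' hz T₀.isPGroup' (Subgroup.zpowers_le.2 hy)) le_sup_right))
        exact ⟨y, hle (Subgroup.mem_zpowers y), rfl⟩ }
  by_cases hcomm : ∀ x ∈ T.subgroupOf N, ∀ y ∈ T.subgroupOf N, x * y = y * x
  · exact c.false_of_comm hcomm
  push_neg at hcomm
  obtain ⟨x₀, hx₀, y₀, hy₀, hxy⟩ := hcomm
  -- the quadratic map
  set T' := T.subgroupOf N with hT'
  haveI : T'.Normal := c.normal
  obtain ⟨gX, hgX⟩ := c.surj Model.X
  let K : Subgroup (MulAut T') := Subgroup.zpowers (MulAut.conjNormal gX)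
  have hιT : ∀ a, c.ι a ∈ T' := c.ι_mem
  have hinvol : ∀ x : T', x * x = 1 → ∃ a, c.ι a = x := fun x hx =>
    (c.mem_iff _).1 (congrArg Subtype.val hx)
  have hS : SuzukiSolv.SCtx T' K :=
    { fin := inferInstance
      pgroup := c.pgroup
      nonabelian := ⟨⟨x₀, hx₀⟩, ⟨y₀, hy₀⟩, fun e => hxy (congrArg Subtype.val e)⟩
      two_involutions := ⟨⟨_, hιT Model.e1⟩, ⟨_, hιT Model.e2⟩,
        fun e => absurd (c.inj (congrArg Subtype.val e)) (by decide),
        fun e => absurd (c.inj ((congrArg Subtype.val e).trans (map_one c.ι).symm)) (by decide),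
        Subtype.ext (by show c.ι _ * c.ι _ = 1; rw [← map_mul, Model.mul_self, map_one]),
        fun e => absurd (c.inj ((congrArg Subtype.val e).trans (map_one c.ι).symm)) (by decide),
        Subtype.ext (by show c.ι _ * c.ι _ = 1; rw [← map_mul, Model.mul_self, map_one])⟩
      sol := by
        haveI : IsMulCommutative K := inferInstance
        exact Group.isSolvable_of_comm fun a b => mul_comm a b
      trans := fun x y hx hx2 hy hy2 => by
        obtain ⟨a, ha⟩ := hinvol x hx2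
        obtain ⟨b, hb⟩ := hinvol y hy2
        have ha1 : a ≠ 1 := fun e => hx (Subtype.ext (by rw [← ha, e, map_one]; rfl))
        have hb1 : b ≠ 1 := fun e => hy (Subtype.ext (by rw [← hb, e, map_one]; rfl))
        obtain ⟨i, hi⟩ := Model.X_trans a ha1
        obtain ⟨j, hj⟩ := Model.X_trans b hb1
        refine ⟨MulAut.conjNormal (gX ^ ((j : ℕ) + (7 - (i : ℕ)))), ?_, Subtype.ext ?_⟩
        · rw [map_pow]; exact Subgroup.npow_mem_zpowers _ _
        · rw [MulAut.conjNormal_apply, ← ha, ← hb, ← c.compat, map_pow, hgX, ← hj, ← hi,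
            ← MulAut.mul_apply, ← pow_add, add_assoc, Nat.sub_add_cancel i.isLt.le, pow_add,
            Model.rel_X, mul_one] }
  have hsqW : ∀ x : T', ∃ a, c.ι a = ((x * x : T') : N) := fun x =>
    hinvol _ (hS.mem_center_iff.1 (hS.sq_mem_center x))
  choose q0 hq0 using hsqW
  set Wt : Subgroup T' := (c.ι.range).subgroupOf T' with hWt
  have hmemWt : ∀ x : T', x ∈ Wt ↔ x * x = 1 := fun x => by
    rw [hWt, Subgroup.mem_subgroupOf, ← c.mem_iff]
    exact ⟨fun e => Subtype.ext e, fun e => congrArg Subtype.val e⟩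
  have hWtc : ∀ x ∈ Wt, ∀ g : T', g * x = x * g := fun x hx g => hS.central ((hmemWt x).1 hx) g
  haveI : Wt.Normal := ⟨fun x hx g => by rw [hWtc x hx g, mul_inv_cancel_right]; exact hx⟩
  have hsqmem : ∀ x : T', x * x ∈ Wt := fun x =>
    (hmemWt _).2 (hS.mem_center_iff.1 (hS.sq_mem_center x))
  have hVsq : ∀ v : T' ⧸ Wt, v * v = 1 := fun v => by
    induction v using QuotientGroup.induction_on with
    | _ a => exact (QuotientGroup.eq_one_iff _).2 (hsqmem a)
  haveI : IsMulCommutative (T' ⧸ Wt) := ⟨⟨fun a b => by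
    have := hVsq (a * b)
    rw [← inv_eq_of_mul_eq_one_right this, mul_inv_rev, inv_eq_of_mul_eq_one_right (hVsq a),
      inv_eq_of_mul_eq_one_right (hVsq b)]⟩⟩
  have hbr : ∀ x y : T', ∃ a, c.ι a = ((x⁻¹ * (y⁻¹ * (x * y)) : T') : N) := fun x y => by
    refine hinvol _ ((hmemWt _).1 ((QuotientGroup.eq_one_iff _).1 ?_))
    simp only [QuotientGroup.mk_mul, QuotientGroup.mk_inv]
    rw [mul_comm (x : T' ⧸ Wt) (y : T' ⧸ Wt), inv_mul_cancel_left, inv_mul_cancel]
  choose b0 hb0 using hbr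
  have hq0mul : ∀ x y : T', q0 (x * y) = q0 x * q0 y * b0 x y := by
    intro x y
    refine c.inj ?_
    rw [map_mul, map_mul, hq0, hq0, hq0, hb0, ← Subgroup.coe_mul, ← Subgroup.coe_mul]
    have hc : ∀ g : T', g * (x⁻¹ * (y⁻¹ * (x * y))) = (x⁻¹ * (y⁻¹ * (x * y))) * g := fun g => by
      refine hS.central ?_ g
      obtain ⟨a, ha⟩ : ∃ a, c.ι a = ((x⁻¹ * (y⁻¹ * (x * y)) : T') : N) := ⟨_, hb0 x y⟩
      refine Subtype.ext ?_
      show ((x⁻¹ * (y⁻¹ * (x * y)) : T') : N) * ((x⁻¹ * (y⁻¹ * (x * y)) : T') : N) = 1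
      rw [← ha, ← map_mul, Model.mul_self, map_one]
    have hc2 : x⁻¹ * (y⁻¹ * (x * y)) * (x⁻¹ * (y⁻¹ * (x * y))) = 1 := Subtype.ext (by
      show ((x⁻¹ * (y⁻¹ * (x * y)) : T') : N) * ((x⁻¹ * (y⁻¹ * (x * y)) : T') : N) = 1
      rw [← hb0, ← map_mul, Model.mul_self, map_one])
    have key : x * x * (y * y) * (x⁻¹ * (y⁻¹ * (x * y))) = x * y * (x * y) := by
      calc x * x * (y * y) * (x⁻¹ * (y⁻¹ * (x * y)))
          = x * x * y * (y * (x⁻¹ * (y⁻¹ * (x * y)))) := by group
        _ = x * x * y * ((x⁻¹ * (y⁻¹ * (x * y))) * y) := by rw [hc y]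
        _ = x * (y * x * ((x⁻¹ * (y⁻¹ * (x * y))) * (x⁻¹ * (y⁻¹ * (x * y))))) * y := by group
        _ = x * y * (x * y) := by rw [hc2]; group
    rw [key]
  have hq0W : ∀ x, ∀ w ∈ Wt, q0 (x * w) = q0 x := fun x w hw => c.inj (by
    rw [hq0, hq0]
    congr 1
    calc x * w * (x * w) = x * (w * x) * w := by group
      _ = x * (x * w) * w := by rw [hWtc w hw x]
      _ = x * x * (w * w) := by group
      _ = x * x := by rw [(hmemWt w).1 hw, mul_one])
  let q : T' ⧸ Wt → Model.E3 := fun v => Quotient.liftOn' v q0 fun a b hab => by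
    have hw := QuotientGroup.leftRel_apply.1 hab
    rw [← hq0W a _ hw, mul_inv_cancel_left]
  let Bf : T' ⧸ Wt → T' ⧸ Wt → Model.E3 := fun x y => (q x)⁻¹ * (q y)⁻¹ * q (x * y)
  have hBmk : ∀ x y : T', Bf x y = b0 x y := fun x y => by
    show (q0 x)⁻¹ * (q0 y)⁻¹ * q0 (x * y) = b0 x y
    rw [hq0mul, ← mul_inv, inv_mul_cancel_left]
  let act : N →* MulAut (T' ⧸ Wt) :=
    { toFun := fun g => QuotientGroup.congr Wt Wt (MulAut.conjNormal g) (by
        refine Subgroup.eq_of_le_of_card_ge ?_ ?_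
        · rintro _ ⟨x, hx, rfl⟩
          rw [hmemWt] ; rw [← map_mul, (hmemWt x).1 hx, map_one]
        · exact le_of_eq (Nat.card_congr (Subgroup.equivMapOfInjective Wt _
            (MulEquiv.injective (MulAut.conjNormal g : MulAut T'))).toEquiv))
      map_one' := by
        ext v
        induction v using QuotientGroup.induction_on with | _ a => simp
      map_mul' := fun g g' => by
        ext v
        induction v using QuotientGroup.induction_on with | _ a => simp }
  have hb0mul : ∀ x y z : T', b0 (x * y) z = b0 x z * b0 y z := by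
    intro x y z
    refine c.inj ?_
    rw [map_mul, hb0, hb0, hb0, ← Subgroup.coe_mul]
    have hc : ∀ g : T', g * (x⁻¹ * (z⁻¹ * (x * z))) = (x⁻¹ * (z⁻¹ * (x * z))) * g := fun g => by
      refine hS.central ?_ g
      refine Subtype.ext ?_
      show ((x⁻¹ * (z⁻¹ * (x * z)) : T') : N) * ((x⁻¹ * (z⁻¹ * (x * z)) : T') : N) = 1
      rw [← hb0, ← map_mul, Model.mul_self, map_one]
    congr 1
    calc (x * y)⁻¹ * (z⁻¹ * (x * y * z)) = y⁻¹ * ((x⁻¹ * (z⁻¹ * (x * z))) * (z⁻¹ * (y * z))) := by group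
      _ = y⁻¹ * ((z⁻¹ * (y * z)) * (x⁻¹ * (z⁻¹ * (x * z)))) := by rw [hc (z⁻¹ * (y * z))]
      _ = (y⁻¹ * (z⁻¹ * (y * z))) * (x⁻¹ * (z⁻¹ * (x * z))) := by group
      _ = _ := hc _
  have Q : QForm (c.ψ) (T' ⧸ Wt) :=
    { finH := inferInstance
      finV := inferInstance
      surj := c.surj
      sq := hVsq
      q := q
      B := Bf
      hq := fun x y => by
        show q (x * y) = q x * q y * ((q x)⁻¹ * (q y)⁻¹ * q (x * y))
        rw [← mul_inv, mul_inv_cancel_left]
      hB := fun x y z => by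
        induction x using QuotientGroup.induction_on with | _ a => ?_
        induction y using QuotientGroup.induction_on with | _ b => ?_
        induction z using QuotientGroup.induction_on with | _ d => ?_
        rw [← QuotientGroup.mk_mul, hBmk, hBmk, hBmk, hb0mul]
      one := c.inj (by show c.ι (q0 1) = c.ι 1; rw [hq0, map_one, mul_one]; rfl)
      ne := fun v hv => by
        induction v using QuotientGroup.induction_on with
        | _ a =>
          refine (QuotientGroup.eq_one_iff a).2 ((hmemWt a).2 (Subtype.ext ?_))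
          have : c.ι (q0 a) = 1 := by rw [show q0 a = 1 from hv, map_one]
          rw [hq0] at this
          exact this
      act := act
      hact := fun g v => by
        induction v using QuotientGroup.induction_on with
        | _ a =>
          show q0 (MulAut.conjNormal g a) = c.ψ g (q0 a)
          refine c.inj ?_
          rw [hq0, c.compat, hq0, ← map_mul, MulAut.conjNormal_apply]
      odd := fun g hg => by
        obtain ⟨a, m, hm, he⟩ :=
          Nat.exists_eq_pow_mul_and_not_dvd (orderOf_pos g).ne' 2 (by norm_num)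
        have hmem : g ^ m ∈ T' := c.mem_of_ker _ (by rw [map_pow, hg, one_pow])
          ⟨a, by rw [← pow_mul, mul_comm, ← he, pow_orderOf_eq_one]⟩
        have h1 : act (g ^ m) = 1 := by
          ext v
          induction v using QuotientGroup.induction_on with
          | _ b =>
            show ((MulAut.conjNormal (g ^ m) b : T') : T' ⧸ Wt) = (b : T' ⧸ Wt)
            rw [show MulAut.conjNormal (g ^ m) b = (⟨_, hmem⟩ : T') * b * (⟨_, hmem⟩ : T')⁻¹ from
              Subtype.ext (by rw [MulAut.conjNormal_apply]; rfl)]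
            simp only [QuotientGroup.mk_mul, QuotientGroup.mk_inv]
            rw [mul_comm ((⟨_, hmem⟩ : T') : T' ⧸ Wt), mul_inv_cancel_right]
        rw [map_pow] at h1
        exact (Nat.not_even_iff_odd.1 fun h2 => hm (even_iff_two_dvd.1 h2)).of_dvd_nat
          (orderOf_dvd_of_pow_eq_one h1)
      nonadd := ⟨((⟨x₀, hx₀⟩ : T') : T' ⧸ Wt), ((⟨y₀, hy₀⟩ : T') : T' ⧸ Wt), fun e => hxy (by
        rw [hBmk] at e
        have h1 := hb0 ⟨x₀, hx₀⟩ ⟨y₀, hy₀⟩
        rw [e, map_one] at h1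
        have h2 : x₀⁻¹ * (y₀⁻¹ * (x₀ * y₀)) = 1 := h1.symm
        calc x₀ * y₀ = y₀ * x₀ * (x₀⁻¹ * (y₀⁻¹ * (x₀ * y₀))) := by group
          _ = y₀ * x₀ := by rw [h2, mul_one])⟩ }
  exact Q.false'

/-- **No doubly transitive action on the involutions.** -/
theorem Pyr.not_trans2 : ∀ (n : ℕ) {Γ : Type} [Group Γ] [Finite Γ] {W : Subgroup Γ}, Pyr W →
    Nat.card W = n → 4 ≤ n → Trans2 W → False := by
  intro n
  induction n using Nat.strong_induction_on with
  | _ n ih =>
  intro Γ _ _ W h hn h4 h2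
  classical
  haveI := h.normal
  haveI := h.comm
  haveI : Finite (MulAut W) :=
    Finite.of_injective (fun k : MulAut W => (k : W → W)) DFunLike.coe_injective
  set φ : Γ →* MulAut W := MulAut.conjNormal with hφ
  by_cases hcase : ∃ b : Γ, Odd (orderOf b) ∧ φ b ≠ 1 ∧
      ∃ u v : W, u ≠ 1 ∧ v ≠ 1 ∧ u ≠ v ∧ φ b u = u ∧ φ b v = v
  · obtain ⟨b, hbo, hb1, u, v, hu, hv, huv, hbu, hbv⟩ := hcase
    obtain ⟨r, hr, hrd⟩ := Nat.exists_prime_and_dvd (fun e => hb1 (orderOf_eq_one_iff.1 e) :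
      orderOf (φ b) ≠ 1)
    haveI := Fact.mk hr
    obtain ⟨a, m, hm, he⟩ :=
      Nat.exists_eq_pow_mul_and_not_dvd (orderOf_pos b).ne' r hr.ne_one
    set B := Subgroup.centralizer ({(u : Γ), (v : Γ)} : Set Γ) with hB
    have hmemB : ∀ x, x ∈ B ↔ φ x u = u ∧ φ x v = v := by
      intro x
      simp only [hB, Subgroup.mem_centralizer_iff, Set.mem_insert_iff, Set.mem_singleton_iff,
        forall_eq_or_imp, forall_eq, Subtype.ext_iff, hφ, MulAut.conjNormal_apply,
        mul_inv_eq_iff_eq_mul]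
      exact and_congr eq_comm eq_comm
    have hb' : b ^ m ∈ B := pow_mem ((hmemB b).2 ⟨hbu, hbv⟩) m
    have hrp : IsPGroup r (Subgroup.zpowers (⟨b ^ m, hb'⟩ : B)) := by
      have hd : orderOf (⟨b ^ m, hb'⟩ : B) ∣ r ^ a := orderOf_dvd_of_pow_eq_one (Subtype.ext (by
        show (b ^ m) ^ r ^ a = 1
        rw [← pow_mul, mul_comm, ← he, pow_orderOf_eq_one]))
      obtain ⟨i, -, hi⟩ := (Nat.dvd_prime_pow hr).1 hd
      exact IsPGroup.of_card (n := i) (by rw [Nat.card_zpowers, hi])
    obtain ⟨P, hP⟩ := hrp.exists_le_sylow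
    set R := (P : Subgroup B).map B.subtype with hR
    set N := Subgroup.normalizer (R : Set Γ) with hN
    have hrodd : r ≠ 2 := fun e => Nat.not_even_iff_odd.2 hbo
      (even_iff_two_dvd.2 (e ▸ hrd.trans (orderOf_map_dvd φ b)))
    -- involutions normalizing `R` centralize it
    have hcent : ∀ w : Γ, w ∈ W → (w ∈ N ↔ ∀ x ∈ R, x * w * x⁻¹ = w) := by
      intro w hw
      constructor
      · intro hwN x hx
        have hc1 : w * x * w⁻¹ * x⁻¹ ∈ R := mul_mem ((Subgroup.mem_normalizer_iff.1 hwN x).1 hx) (inv_mem hx)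
        have hc2 : w * x * w⁻¹ * x⁻¹ ∈ W := by
          rw [show w * x * w⁻¹ * x⁻¹ = w * (x * w⁻¹ * x⁻¹) by group]
          exact W.mul_mem hw (h.normal.conj_mem _ (inv_mem hw) x)
        have e1 := orderOf_dvd_of_pow_eq_one (show (w * x * w⁻¹ * x⁻¹) ^ 2 = 1 by
          rw [pow_two]; exact (h.mem_iff _).1 hc2)
        obtain ⟨k, hk⟩ := (P.isPGroup'.map B.subtype) ⟨_, hc1⟩
        have e2 := orderOf_dvd_of_pow_eq_one (congrArg Subtype.val hk)
        have hc := orderOf_eq_one_iff.1 (Nat.eq_one_of_dvd_coprimes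
          (Nat.Coprime.pow_right k ((Nat.coprime_primes Nat.prime_two hr).2 hrodd.symm)) e1 e2)
        calc x * w * x⁻¹ = (w * x * w⁻¹ * x⁻¹)⁻¹ * w := by group
          _ = w := by rw [hc, inv_one, one_mul]
      · intro hfix
        have hxw : ∀ x ∈ R, w * x * w⁻¹ = x := fun x hx => by
          rw [← mul_inv_eq_iff_eq_mul.1 (hfix x hx), mul_inv_cancel_right]
        rw [Subgroup.mem_normalizer_iff]
        intro x
        refine ⟨fun hx => by rw [hxw x hx]; exact hx, fun hx => ?_⟩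
        have := hxw _ hx
        rw [show x = w * x * w⁻¹ from ?_]
        · exact hx
        · calc x = w⁻¹ * (w * x * w⁻¹) * w := by group
            _ = w⁻¹ * (w * (w * x * w⁻¹) * w⁻¹) * w := by rw [this]
            _ = w * x * w⁻¹ := by group
    have hfixRu : ∀ x ∈ R, x * (u : Γ) * x⁻¹ = u ∧ x * (v : Γ) * x⁻¹ = v := by
      rintro _ ⟨x, -, rfl⟩
      obtain ⟨h1, h2⟩ := (hmemB x.1).1 x.2
      exact ⟨by simpa [hφ, Subtype.ext_iff, MulAut.conjNormal_apply] using h1,
        by simpa [hφ, Subtype.ext_iff, MulAut.conjNormal_apply] using h2⟩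
    have huN : (u : Γ) ∈ N := (hcent _ u.2).2 fun x hx => (hfixRu x hx).1
    have hvN : (v : Γ) ∈ N := (hcent _ v.2).2 fun x hx => (hfixRu x hx).2
    -- the new subgroup is smaller
    set W' := W.subgroupOf N with hW'
    have hlt : Nat.card W' < n := by
      rw [← hn, hW', Nat.card_congr
        { toFun := fun x : W.subgroupOf N => (⟨x.1.1, x.2, x.1.2⟩ : ↥(W ⊓ N))
          invFun := fun x => ⟨⟨x.1, x.2.2⟩, x.2.1⟩
          left_inv := fun _ => rfl
          right_inv := fun _ => rfl }]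
      refine lt_of_le_of_ne (Subgroup.card_le_of_le inf_le_left) fun e => hb1 ?_
      have hWN : W ≤ N := by
        have := Subgroup.eq_of_le_of_card_ge (inf_le_left : W ⊓ N ≤ W) e.ge
        exact this ▸ inf_le_right
      have hbm : φ (b ^ m) = 1 := MulEquiv.ext fun w => Subtype.ext (by
        rw [hφ, MulAut.conjNormal_apply]
        exact (hcent w w.2).1 (hWN w.2) _ ⟨⟨b ^ m, hb'⟩, hP (Subgroup.mem_zpowers _), rfl⟩)
      exfalso
      rw [map_pow] at hbm
      exact hm (hrd.trans (orderOf_dvd_of_pow_eq_one hbm))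
    have h4' : 4 ≤ Nat.card W' := by
      letI := Fintype.ofFinite W'
      obtain ⟨x1, x2, x3⟩ : (u * v : W) ≠ 1 ∧ (u * v : W) ≠ u ∧ (u * v : W) ≠ v :=
        ⟨fun e => huv ((mul_eq_one_iff_eq_inv.1 e).trans
            (inv_eq_of_mul_eq_one_right (Subtype.ext ((h.mem_iff _).1 v.2)))),
          fun e => hv (mul_eq_left.1 e), fun e => hu (mul_eq_right.1 e)⟩
      have hmemu : (⟨u, huN⟩ : N) ∈ W' := u.2
      have hmemv : (⟨v, hvN⟩ : N) ∈ W' := v.2
      rw [Nat.card_eq_fintype_card, ← Finset.card_univ]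
      refine le_trans (le_of_eq ?_) (Finset.card_le_card (Finset.subset_univ
        ({1, ⟨_, hmemu⟩, ⟨_, hmemv⟩, ⟨_, mul_mem hmemu hmemv⟩} : Finset W')))
      rw [Finset.card_insert_of_notMem, Finset.card_insert_of_notMem, Finset.card_insert_of_notMem,
        Finset.card_singleton] <;>
        simp only [Finset.mem_insert, Finset.mem_singleton, Subtype.ext_iff, not_or,
          Subgroup.coe_mul, OneMemClass.coe_one]
      · exact fun e => x3 (Subtype.ext e.symm)
      · exact ⟨fun e => huv (Subtype.ext e), fun e => x2 (Subtype.ext e.symm)⟩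
      · exact ⟨fun e => hu (Subtype.ext e.symm), fun e => hv (Subtype.ext e.symm),
          fun e => x1 (Subtype.ext e.symm)⟩
    -- still doubly transitive
    have step : ∀ u' v' : N, u' ∈ W' → v' ∈ W' → u' ≠ 1 → v' ≠ 1 → u' ≠ v' →
        ∃ g : N, g * u' * g⁻¹ = ⟨u, huN⟩ ∧ g * v' * g⁻¹ = ⟨v, hvN⟩ := by
      intro u' v' hu' hv' hu'1 hv'1 huv'
      obtain ⟨g, hgu, hgv⟩ := h2 u' v' u v hu' hv' u.2 v.2 (fun e => hu'1 (Subtype.ext e))
        (fun e => hv'1 (Subtype.ext e)) (fun e => huv' (Subtype.ext e))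
        (fun e => hu (Subtype.ext e)) (fun e => hv (Subtype.ext e)) (fun e => huv (Subtype.ext e))
      have hle : R.map (MulAut.conj g).toMonoidHom ≤ B := by
        rintro _ ⟨x, hx, rfl⟩
        show g * x * g⁻¹ ∈ B
        rw [hB, Subgroup.mem_centralizer_iff]
        have k1 := (hcent _ hu').1 u'.2 x hx
        have k2 := (hcent _ hv').1 v'.2 x hx
        rintro y (rfl | rfl)
        · rw [← hgu]
          calc g * (u' : Γ) * g⁻¹ * (g * x * g⁻¹) = g * ((u' : Γ) * x) * g⁻¹ := by group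
            _ = g * (x * (u' : Γ)) * g⁻¹ := by rw [show (u' : Γ) * x = x * u' from (mul_inv_eq_iff_eq_mul.1 k1).symm]
            _ = _ := by group
        · rw [← hgv]
          calc g * (v' : Γ) * g⁻¹ * (g * x * g⁻¹) = g * ((v' : Γ) * x) * g⁻¹ := by group
            _ = g * (x * (v' : Γ)) * g⁻¹ := by rw [show (v' : Γ) * x = x * v' from (mul_inv_eq_iff_eq_mul.1 k2).symm]
            _ = _ := by group
      obtain ⟨k, hk, hkR⟩ := exists_conj_of_card B P _ hle (by
        rw [Subgroup.card_map_of_injective (MulEquiv.injective (MulAut.conj g)),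
          Subgroup.card_map_of_injective B.subtype_injective])
      obtain ⟨hku, hkv⟩ := (hmemB k).1 hk
      have hkg : k * g ∈ N := by
        rw [hN, Subgroup.mem_normalizer_iff]
        have hle2 : ∀ x ∈ R, k * g * x * (k * g)⁻¹ ∈ R := fun x hx => by
          rw [show k * g * x * (k * g)⁻¹ = k * (g * x * g⁻¹) * k⁻¹ by group]
          exact hkR _ ⟨x, hx, rfl⟩
        let f : R → R := fun x => ⟨k * g * x * (k * g)⁻¹, hle2 x x.2⟩
        have hf : Function.Injective f := fun a b e => Subtype.ext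
          (mul_left_cancel (mul_right_cancel (congrArg Subtype.val e)))
        intro x
        refine ⟨hle2 x, fun hx => ?_⟩
        obtain ⟨y, hy⟩ := Finite.injective_iff_surjective.1 hf ⟨_, hx⟩
        rw [show x = (y : Γ) from (mul_left_cancel (mul_right_cancel (congrArg Subtype.val hy))).symm]
        exact y.2
      simp only [hφ, Subtype.ext_iff, MulAut.conjNormal_apply] at hku hkv
      refine ⟨⟨k * g, hkg⟩, Subtype.ext ?_, Subtype.ext ?_⟩
      · show k * g * (u' : Γ) * (k * g)⁻¹ = u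
        conv_rhs => rw [← hku, ← hgu]
        group
      · show k * g * (v' : Γ) * (k * g)⁻¹ = v
        conv_rhs => rw [← hkv, ← hgv]
        group
    refine ih _ hlt (h.sub N) rfl h4' fun a b a' b' ha hb ha' hb' ha1 hb1 hab ha'1 hb'1 hab' => ?_
    obtain ⟨g, hga, hgb⟩ := step a b ha hb ha1 hb1 hab
    obtain ⟨g', hga', hgb'⟩ := step a' b' ha' hb' ha'1 hb'1 hab'
    refine ⟨g'⁻¹ * g, ?_, ?_⟩
    · rw [show g'⁻¹ * g * a * (g'⁻¹ * g)⁻¹ = g'⁻¹ * (g * a * g⁻¹) * g' by group, hga, ← hga']; group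
    · rw [show g'⁻¹ * g * b * (g'⁻¹ * g)⁻¹ = g'⁻¹ * (g * b * g⁻¹) * g' by group, hgb, ← hgb']; group
  -- no odd element fixes two involutions
  push_neg at hcase
  have hTT : TT φ.range :=
    { fin := inferInstance
      four := hn ▸ h4
      sq := fun x => Subtype.ext ((h.mem_iff _).1 x.2)
      trans := fun u v u' v' hu hv huv hu' hv' huv' => by
        obtain ⟨g, hgu, hgv⟩ := h2 u v u' v' u.2 v.2 u'.2 v'.2 (fun e => hu (Subtype.ext e))
          (fun e => hv (Subtype.ext e)) (fun e => huv (Subtype.ext e)) (fun e => hu' (Subtype.ext e))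
          (fun e => hv' (Subtype.ext e)) (fun e => huv' (Subtype.ext e))
        exact ⟨φ g, ⟨g, rfl⟩, Subtype.ext (by rw [hφ, MulAut.conjNormal_apply, hgu]),
          Subtype.ext (by rw [hφ, MulAut.conjNormal_apply, hgv])⟩
      odd_fix := by
        rintro _ ⟨g, rfl⟩ hodd u v hu hv huv hxu hxv
        by_contra hne
        obtain ⟨a, m, hm, he⟩ :=
          Nat.exists_eq_pow_mul_and_not_dvd (orderOf_pos g).ne' 2 (by norm_num)
        have hd : orderOf (φ g) ∣ m := by
          have h1 : orderOf (φ g) ∣ 2 ^ a * m := he ▸ orderOf_map_dvd φ g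
          exact (Nat.Coprime.pow_right a (Nat.coprime_two_right.2 hodd)).dvd_of_dvd_mul_left h1
        obtain ⟨j, hj⟩ : ∃ j, φ g = φ (g ^ (2 ^ a * j)) := by
          have hco : (2 ^ a).Coprime (orderOf (φ g)) := (Nat.coprime_two_left.2 hodd).pow_left a
          obtain ⟨j, hj⟩ := exists_pow_eq_self_of_coprime hco
          exact ⟨j, by rw [map_pow, pow_mul, hj]⟩
        have hb : Odd (orderOf (g ^ (2 ^ a * j))) := by
          refine (Nat.not_even_iff_odd.1 fun h2 => hm (even_iff_two_dvd.1 h2)).of_dvd_nat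
            (orderOf_dvd_of_pow_eq_one ?_)
          rw [← pow_mul, show 2 ^ a * j * m = 2 ^ a * m * j by ring, ← he, pow_mul,
            pow_orderOf_eq_one, one_pow]
        exact hcase _ hb (hj ▸ hne) u v hu hv huv (hj ▸ hxu) (hj ▸ hxv)
      odd_normalizer := fun g hg hgo hfix τ hτ hn => by
        haveI : Fact (Nat.Prime 3) := ⟨Nat.prime_three⟩
        exact h.odd_normalizer (by norm_num : (3 : ℕ) ≠ 2) hg hgo hfix hτ hn }
  obtain ⟨h8, htop⟩ := hTT.card_eq_eight
  exact h.false_of_full h8 (MonoidHom.range_eq_top.1 htop)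

end CfsgLib.Pyramidal12
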