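import Mathlib
import Cfsg.Agent.S0675
import Cfsg.Agent.Pyramidal12.Central
import Cfsg.Agent.Pyramidal12.NoTwoTrans

/-!
A finite group whose involutions form, with the identity, a normal subgroup of order `p + 1`,
`p` prime, and a single class, is solvable.
-/

set_option autoImplicit false

namespace CfsgLib.Pyramidal12

open IsMulCommutative

variable {Γ : Type} [Group Γ] [Finite Γ] {W : Subgroup Γ}

/-- The kernel of the action on the involutions is solvable, given a transitive element. -/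
theorem Pyr.isSolvable_ker (h : Pyr W) [W.Normal] {e : ℕ} (he : e.Prime)
    (hcard : Nat.card W = 2 ^ e) (hp : (2 ^ e - 1).Prime) {n₀ : Γ}
    (htr : ∀ u v : W, u ≠ 1 → v ≠ 1 → ∃ i : ℕ,
      ((MulAut.conjNormal : Γ →* MulAut W) n₀ ^ i : MulAut W) u = v) :
    Group.IsSolvable (MulAut.conjNormal : Γ →* MulAut W).ker := by
  classical
  haveI : Fact (Nat.Prime 2) := ⟨Nat.prime_two⟩
  haveI := h.comm
  set φ : Γ →* MulAut W := MulAut.conjNormal with hφ
  set C := φ.ker with hC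
  have hcen : ∀ c ∈ C, ∀ w ∈ W, c * w = w * c := by
    intro c hc w hw
    have h1 : φ c ⟨w, hw⟩ = ⟨w, hw⟩ := by rw [MonoidHom.mem_ker.1 hc]; rfl
    have h2 := congrArg Subtype.val h1
    rw [hφ, MulAut.conjNormal_apply] at h2
    exact mul_inv_eq_iff_eq_mul.1 h2
  have hWC : W ≤ C := fun w hw => MonoidHom.mem_ker.2 (MulEquiv.ext fun v => Subtype.ext (by
    rw [hφ, MulAut.conjNormal_apply]
    show w * (v : Γ) * w⁻¹ = v
    rw [show w * (v : Γ) = v * w from congrArg Subtype.val (mul_comm (⟨w, hw⟩ : W) v),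
      mul_inv_cancel_right]))
  set Wc := W.subgroupOf C with hWc
  haveI : Wc.Normal := by rw [hWc]; infer_instance
  have hcentral : ∀ z : C, z * z = 1 → z ∈ Subgroup.center C := fun z hz =>
    Subgroup.mem_center_iff.2 fun c =>
      Subtype.ext (hcen c c.2 z ((h.mem_iff _).2 (congrArg Subtype.val hz)))
  obtain ⟨Q₀⟩ := Sylow.nonempty (p := 2) (G := C)
  by_cases hab : ∀ a ∈ (Q₀ : Subgroup C), ∀ b ∈ (Q₀ : Subgroup C), a * b = b * a
  · exact isSolvable_of_central_involutions Q₀ hab hcentral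
  push Not at hab
  obtain ⟨a₀, ha₀, b₀, hb₀, hne₀⟩ := hab
  -- the transitive element normalizing `Q`
  set Q := (Q₀ : Subgroup C).map C.subtype with hQ
  have hF : Subgroup.normalizer (Q : Set Γ) ⊔ C = ⊤ := Sylow.normalizer_sup_eq_top Q₀
  obtain ⟨n, hn, c, hc, hnc⟩ := Subgroup.mem_sup_of_normal_right.1 (hF ▸ Subgroup.mem_top n₀)
  have hφn : φ n = φ n₀ := by rw [← hnc, map_mul, MonoidHom.mem_ker.1 hc, mul_one]
  rw [← hφn] at htr
  have hQC : Q ≤ C := Subgroup.map_subtype_le _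
  have hWQ₀ : Wc ≤ (Q₀ : Subgroup C) := by
    have hp2 : IsPGroup 2 Wc := fun x => ⟨1, Subtype.ext (Subtype.ext (by
      rw [pow_one, pow_two]; exact (h.mem_iff _).1 x.2))⟩
    exact le_sup_left.trans (le_of_eq (Q₀.is_maximal'
      (hp2.to_sup_of_normal_left Q₀.isPGroup') le_sup_right))
  have hWQ : W ≤ Q := fun w hw => ⟨⟨w, hWC hw⟩, hWQ₀ hw, rfl⟩
  let ψ : Subgroup.normalizer (Q : Set Γ) →* MulAut Q := Subgroup.normalizerMonoidHom Q
  let K : Subgroup (MulAut Q) := Subgroup.zpowers (ψ ⟨n, hn⟩)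
  have hψpow : ∀ (i : ℕ) (x : Q), (((ψ ⟨n, hn⟩ ^ i : MulAut Q) x : Q) : Γ) = n ^ i * x * (n ^ i)⁻¹ := by
    intro i x
    rw [← map_pow]; rfl
  have htau : ∀ (i : ℕ) (w : W), (((φ n ^ i : MulAut W) w : W) : Γ) = n ^ i * w * (n ^ i)⁻¹ := by
    intro i w
    rw [← map_pow, hφ, MulAut.conjNormal_apply]
  have hW4 : 4 ≤ Nat.card W := by
    rw [hcard]
    exact (by norm_num : (4 : ℕ) = 2 ^ 2) ▸ Nat.pow_le_pow_right (by norm_num) he.two_le
  have hS : SuzukiSolv.SCtx Q K :=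
    { fin := inferInstance
      pgroup := Q₀.isPGroup'.map _
      nonabelian := ⟨⟨a₀, ⟨a₀, ha₀, rfl⟩⟩, ⟨b₀, ⟨b₀, hb₀, rfl⟩⟩, fun e0 =>
        hne₀ (Subtype.ext (congrArg (fun x : Q => (x : Γ)) e0))⟩
      two_involutions := by
        letI := Fintype.ofFinite W
        have h3 : 1 < (Finset.univ.erase (1 : W)).card := by
          rw [Finset.card_erase_of_mem (Finset.mem_univ _), Finset.card_univ, ← Nat.card_eq_fintype_card]
          omega
        obtain ⟨u, hu, v, hv, huv⟩ := Finset.one_lt_card.1 h3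
        refine ⟨⟨u, hWQ u.2⟩, ⟨v, hWQ v.2⟩, fun e0 => huv (Subtype.ext (congrArg (fun x : Q => (x : Γ)) e0)),
          fun e0 => Finset.ne_of_mem_erase hu (Subtype.ext (congrArg (fun x : Q => (x : Γ)) e0)),
          Subtype.ext ((h.mem_iff _).1 u.2),
          fun e0 => Finset.ne_of_mem_erase hv (Subtype.ext (congrArg (fun x : Q => (x : Γ)) e0)),
          Subtype.ext ((h.mem_iff _).1 v.2)⟩
      sol := Group.isSolvable_of_comm fun a b => mul_comm a b
      trans := fun x y hx hx2 hy hy2 => by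
        have hxW : (x : Γ) ∈ W := (h.mem_iff _).2 (congrArg Subtype.val hx2)
        have hyW : (y : Γ) ∈ W := (h.mem_iff _).2 (congrArg Subtype.val hy2)
        obtain ⟨i, hi⟩ := htr ⟨x, hxW⟩ ⟨y, hyW⟩
          (fun e0 => hx (Subtype.ext (congrArg (fun w : W => (w : Γ)) e0)))
          (fun e0 => hy (Subtype.ext (congrArg (fun w : W => (w : Γ)) e0)))
        refine ⟨ψ ⟨n, hn⟩ ^ i, Subgroup.npow_mem_zpowers _ _, Subtype.ext ?_⟩
        have := congrArg Subtype.val hi
        rw [htau] at this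
        rw [hψpow]; exact this }
  have hsq : ∀ a ∈ (Q₀ : Subgroup C), (a : Γ) * a ∈ W := fun a ha =>
    (h.mem_iff _).2 (congrArg Subtype.val
      (hS.mem_center_iff.1 (hS.sq_mem_center (⟨a, ⟨a, ha, rfl⟩⟩ : Q))))
  -- the quotient
  set V : Sylow 2 (C ⧸ Wc) := Q₀.mapSurjective (QuotientGroup.mk'_surjective Wc) with hV
  have hlift : ∀ v ∈ (V : Subgroup (C ⧸ Wc)), ∀ a : C, (a : C ⧸ Wc) = v → a ∈ (Q₀ : Subgroup C) := by
    rintro _ ⟨b, hb, rfl⟩ a ha
    have h1 : b⁻¹ * a ∈ Wc := QuotientGroup.eq.1 ha.symm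
    have := mul_mem hb (hWQ₀ h1)
    rwa [mul_inv_cancel_left] at this
  have hout : ∀ v : (V : Subgroup (C ⧸ Wc)), Quotient.out (v : C ⧸ Wc) ∈ (Q₀ : Subgroup C) := fun v =>
    hlift _ v.2 _ (QuotientGroup.out_eq' _)
  let q : ↥(V : Subgroup (C ⧸ Wc)) → W := fun v => ⟨_, hsq _ (hout v)⟩
  have hqmk : ∀ (v : (V : Subgroup (C ⧸ Wc))) (a : C), (a : C ⧸ Wc) = v →
      ((q v : W) : Γ) = (a : Γ) * a := by
    intro v a ha
    obtain ⟨w, hw⟩ := QuotientGroup.mk_out_eq_mul Wc a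
    show ((Quotient.out (v : C ⧸ Wc) : C) : Γ) * (Quotient.out (v : C ⧸ Wc) : C) = _
    rw [← ha, hw]
    push_cast
    have hwc : ((w : C) : Γ) * a = a * (w : C) := (hcen a a.2 _ w.2).symm
    calc (a : Γ) * (w : C) * ((a : Γ) * (w : C)) = (a : Γ) * ((w : C) * a) * (w : C) := by group
      _ = (a : Γ) * (a * (w : C)) * (w : C) := by rw [hwc]
      _ = (a : Γ) * a * (((w : C) : Γ) * (w : C)) := by group
      _ = (a : Γ) * a := by rw [show ((w : C) : Γ) * (w : C) = 1 from (h.mem_iff _).1 w.2, mul_one]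
  have hmemV : ∀ a ∈ (Q₀ : Subgroup C), (a : C ⧸ Wc) ∈ (V : Subgroup (C ⧸ Wc)) := fun a ha => ⟨a, ha, rfl⟩
  have hconjQ : ∀ a ∈ (Q₀ : Subgroup C), ∃ b ∈ (Q₀ : Subgroup C), (b : Γ) = n * a * n⁻¹ := fun a ha =>
    (Subgroup.mem_normalizer_iff.1 hn a).1 ⟨a, ha, rfl⟩
  choose cj hcjQ hcj using hconjQ
  let σf : ↥(V : Subgroup (C ⧸ Wc)) → ↥(V : Subgroup (C ⧸ Wc)) := fun v =>
    ⟨_, hmemV _ (hcjQ _ (hout v))⟩
  have hσinj : Function.Injective σf := by
    intro v v' e0
    have h1 : (cj _ (hout v))⁻¹ * cj _ (hout v') ∈ Wc :=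
      QuotientGroup.eq.1 (congrArg Subtype.val e0)
    have h2 : (Quotient.out (v : C ⧸ Wc))⁻¹ * Quotient.out (v' : C ⧸ Wc) ∈ Wc := by
      show (((Quotient.out (v : C ⧸ Wc))⁻¹ * Quotient.out (v' : C ⧸ Wc) : C) : Γ) ∈ W
      replace h1 : (((cj _ (hout v))⁻¹ * cj _ (hout v') : C) : Γ) ∈ W := h1
      push_cast at h1 ⊢
      rw [hcj _ (hout v), hcj _ (hout v')] at h1
      have := (inferInstance : W.Normal).conj_mem _ h1 n⁻¹
      convert this using 1
      group
    have h3 := QuotientGroup.eq.2 h2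
    rw [QuotientGroup.out_eq', QuotientGroup.out_eq'] at h3
    exact Subtype.ext h3
  let σ : (V : Subgroup (C ⧸ Wc)) ≃ (V : Subgroup (C ⧸ Wc)) :=
    Equiv.ofBijective σf (Finite.injective_iff_bijective.1 hσinj)
  have hw2 : ∀ w : W, w * w = 1 := fun w => Subtype.ext ((h.mem_iff _).1 w.2)
  have hA : Aniso V W e q σ (φ n) :=
    { prime := he
      card := hcard
      prime' := hp
      sqW := hw2
      sq := fun v hv => by
        obtain ⟨a, ha, rfl⟩ := hv
        exact (QuotientGroup.eq_one_iff _).2 (hsq a ha)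
      nontrivial := by
        by_contra hnt
        rw [not_nontrivial_iff_subsingleton] at hnt
        have hmem : ∀ a ∈ (Q₀ : Subgroup C), (a : Γ) ∈ W := fun a ha =>
          ((QuotientGroup.eq_one_iff a).1 (congrArg Subtype.val
            (Subsingleton.elim (⟨_, hmemV a ha⟩ : (V : Subgroup (C ⧸ Wc))) 1)))
        exact hne₀ (Subtype.ext (hcen a₀ a₀.2 b₀ (hmem b₀ hb₀)))
      zero := fun v => by
        constructor
        · intro hv
          have h1 : ((Quotient.out (v : C ⧸ Wc) : C) : Γ) ∈ W :=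
            (h.mem_iff _).2 (congrArg Subtype.val hv)
          refine Subtype.ext ?_
          rw [← QuotientGroup.out_eq' (v : C ⧸ Wc)]
          exact (QuotientGroup.eq_one_iff _).2 h1
        · rintro rfl
          refine Subtype.ext ?_
          rw [hqmk 1 1 rfl]
          simp
      bilin := fun x y z => by
        obtain ⟨a, ha⟩ : ∃ a, a = Quotient.out (x : C ⧸ Wc) := ⟨_, rfl⟩
        obtain ⟨b, hb⟩ : ∃ b, b = Quotient.out (y : C ⧸ Wc) := ⟨_, rfl⟩
        obtain ⟨d, hd⟩ : ∃ d, d = Quotient.out (z : C ⧸ Wc) := ⟨_, rfl⟩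
        have hx : (a : C ⧸ Wc) = x := ha ▸ QuotientGroup.out_eq' _
        have hy : (b : C ⧸ Wc) = y := hb ▸ QuotientGroup.out_eq' _
        have hz : (d : C ⧸ Wc) = z := hd ▸ QuotientGroup.out_eq' _
        have hsqQ : ∀ g : Q, g * g ∈ W.subgroupOf Q := fun g =>
          Subgroup.mem_subgroupOf.2 ((h.mem_iff _).2 (congrArg Subtype.val
            (hS.mem_center_iff.1 (hS.sq_mem_center g))))
        have hcQ : W.subgroupOf Q ≤ Subgroup.center Q := fun w hw =>
          Subgroup.mem_center_iff.2 fun g => Subtype.ext (hcen g (hQC g.2) w hw)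
        let A : Q := ⟨a, ⟨a, ha ▸ hout x, rfl⟩⟩
        let B : Q := ⟨b, ⟨b, hb ▸ hout y, rfl⟩⟩
        let D : Q := ⟨d, ⟨d, hd ▸ hout z, rfl⟩⟩
        let T : Q → Q → W := fun g g' => ⟨_, Subgroup.mem_subgroupOf.1 (QuadMap.tcomm_mem hsqQ g g')⟩
        let S : Q → W := fun g => ⟨_, Subgroup.mem_subgroupOf.1 (hsqQ g)⟩
        have hS2 : ∀ g g', S (g * g') = S g * T g g' * S g' := fun g g' =>
          Subtype.ext (congrArg (fun t : Q => (t : Γ)) (QuadMap.mul_self_mul hsqQ hcQ g g'))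
        have hT : ∀ g g' g'', T (g * g') g'' = T g g'' * T g' g'' := fun g g' g'' =>
          Subtype.ext (congrArg (fun t : Q => (t : Γ)) (QuadMap.tcomm_mul_left hsqQ hcQ g g' g''))
        have e1 : q x = S A := Subtype.ext (hqmk x a hx)
        have e2 : q y = S B := Subtype.ext (hqmk y b hy)
        have e3 : q z = S D := Subtype.ext (hqmk z d hz)
        have e4 : q (x * y) = S (A * B) := Subtype.ext (hqmk _ (a * b) (by simp [hx, hy]))
        have e5 : q (x * z) = S (A * D) := Subtype.ext (hqmk _ (a * d) (by simp [hx, hz]))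
        have e6 : q (y * z) = S (B * D) := Subtype.ext (hqmk _ (b * d) (by simp [hy, hz]))
        have e7 : q (x * y * z) = S (A * B * D) :=
          Subtype.ext (hqmk _ (a * b * d) (by simp [hx, hy, hz]))
        have key : ∀ U T' U' : W, U * T' * U' * U * U' = T' := fun U T' U' => by
          calc U * T' * U' * U * U' = (U * U) * (U' * U') * T' := by ac_rfl
            _ = T' := by rw [hw2, hw2, one_mul, one_mul]
        rw [e1, e2, e3, e4, e5, e6, e7, hS2 (A * B) D, hS2 A D, hS2 B D, hT A B D, key, key, key]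
      inv := fun g v v' hg => by
        induction g using QuotientGroup.induction_on with
        | _ c =>
          refine Subtype.ext ?_
          have hv := QuotientGroup.out_eq' (v : C ⧸ Wc)
          rw [hqmk v' (c * Quotient.out (v : C ⧸ Wc) * c⁻¹) (by simp [hv, ← hg]),
            hqmk v _ hv]
          push_cast
          set o := ((Quotient.out (v : C ⧸ Wc) : C) : Γ)
          calc (c : Γ) * o * (c : Γ)⁻¹ * ((c : Γ) * o * (c : Γ)⁻¹) = (c : Γ) * (o * o) * (c : Γ)⁻¹ := by group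
            _ = o * o := by rw [hcen c c.2 _ (hsq _ (hout v)), mul_inv_cancel_right]
      trans := fun u v hu hv => htr u v hu hv
      equiv := fun v => Subtype.ext (by
        show ((q (σf v) : W) : Γ) = _
        rw [hqmk (σf v) _ rfl, hcj _ (hout v), hφ, MulAut.conjNormal_apply]
        show _ = n * (((Quotient.out (v : C ⧸ Wc) : C) : Γ) * (Quotient.out (v : C ⧸ Wc) : C)) * n⁻¹
        group) }
  haveI := hA.isSolvable
  haveI : Group.IsSolvable Wc := Group.isSolvable_of_comm fun a b =>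
    Subtype.ext (Subtype.ext (hcen _ a.1.2 _ b.2))
  exact (Group.isSolvable_iff_subgroup_quotient Wc).2 ⟨inferInstance, inferInstance⟩

/-- **One class of `p` involutions forming an elementary group.** -/
theorem Pyr.isSolvable (h : Pyr W) {e : ℕ} (he : e.Prime) (hcard : Nat.card W = 2 ^ e)
    (hp : (2 ^ e - 1).Prime)
    (hcl : ∀ x y : Γ, x ∈ W → y ∈ W → x ≠ 1 → y ≠ 1 → ∃ g : Γ, g * x * g⁻¹ = y) :
    Group.IsSolvable Γ := by
  classical
  haveI := h.normal
  set φ : Γ →* MulAut W := MulAut.conjNormal with hφ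
  let ρ : Γ →* Equiv.Perm {w : W // w ≠ 1} :=
    { toFun := fun g => (φ g).toEquiv.subtypeEquiv fun a => by simp
      map_one' := by ext w; simp
      map_mul' := fun g g' => by ext w; simp }
  have hρ : ∀ (g : Γ) (w : {w : W // w ≠ 1}), ((ρ g w : {w : W // w ≠ 1}) : W) = φ g (w : W) :=
    fun g w => rfl
  letI := Fintype.ofFinite W
  have hα : Fintype.card {w : W // w ≠ 1} = 2 ^ e - 1 := by
    rw [Fintype.card_subtype_compl, Fintype.card_subtype_eq, ← Nat.card_eq_fintype_card, hcard]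
  have htransα : ∀ a b : {w : W // w ≠ 1}, ∃ g : Γ, ρ g a = b := by
    intro a b
    obtain ⟨g, hg⟩ := hcl (a.1 : Γ) (b.1 : Γ) a.1.2 b.1.2 (fun e0 => a.2 (Subtype.ext e0))
      (fun e0 => b.2 (Subtype.ext e0))
    exact ⟨g, Subtype.ext (Subtype.ext (by rw [hρ, hφ, MulAut.conjNormal_apply]; exact hg))⟩
  haveI : MulAction.IsPretransitive ρ.range {w : W // w ≠ 1} := ⟨fun a b => by
    obtain ⟨g, hg⟩ := htransα a b
    exact ⟨⟨ρ g, g, rfl⟩, hg⟩⟩
  have hsolX : Group.IsSolvable ρ.range := by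
    refine (Cfsg.Agent.S0675.result (hα.symm ▸ hp) ρ.range).resolve_right fun h2 => ?_
    refine h.not_trans2 _ rfl ?_ fun u v u' v' hu hv hu' hv' hu1 hv1 huv hu'1 hv'1 huv' => ?_
    · rw [hcard]
      exact (by norm_num : (4 : ℕ) = 2 ^ 2) ▸ Nat.pow_le_pow_right (by norm_num) he.two_le
    rw [MulAction.is_two_pretransitive_iff] at h2
    obtain ⟨⟨_, g, rfl⟩, hgu, hgv⟩ := h2
      (a := ⟨⟨u, hu⟩, fun e0 => hu1 (congrArg (fun w : W => (w : Γ)) e0)⟩)
      (b := ⟨⟨v, hv⟩, fun e0 => hv1 (congrArg (fun w : W => (w : Γ)) e0)⟩)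
      (c := ⟨⟨u', hu'⟩, fun e0 => hu'1 (congrArg (fun w : W => (w : Γ)) e0)⟩)
      (d := ⟨⟨v', hv'⟩, fun e0 => hv'1 (congrArg (fun w : W => (w : Γ)) e0)⟩)
      (fun e0 => huv (congrArg (fun w : {w : W // w ≠ 1} => ((w : W) : Γ)) e0))
      (fun e0 => huv' (congrArg (fun w : {w : W // w ≠ 1} => ((w : W) : Γ)) e0))
    exact ⟨g, congrArg (fun w : {w : W // w ≠ 1} => ((w : W) : Γ)) hgu,
      congrArg (fun w : {w : W // w ≠ 1} => ((w : W) : Γ)) hgv⟩
  -- a transitive element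
  haveI : Nonempty {w : W // w ≠ 1} := Fintype.card_pos_iff.1 (hα.symm ▸ hp.pos)
  obtain ⟨a₀⟩ := (inferInstance : Nonempty {w : W // w ≠ 1})
  have hdvd : 2 ^ e - 1 ∣ Nat.card ρ.range := by
    rw [← hα, ← Nat.card_eq_fintype_card,
      ← MulAction.index_stabilizer_of_transitive ρ.range a₀]
    exact Subgroup.index_dvd_card _
  haveI := Fact.mk hp
  obtain ⟨⟨_, n₀, rfl⟩, hord⟩ := exists_prime_orderOf_dvd_card' (G := ρ.range) (2 ^ e - 1) hdvd
  replace hord : orderOf (ρ n₀) = 2 ^ e - 1 :=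
    (orderOf_injective ρ.range.subtype ρ.range.subtype_injective ⟨ρ n₀, n₀, rfl⟩).trans hord
  have hcyc : (ρ n₀).IsCycle :=
    Equiv.Perm.isCycle_of_prime_order'' (hα.symm ▸ hp) (hord.trans hα.symm)
  have hsupp : ∀ a, ρ n₀ a ≠ a := by
    intro a
    have h1 : (ρ n₀).support.card = Fintype.card {w : W // w ≠ 1} := by
      rw [← hcyc.orderOf, hord, hα]
    exact Equiv.Perm.mem_support.1 ((Finset.eq_univ_of_card _ h1).symm ▸ Finset.mem_univ a)
  have htr : ∀ u v : W, u ≠ 1 → v ≠ 1 → ∃ i : ℕ, (φ n₀ ^ i : MulAut W) u = v := by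
    intro u v hu hv
    obtain ⟨i, hi⟩ := hcyc.exists_pow_eq (hsupp ⟨u, hu⟩) (hsupp ⟨v, hv⟩)
    refine ⟨i, ?_⟩
    rw [← map_pow] at hi ⊢
    exact congrArg Subtype.val hi
  haveI : Group.IsSolvable φ.ker := h.isSolvable_ker he hcard hp htr
  haveI : Group.IsSolvable ρ.range := hsolX
  refine Group.isSolvable_of_ker_le_range φ.ker.subtype ρ.rangeRestrict ?_
  rw [MonoidHom.ker_rangeRestrict, Subgroup.range_subtype]
  intro g hg
  refine MonoidHom.mem_ker.2 (MulEquiv.ext fun w => ?_)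
  by_cases hw : w = 1
  · subst hw; simp
  · have := Equiv.ext_iff.1 (MonoidHom.mem_ker.1 hg) ⟨w, hw⟩
    exact congrArg Subtype.val this

end CfsgLib.Pyramidal12
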