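import Mathlib
import Cfsg.Agent.Eq.Def_Solvable
import Cfsg.Agent.Constrained.Basic
import Cfsg.Agent.Chars.Apps.Burnside
import Cfsg.Agent.OddTransp48.Swappers
import Cfsg.Agent.Pyramidal12.Good
import Cfsg.Agent.Pyramidal12.Example
import Cfsg.Agent.Pyramidal12.Mersenne

/-!
Groups with one class of involutions of odd prime power size.
-/

set_option autoImplicit false

namespace CfsgLib.Pyramidal12

open Cfsg
open scoped commutatorElement

section Class

variable {G : Type} [Group G] [Finite G]

theorem card_involutions {t : G} (ht : orderOf t = 2)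
    (hcl : ∀ x y : G, orderOf x = 2 → orderOf y = 2 → ∃ g : G, g * x * g⁻¹ = y) :
    Nat.card {x : G // orderOf x = 2} = (Subgroup.centralizer ({t} : Set G)).index := by
  classical
  have hset : {x : G | orderOf x = 2} = conjugatesOf t := by
    ext x
    refine ⟨fun hx => isConj_iff.2 (hcl t x ht hx), fun hx => ?_⟩
    obtain ⟨c, rfl⟩ := isConj_iff.1 hx
    show orderOf (c * t * c⁻¹) = 2
    rw [show c * t * c⁻¹ = MulAut.conj c t from rfl, MulEquiv.orderOf_eq, ht]
  have h1 : Nat.card {x : G // orderOf x = 2} = Nat.card (MulAction.orbit (ConjAct G) t) := by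
    refine Nat.card_congr (Equiv.subtypeEquivRight fun x => ?_)
    rw [ConjAct.mem_orbit_conjAct, show (orderOf x = 2 ↔ x ∈ {x : G | orderOf x = 2}) from Iff.rfl, hset]
    exact ⟨fun h => IsConj.symm h, fun h => IsConj.symm h⟩
  rw [h1, Nat.card_congr (MulAction.orbitEquivQuotientStabilizer (ConjAct G) t), ← Subgroup.index]
  rw [ConjAct.stabilizer_eq_centralizer]
  rfl

theorem index_map_centralizer_dvd {H : Type*} [Group H] (f : G →* H) (hf : Function.Surjective f)
    (t : G) : (Subgroup.centralizer ({f t} : Set H)).index ∣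
      (Subgroup.centralizer ({t} : Set G)).index := by
  refine (Subgroup.index_dvd_of_le (H := (Subgroup.centralizer ({t} : Set G)).map f) ?_).trans
    (Subgroup.index_map_dvd _ hf)
  rintro _ ⟨x, hx, rfl⟩
  refine Subgroup.mem_centralizer_singleton_iff.2 ?_
  rw [← map_mul, ← map_mul, Subgroup.mem_centralizer_singleton_iff.1 hx]

/-- A perfect subgroup containing all involutions of a group contains them in every maximal
normal subgroup of its, when their class sizes are powers of a prime. -/
theorem mem_of_maximal_normal {N : Type} [Group N] [Finite N] (hperf : commutator N = ⊤) {p j : ℕ}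
    (hp : p.Prime) {g : N} (hidx : (Subgroup.centralizer ({g} : Set N)).index ∣ p ^ j)
    {M : Subgroup N} [M.Normal] (hM : M ≠ ⊤)
    (hmax : ∀ L : Subgroup N, L.Normal → M ≤ L → L = M ∨ L = ⊤) : g ∈ M := by
  haveI : Nontrivial (N ⧸ M) := QuotientGroup.nontrivial_iff.2 hM
  haveI : IsSimpleGroup (N ⧸ M) := ⟨fun L hL => by
    rcases hmax (L.comap (QuotientGroup.mk' M)) (hL.comap _) (by
      intro x hx
      rw [Subgroup.mem_comap, QuotientGroup.mk'_apply, (QuotientGroup.eq_one_iff x).2 hx]
      exact one_mem L) with h | h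
    · left
      rw [← Subgroup.map_comap_eq_self_of_surjective (QuotientGroup.mk'_surjective M) L, h,
        QuotientGroup.map_mk'_self]
    · right
      rw [← Subgroup.map_comap_eq_self_of_surjective (QuotientGroup.mk'_surjective M) L, h,
        Subgroup.map_top_of_surjective _ (QuotientGroup.mk'_surjective M)]⟩
  have hna : ¬ IsMulCommutative (N ⧸ M) := fun hc => hM (top_le_iff.1 (hperf ▸ by
    rw [commutator_def, Subgroup.commutator_le]
    intro a _ b _
    rw [← QuotientGroup.eq_one_iff, commutatorElement_def]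
    simp only [QuotientGroup.mk_mul, QuotientGroup.mk_inv]
    rw [hc.is_comm.comm (a : N ⧸ M) (b : N ⧸ M)]
    group))
  by_contra hg
  obtain ⟨i, -, hi⟩ := (Nat.dvd_prime_pow hp).1
    ((index_map_centralizer_dvd (QuotientGroup.mk' M) (QuotientGroup.mk'_surjective M) g).trans hidx)
  exact Chars.Apps.not_prime_pow_index_centralizer_of_isSimpleGroup hna hp _
    (fun h => hg ((QuotientGroup.eq_one_iff g).1 h)) hi

end Class

/-- One class of `p ^ k > 1` involutions and no normal subgroup of odd order: solvable. -/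
theorem isSolvable_reduced {H : Type} [Group H] [Finite H] {p k : ℕ} (hp : p.Prime) (hp2 : p ≠ 2)
    (hk : 1 ≤ k) (hcount : Nat.card {x : H // orderOf x = 2} = p ^ k)
    (hcl : ∀ x y : H, orderOf x = 2 → orderOf y = 2 → ∃ g : H, g * x * g⁻¹ = y)
    (hO : ∀ N : Subgroup H, N.Normal → Odd (Nat.card N) → N = ⊥) : Group.IsSolvable H := by
  classical
  haveI : Fact (Nat.Prime 2) := ⟨Nat.prime_two⟩
  obtain ⟨⟨t, ht⟩⟩ : Nonempty {x : H // orderOf x = 2} := (Nat.card_pos_iff.1 (by
    rw [hcount]; exact pow_pos hp.pos k)).1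
  have ht1 : t ≠ 1 := fun h => by rw [h, orderOf_one] at ht; norm_num at ht
  haveI : Nontrivial H := ⟨⟨t, 1, ht1⟩⟩
  have hidx : (Subgroup.centralizer ({t} : Set H)).index = p ^ k := by
    rw [← card_involutions ht hcl, hcount]
  -- a minimal normal subgroup
  obtain ⟨N, ⟨hNn, hNb⟩, hNmin⟩ := Set.Finite.exists_minimal
    (Set.toFinite {N : Subgroup H | N.Normal ∧ N ≠ ⊥})
    ⟨⊤, inferInstance, fun h => ht1 (Subgroup.mem_bot.1 (h ▸ Subgroup.mem_top t))⟩
  haveI := hNn
  have hmin : ∀ L : Subgroup H, L.Normal → L ≤ N → L ≠ ⊥ → L = N := fun L hLn hLN hLb =>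
    le_antisymm hLN (hNmin ⟨hLn, hLb⟩ hLN)
  have hinv : ∀ x : H, orderOf x = 2 → x ∈ N := by
    have heven : Even (Nat.card N) := Nat.not_odd_iff_even.1 fun h => hNb (hO N hNn h)
    obtain ⟨s, hs⟩ := exists_prime_orderOf_dvd_card' 2 (even_iff_two_dvd.1 heven)
    intro x hx
    obtain ⟨g, rfl⟩ := hcl s x (by rw [Subgroup.orderOf_coe]; exact hs) hx
    exact hNn.conj_mem _ s.2 g
  -- it is abelian
  have hcommN : ∀ a ∈ N, ∀ b ∈ N, a * b = b * a := by
    by_contra hna
    have hperf : commutator N = ⊤ := by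
      by_contra hne
      have h1 : (commutator N).map N.subtype = ⊥ := by
        by_contra hb
        apply hne
        apply Subgroup.map_injective N.subtype_injective
        rw [← MonoidHom.range_eq_map, Subgroup.range_subtype]
        exact hmin _ inferInstance (Subgroup.map_subtype_le _) hb
      apply hna
      intro a ha b hb
      have h2 : ⁅(⟨a, ha⟩ : N), (⟨b, hb⟩ : N)⁆ ∈ commutator N :=
        Subgroup.commutator_mem_commutator (Subgroup.mem_top _) (Subgroup.mem_top _)
      have h3 := Subgroup.mem_bot.1 (h1 ▸ Subgroup.mem_map_of_mem N.subtype h2)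
      exact commutatorElement_eq_one_iff_mul_comm.1 (by simpa [commutatorElement_def] using h3)
    obtain ⟨M, ⟨hMn, hMt⟩, hMmax⟩ := Set.Finite.exists_maximal
      (Set.toFinite {M : Subgroup N | M.Normal ∧ M ≠ ⊤})
      ⟨⊥, inferInstance, fun h => by
        have := Subgroup.mem_bot.1 (h ▸ Subgroup.mem_top (⟨t, hinv t ht⟩ : N))
        exact ht1 (congrArg Subtype.val this)⟩
    haveI := hMn
    have hmax : ∀ L : Subgroup N, L.Normal → M ≤ L → L = M ∨ L = ⊤ := fun L hLn hML => by
      by_cases hLt : L = ⊤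
      · exact Or.inr hLt
      · exact Or.inl (le_antisymm (hMmax ⟨hLn, hLt⟩ hML) hML)
    have hallM : ∀ x : H, ∀ hx : orderOf x = 2, (⟨x, hinv x hx⟩ : N) ∈ M := by
      intro x hx
      refine mem_of_maximal_normal hperf hp (j := k) ?_ hMt hmax
      have hx' : (Subgroup.centralizer ({x} : Set H)).index = p ^ k := by
        rw [← card_involutions hx hcl, hcount]
      rw [← hx']
      have : Subgroup.centralizer ({(⟨x, hinv x hx⟩ : N)} : Set N) =
          (Subgroup.centralizer ({x} : Set H)).subgroupOf N := by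
        ext y
        simp only [Subgroup.mem_subgroupOf, Subgroup.mem_centralizer_singleton_iff, Subtype.ext_iff,
          Subgroup.coe_mul]
      rw [this]
      show (Subgroup.centralizer ({x} : Set H)).relIndex N ∣ _
      set Cx := Subgroup.centralizer ({x} : Set H)
      have e1 : Cx.relIndex N * N.index = N.relIndex Cx * Cx.index := by
        rw [← Subgroup.inf_relIndex_right, Subgroup.relIndex_mul_index inf_le_right,
          ← Subgroup.inf_relIndex_right N Cx, Subgroup.relIndex_mul_index inf_le_right, inf_comm]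
      obtain ⟨s, hs⟩ := Subgroup.relIndex_dvd_index_of_normal N Cx
      refine ⟨s, Nat.eq_of_mul_eq_mul_left (Nat.pos_of_ne_zero Subgroup.index_ne_zero_of_finite :
        0 < N.relIndex Cx) ?_⟩
      rw [← e1, hs]; ring
    set L := Subgroup.normalClosure ({x : H | orderOf x = 2}) with hL
    have hLM : L ≤ M.map N.subtype := by
      rw [hL, Subgroup.normalClosure, Subgroup.closure_le]
      intro y hy
      obtain ⟨x, hx, hxy⟩ := Group.mem_conjugatesOfSet_iff.1 hy
      obtain ⟨c, rfl⟩ := isConj_iff.1 hxy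
      have h2 : orderOf (c * x * c⁻¹) = 2 := by
        rw [show c * x * c⁻¹ = MulAut.conj c x from rfl, MulEquiv.orderOf_eq]; exact hx
      exact ⟨_, hallM _ h2, rfl⟩
    have hLb : L ≠ ⊥ := fun h => ht1 (Subgroup.mem_bot.1 (h ▸ Subgroup.subset_normalClosure ht))
    have hLN : L = N := hmin L Subgroup.normalClosure_normal
      (hLM.trans (Subgroup.map_subtype_le _)) hLb
    refine hMt (top_le_iff.1 fun y _ => ?_)
    obtain ⟨z, hz, hzy⟩ := hLM (show (y : H) ∈ L by rw [hLN]; exact y.2)
    rw [← (Subtype.ext hzy : z = y)]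
    exact hz
  -- the involutions with the identity form `N`
  let W : Subgroup H :=
    { carrier := {x | x * x = 1}
      one_mem' := mul_one 1
      mul_mem' := fun {a b} ha hb => by
        have hmem : ∀ c : H, c * c = 1 → c ∈ N := fun c hc => by
          by_cases h1 : c = 1
          · exact h1 ▸ one_mem N
          · exact hinv c (orderOf_eq_prime (by rw [pow_two]; exact hc) h1)
        have hab := hcommN a (hmem a ha) b (hmem b hb)
        show a * b * (a * b) = 1
        rw [Set.mem_setOf_eq] at ha hb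
        calc a * b * (a * b) = a * (b * a) * b := by group
          _ = a * (a * b) * b := by rw [hab]
          _ = (a * a) * (b * b) := by group
          _ = 1 := by rw [ha, hb, one_mul]
      inv_mem' := fun {a} ha => by
        show a⁻¹ * a⁻¹ = 1
        rw [← mul_inv_rev, show a * a = 1 from ha, inv_one] }
  have hWn : W.Normal := ⟨fun x hx g => by
    show g * x * g⁻¹ * (g * x * g⁻¹) = 1
    rw [conj_mul, show x * x = 1 from hx, mul_one, mul_inv_cancel]⟩
  have hW : Pyr W := ⟨hWn, fun x => Iff.rfl⟩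
  have hord : ∀ x : H, x ∈ W ∧ x ≠ 1 ↔ orderOf x = 2 := fun x => by
    refine ⟨fun h => orderOf_eq_prime (by rw [pow_two]; exact h.1) h.2, fun h => ⟨?_, ?_⟩⟩
    · show x * x = 1
      have := pow_orderOf_eq_one x
      rwa [h, pow_two] at this
    · rintro rfl
      rw [orderOf_one] at h
      norm_num at h
  have hcardW : Nat.card W = p ^ k + 1 := by
    letI := Fintype.ofFinite W
    have e1 : Nat.card {w : W // w ≠ 1} = p ^ k := by
      rw [← hcount]
      exact Nat.card_congr
        { toFun := fun w => ⟨(w.1 : H), (hord _).1 ⟨w.1.2, fun e => w.2 (Subtype.ext e)⟩⟩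
          invFun := fun x => ⟨⟨x.1, ((hord _).2 x.2).1⟩, fun e =>
            ((hord _).2 x.2).2 (congrArg Subtype.val e)⟩
          left_inv := fun _ => rfl
          right_inv := fun _ => rfl }
    rw [Nat.card_eq_fintype_card, Fintype.card_subtype_compl, Fintype.card_subtype_eq] at e1
    rw [Nat.card_eq_fintype_card]
    have := Fintype.card_pos (α := W)
    omega
  have hW2 : IsPGroup 2 W := fun x => ⟨1, Subtype.ext (by rw [pow_one, pow_two]; exact x.2)⟩
  obtain ⟨e, he⟩ := hW2.exists_card_eq
  rw [hcardW] at he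
  have h3 : 3 ≤ p ^ k := le_trans (by have := hp.two_le; omega) (Nat.le_self_pow (by omega) p)
  have he2 : 2 ≤ e := by
    by_contra hlt
    have : 2 ^ e ≤ 2 := (Nat.pow_le_pow_right (by norm_num) (by omega : e ≤ 1)).trans (by norm_num)
    omega
  have hk1 := OddTransp48.two_pow_sub_one_eq_prime hp hp2 he2 he
  rw [hk1, pow_one] at he hcardW
  have hpe : 2 ^ e - 1 = p := by omega
  have hep : e.Prime := (Nat.prime_of_pow_sub_one_prime (by omega : e ≠ 1) (hpe.symm ▸ hp)).2
  exact hW.isSolvable hep (hcardW.trans he) (hpe.symm ▸ hp) fun x y hx hy hx1 hy1 =>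
    hcl x y ((hord x).1 ⟨hx, hx1⟩) ((hord y).1 ⟨hy, hy1⟩)

/-- The count is a good square or the group is solvable. -/
theorem isSolvable_or_good {G : Type} [Group G] [Finite G] {p k : ℕ} (hp : p.Prime) (hp2 : p ≠ 2)
    (hcount : Nat.card {x : G // orderOf x = 2} = p ^ k)
    (hcl : ∀ x y : G, orderOf x = 2 → orderOf y = 2 → ∃ g : G, g * x * g⁻¹ = y) :
    Group.IsSolvable G ∨ Good (p ^ k) := by
  classical
  haveI : Fact (Nat.Prime 2) := ⟨Nat.prime_two⟩
  obtain ⟨⟨t, ht⟩⟩ : Nonempty {x : G // orderOf x = 2} := (Nat.card_pos_iff.1 (by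
    rw [hcount]; exact pow_pos hp.pos k)).1
  set O := pPrimeCore 2 G with hOdef
  have hOodd : Odd (Nat.card O) := Nat.not_even_iff_odd.1 fun h =>
    Constrained.pPrimeCore_not_dvd (p := 2) (G := G) (even_iff_two_dvd.1 h)
  have hidx : (Subgroup.centralizer ({t} : Set G)).index = p ^ k := by
    rw [← card_involutions ht hcl, hcount]
  set f := QuotientGroup.mk' O with hf
  have hfsurj : Function.Surjective f := QuotientGroup.mk'_surjective O
  have hlift : ∀ y : G ⧸ O, orderOf y = 2 → ∃ x : G, orderOf x = 2 ∧ f x = y := by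
    intro y hy
    obtain ⟨g, rfl⟩ := hfsurj y
    obtain ⟨a, m, hm, he⟩ :=
      Nat.exists_eq_pow_mul_and_not_dvd (orderOf_pos g).ne' 2 (by norm_num)
    -- the two part of a preimage has order two
    obtain ⟨l, hl⟩ : Odd m := Nat.not_even_iff_odd.1 fun h => hm (even_iff_two_dvd.1 h)
    have hm0 : m ≠ 0 := fun h => hm (by rw [h]; exact dvd_zero 2)
    have hd : orderOf (g ^ m) = 2 ^ a := by
      rw [orderOf_pow_of_dvd hm0 (he ▸ dvd_mul_left m _), he,
        Nat.mul_div_cancel _ (Nat.pos_of_ne_zero hm0)]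
    have hy2 : f g ^ 2 = 1 := orderOf_dvd_iff_pow_eq_one.1 hy.dvd
    have hfm : f (g ^ m) = f g := by
      rw [map_pow, hl, pow_succ, pow_mul, hy2, one_pow, one_mul]
    refine ⟨g ^ m, ?_, hfm⟩
    have hsqO : (g ^ m) ^ 2 ∈ O := by
      rw [← QuotientGroup.eq_one_iff]
      show f ((g ^ m) ^ 2) = 1
      rw [map_pow, hfm, hy2]
    have h2 : orderOf ((g ^ m) ^ 2) ∣ Nat.card O := by
      have := orderOf_dvd_natCard (⟨_, hsqO⟩ : O)
      rwa [Subgroup.orderOf_mk] at this
    have h3 : orderOf ((g ^ m) ^ 2) ∣ 2 ^ a := hd ▸ orderOf_pow_dvd 2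
    have h1 : (g ^ m) ^ 2 = 1 := orderOf_eq_one_iff.1
      (Nat.eq_one_of_dvd_coprimes ((Nat.coprime_two_left.2 hOodd).pow_left a) h3 h2)
    exact orderOf_eq_prime h1 fun h => by
      rw [h, map_one] at hfm; rw [← hfm, orderOf_one] at hy; norm_num at hy
  have hclQ : ∀ x y : G ⧸ O, orderOf x = 2 → orderOf y = 2 → ∃ g : G ⧸ O, g * x * g⁻¹ = y := by
    intro x y hx hy
    obtain ⟨a, ha, rfl⟩ := hlift x hx
    obtain ⟨b, hb, rfl⟩ := hlift y hy
    obtain ⟨g, rfl⟩ := hcl a b ha hb
    exact ⟨f g, by simp only [map_mul, map_inv]⟩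
  have hft : orderOf (f t) = 2 := by
    refine orderOf_eq_prime (by rw [← map_pow, orderOf_dvd_iff_pow_eq_one.1 ht.dvd, map_one]) fun h => ?_
    have h1 : t ∈ O := (QuotientGroup.eq_one_iff t).1 h
    have h2 := orderOf_dvd_natCard (⟨t, h1⟩ : O)
    rw [Subgroup.orderOf_mk, ht] at h2
    exact Nat.not_even_iff_odd.2 hOodd (even_iff_two_dvd.2 h2)
  obtain ⟨j, -, hj⟩ := (Nat.dvd_prime_pow hp).1
    (hidx ▸ index_map_centralizer_dvd f hfsurj t)
  rcases Nat.eq_zero_or_pos j with rfl | hj0
  · -- a unique involution modulo the core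
    by_cases hs : Group.IsSolvable G
    · exact Or.inl hs
    refine Or.inr (hidx ▸ good_index_centralizer ht hs (O := O) hOodd fun x hx => ?_)
    obtain ⟨g, rfl⟩ := hcl t x ht hx
    rw [pow_zero, Subgroup.index_eq_one] at hj
    have hc : f g * f t = f t * f g :=
      Subgroup.mem_centralizer_singleton_iff.1 (hj.symm ▸ Subgroup.mem_top (f g))
    rw [← QuotientGroup.eq_one_iff]
    show f (t * (g * t * g⁻¹)) = 1
    rw [map_mul, map_mul, map_mul, hc, map_inv, mul_inv_cancel_right, ← pow_two,
      orderOf_dvd_iff_pow_eq_one.1 hft.dvd]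
  · left
    haveI : Group.IsSolvable (G ⧸ O) := by
      refine isSolvable_reduced hp hp2 hj0 (by rw [card_involutions hft hclQ, hj]) hclQ
        fun N hN hodd => le_bot_iff.1 ?_
      rw [← Constrained.pPrimeCore_quotient_pPrimeCore (p := 2) (G := G)]
      exact Constrained.le_pPrimeCore_of_not_dvd hN fun h =>
        Nat.not_even_iff_odd.2 hodd (even_iff_two_dvd.2 h)
    haveI : Group.IsSolvable O := Cfsg.Agent.S0205.result hOodd
    exact (Group.isSolvable_iff_subgroup_quotient O).2 ⟨inferInstance, inferInstance⟩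

/-- **One class of involutions of odd prime power size.** -/
theorem forall_isSolvable_iff (p k : ℕ) (hp : p.Prime) (hp2 : p ≠ 2) (hk : 1 ≤ k) :
    (∀ (G : Type) [Group G] [Finite G], Nat.card {x : G // orderOf x = 2} = p ^ k →
      (∀ x y : G, orderOf x = 2 → orderOf y = 2 → ∃ g : G, g * x * g⁻¹ = y) → Group.IsSolvable G) ↔
      (Odd k ∨ p ^ k = 9) := by
  classical
  constructor
  · intro h
    by_contra hc
    push Not at hc
    obtain ⟨hkodd, h9⟩ := hc
    obtain ⟨j, hj⟩ := Nat.not_odd_iff_even.1 hkodd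
    haveI := Fact.mk hp
    haveI := Fintype.ofFinite (GaloisField p j)
    have hcard : Fintype.card (GaloisField p j) = p ^ j := by
      rw [← Nat.card_eq_fintype_card, GaloisField.card p j (by omega)]
    have h2 : (2 : GaloisField p j) ≠ 0 :=
      Ring.two_ne_zero (by rw [ringChar.eq (GaloisField p j) p]; exact hp2)
    have h4 : 4 ≤ Fintype.card (GaloisField p j) := by
      rw [hcard]
      by_contra hlt
      have hp3 : 3 ≤ p := by have := hp.two_le; omega
      have hle : p ≤ p ^ j := Nat.le_self_pow (by omega) p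
      have hp' : p = 3 := by omega
      subst hp'
      have hj1 : j = 1 := by
        by_contra hne
        have := Nat.pow_le_pow_right (show 0 < 3 by norm_num) (show 2 ≤ j by omega)
        omega
      subst hj1
      subst hj
      norm_num at h9
    obtain ⟨hc, hconj, hns⟩ := not_forall_isSolvable h2 h4
    haveI : Finite (AGSL (GaloisField p j)) := Finite.of_equiv _ SemidirectProduct.equivProd.symm
    refine hns (h _ ?_ hconj)
    rw [hc, hcard, ← pow_mul, hj, mul_two]
  · intro hk' G _ _ hcount hcl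
    refine (isSolvable_or_good hp hp2 hcount hcl).resolve_right fun hgood => ?_
    rcases hk' with hodd | h9
    · obtain ⟨m, hm⟩ := hgood.1
      obtain ⟨l, hl⟩ := (Nat.dvd_prime_pow hp).1 (Dvd.intro m hm.symm)
      rw [hl.2, ← pow_add] at hm
      have := Nat.pow_right_injective hp.two_le hm
      exact Nat.not_even_iff_odd.2 hodd ⟨l, this⟩
    · exact hgood.2 h9

end CfsgLib.Pyramidal12
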